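import Groth.Agent.Lib.CMReg18.Koszul
import Groth.Agent.Lib.CurveCoh17.LES
import Groth.Agent.Lib.ModM1.Exact

/-!
# Vanishing of cohomology along a complex
-/

set_option autoImplicit false
set_option linter.style.haveILetI false
set_option backward.isDefEq.respectTransparency false

universe u

open CategoryTheory CategoryTheory.Limits AlgebraicGeometry TopologicalSpace Opposite

namespace Groth.Agent.CMReg18

open Groth.Agent Groth.Agent.CurveCoh17

variable (k : Type u) [CommRing k] {X : Scheme.{u}} [X.Over (Spec (CommRingCat.of k))]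

theorem hmap_add {M N : X.Modules} (φ ψ : M ⟶ N) (n : ℕ) (x : Coh.HH X M n) :
    hmap k (φ + ψ) n x = hmap k φ n x + hmap k ψ n x := by
  apply (CohFound.hhExt N n).injective
  rw [map_add, hhExt_hmap, hhExt_hmap, hhExt_hmap, Functor.map_add, CohFound.mp_add]

include k

theorem van_iso {M N : X.Modules} (e : M ≅ N) {n : ℕ} (h : Subsingleton (Coh.HH X M n)) :
    Subsingleton (Coh.HH X N n) :=
  (hequiv k e n).toEquiv.subsingleton_congr.1 h

theorem van_isZero {M : X.Modules} (hM : IsZero M) (n : ℕ) : Subsingleton (Coh.HH X M n) :=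
  ⟨fun x y => by rw [← hmap_id k M n x, ← hmap_id k M n y, hM.eq_of_src (𝟙 M) 0, hmap_zero, hmap_zero]⟩

theorem van_biprod {M N : X.Modules} {n : ℕ} (hM : Subsingleton (Coh.HH X M n))
    (hN : Subsingleton (Coh.HH X N n)) : Subsingleton (Coh.HH X (M ⊞ N) n) := by
  refine subsingleton_of_forall_eq 0 fun x => ?_
  rw [← hmap_id k (M ⊞ N) n x, ← biprod.total, hmap_add, hmap_comp, hmap_comp,
    Subsingleton.elim (hmap k (biprod.fst : M ⊞ N ⟶ M) n x) 0,
    Subsingleton.elim (hmap k (biprod.snd : M ⊞ N ⟶ N) n x) 0, map_zero, map_zero, add_zero]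

variable {S : ShortComplex X.Modules} (hS : S.ShortExact)
include hS

theorem van₂ {n : ℕ} (h1 : Subsingleton (Coh.HH X S.X₁ n)) (h3 : Subsingleton (Coh.HH X S.X₃ n)) :
    Subsingleton (Coh.HH X S.X₂ n) := by
  refine subsingleton_of_forall_eq 0 fun x => ?_
  obtain ⟨y, rfl⟩ := (exact_hmap_hmap k hS n x).1 (Subsingleton.elim _ _)
  rw [Subsingleton.elim y 0, map_zero]

theorem van₃ {n : ℕ} (h2 : Subsingleton (Coh.HH X S.X₂ n)) (h1 : Subsingleton (Coh.HH X S.X₁ (n + 1))) :
    Subsingleton (Coh.HH X S.X₃ n) := by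
  refine subsingleton_of_forall_eq 0 fun x => ?_
  obtain ⟨y, rfl⟩ := (exact_hmap_hdelta k hS n x).1 (Subsingleton.elim _ _)
  rw [Subsingleton.elim y 0, map_zero]

theorem van₁ {n : ℕ} (h3 : Subsingleton (Coh.HH X S.X₃ n)) (h2 : Subsingleton (Coh.HH X S.X₂ (n + 1))) :
    Subsingleton (Coh.HH X S.X₁ (n + 1)) := by
  refine subsingleton_of_forall_eq 0 fun x => ?_
  obtain ⟨y, rfl⟩ := (exact_hdelta_hmap k hS n x).1 (Subsingleton.elim _ _)
  rw [Subsingleton.elim y 0, map_zero]

theorem surjective_g {n : ℕ} (h1 : Subsingleton (Coh.HH X S.X₁ (n + 1))) :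
    Function.Surjective (hmap k S.g n) := fun x => by
  obtain ⟨y, rfl⟩ := (exact_hmap_hdelta k hS n x).1 (Subsingleton.elim _ _)
  exact ⟨y, rfl⟩

end Groth.Agent.CMReg18

namespace Groth.Agent.CMReg18

open Groth.Agent Groth.Agent.CurveCoh17

variable {X : Scheme.{u}} (C : ChainComplex X.Modules ℕ) (j : ℕ)

/-- Cycles in degree `j + 1`. -/
noncomputable abbrev Zc : X.Modules := kernel (C.d (j + 1) j)

/-- Boundaries in degree `j`. -/
noncomputable abbrev Bd : X.Modules := Abelian.image (C.d (j + 1) j)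

theorem bdInCycles_zero : Abelian.image.ι (C.d (j + 2) (j + 1)) ≫ C.d (j + 1) j = 0 := by
  rw [← cancel_epi (Abelian.factorThruImage (C.d (j + 2) (j + 1))), ← Category.assoc, Abelian.image.fac,
    C.d_comp_d, comp_zero]

/-- Boundaries are cycles. -/
noncomputable abbrev bdInCycles : Bd C (j + 1) ⟶ Zc C j :=
  kernel.lift _ (Abelian.image.ι (C.d (j + 2) (j + 1))) (bdInCycles_zero C j)

instance mono_bdInCycles : Mono (bdInCycles C j) :=
  mono_of_mono_fac (kernel.lift_ι _ _ (bdInCycles_zero C j))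

theorem cycles_comp : kernel.ι (C.d (j + 1) j) ≫ Abelian.factorThruImage (C.d (j + 1) j) = 0 := by
  rw [← cancel_mono (Abelian.image.ι (C.d (j + 1) j)), Category.assoc, Abelian.image.fac, kernel.condition,
    zero_comp]

theorem shortExact_cycles : (ShortComplex.mk _ _ (cycles_comp C j)).ShortExact where
  exact := ShortComplex.exact_of_f_is_kernel _ (KernelFork.IsLimit.ofι _ _
    (fun g hg => kernel.lift _ g (by rw [← Abelian.image.fac (C.d (j + 1) j), ← Category.assoc]; simp [hg]))
    (fun g hg => kernel.lift_ι _ _ _) fun g hg m hm => by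
      rw [← cancel_mono (kernel.ι (C.d (j + 1) j)), kernel.lift_ι]; exact hm)
  mono_f := inferInstance
  epi_g := inferInstanceAs (Epi (Abelian.factorThruImage (C.d (j + 1) j)))

theorem shortExact_hom : (ShortComplex.mk (bdInCycles C j) (cokernel.π (bdInCycles C j))
    (cokernel.condition _)).ShortExact :=
  { exact := ShortComplex.exact_cokernel _ }

/-- Exactness from the stalks. -/
theorem exact_of_exactVia (hC : ∀ x : X, ExactVia (M1.stalkAb x) C) :
    Epi (C.d 1 0) ∧ ∀ j, (ShortComplex.mk (C.d (j + 2) (j + 1)) (C.d (j + 1) j) (C.d_comp_d _ _ _)).Exact :=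
  ⟨(M1.epi_iff_stalk _).2 fun x => (hC x).1,
    fun j => (M1.exact_iff_stalk_eq_zero _).2 fun x b hb => (hC x).2 j b hb⟩

theorem isZero_hom_of_exact
    (h : (ShortComplex.mk (C.d (j + 2) (j + 1)) (C.d (j + 1) j) (C.d_comp_d _ _ _)).Exact) :
    IsZero (cokernel (bdInCycles C j)) := by
  haveI := (ShortComplex.exact_iff_epi_kernel_lift _).1 h
  haveI : Epi (bdInCycles C j) := by
    refine epi_of_epi_fac (f := Abelian.factorThruImage (C.d (j + 2) (j + 1)))
      (h := kernel.lift (C.d (j + 1) j) (C.d (j + 2) (j + 1)) (C.d_comp_d _ _ _)) ?_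
    simp [← cancel_mono (kernel.ι (C.d (j + 1) j))]
  exact isZero_cokernel_of_epi _

variable (k : Type u) [CommRing k] [X.Over (Spec (CommRingCat.of k))]
include k

/-- Vanishing on the boundaries of a bounded complex. -/
theorem van_bd {t : ℕ} (hb : ∀ s, t < s → IsZero (C.X s))
    (hH : ∀ i q, 2 ≤ q → Subsingleton (Coh.HH X (cokernel (bdInCycles C i)) q)) :
    ∀ (j q : ℕ), 1 ≤ q → (∀ l, Subsingleton (Coh.HH X (C.X (j + 1 + l)) (q + l))) →
      Subsingleton (Coh.HH X (Bd C j) q) := by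
  suffices h : ∀ r j q, t + 1 - j ≤ r → 1 ≤ q → (∀ l, Subsingleton (Coh.HH X (C.X (j + 1 + l)) (q + l))) →
      Subsingleton (Coh.HH X (Bd C j) q) from fun j q hq hl => h _ j q le_rfl hq hl
  intro r
  induction r with
  | zero =>
    intro j q hj _ _
    exact van_isZero k (IsZero.of_epi (Abelian.factorThruImage (C.d (j + 1) j)) (hb _ (by omega))) q
  | succ r ih =>
    intro j q hj hq hl
    refine van₃ k (shortExact_cycles C j) (hl 0) ?_
    refine van₂ k (shortExact_hom C j) ?_ (hH j (q + 1) (by omega))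
    refine ih (j + 1) (q + 1) (by omega) (by omega) fun l => ?_
    have := hl (l + 1)
    rwa [show j + 1 + (l + 1) = j + 1 + 1 + l by omega, show q + (l + 1) = q + 1 + l by omega] at this

/-- Surjectivity on sections at the last step. -/
theorem surjective_d {t : ℕ} (hb : ∀ s, t < s → IsZero (C.X s)) (hC : ∀ x : X, ExactVia (M1.stalkAb x) C)
    (hl : ∀ l, Subsingleton (Coh.HH X (C.X (2 + l)) (1 + l))) :
    Function.Surjective (hmap k (C.d 1 0) 0) := by
  obtain ⟨he, hex⟩ := exact_of_exactVia C hC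
  haveI := he
  have hZ : Subsingleton (Coh.HH X (Zc C 0) 1) :=
    van₂ k (shortExact_hom C 0)
      (van_bd C k hb (fun i q _ => van_isZero k (isZero_hom_of_exact C i (hex i)) q) 1 1 le_rfl hl)
      (van_isZero k (isZero_hom_of_exact C 0 (hex 0)) 1)
  exact surjective_g k (S := ShortComplex.mk (kernel.ι (C.d 1 0)) (C.d 1 0) (kernel.condition _))
    { exact := ShortComplex.exact_kernel _ } hZ

/-- Vanishing in degree zero of an exact complex. -/
theorem van_zero {t : ℕ} (hb : ∀ s, t < s → IsZero (C.X s)) (hC : ∀ x : X, ExactVia (M1.stalkAb x) C) {q : ℕ}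
    (hq : 1 ≤ q) (hl : ∀ l, Subsingleton (Coh.HH X (C.X (1 + l)) (q + l))) :
    Subsingleton (Coh.HH X (C.X 0) q) := by
  obtain ⟨he, hex⟩ := exact_of_exactVia C hC
  haveI := he
  haveI : Epi (Abelian.image.ι (C.d 1 0)) := epi_of_epi_fac (Abelian.image.fac (C.d 1 0))
  haveI : IsIso (Abelian.image.ι (C.d 1 0)) := isIso_of_mono_of_epi _
  exact van_iso k (asIso (Abelian.image.ι (C.d 1 0)))
    (van_bd C k hb (fun i r _ => van_isZero k (isZero_hom_of_exact C i (hex i)) r) 0 q hq hl)

end Groth.Agent.CMReg18
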