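import Groth.Agent.Lib.CMReg18.Vanish
import Groth.Agent.Lib.Snapper.Section
import Groth.Agent.Lib.TensorNat17.Basic
import Groth.Agent.Lib.CurveCoh17.Skyscraper
import Groth.Agent.Lib.RelAmple18.Generation
import Groth.Prelude.Def_Curv2

/-!
# Castelnuovo–Mumford regularity for a family of twists with a generating family of sections
-/

set_option autoImplicit false
set_option linter.style.haveILetI false
set_option backward.isDefEq.respectTransparency false

universe u

open CategoryTheory CategoryTheory.Limits AlgebraicGeometry TopologicalSpace Opposite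

namespace Groth.Agent.CMReg18

open Groth.Agent

/-- Twisting modules together with finitely many sections of the first twist without common zero. -/
structure TwistData (X : Scheme.{u}) where
  O : ℤ → X.Modules
  inv : ∀ a, PicF.IsInvertible (O a)
  zero : O 0 ≅ Coh.structureModule X
  add : ∀ a b, CohB1.tensorMod (O a) (O b) ≅ O (a + b)
  num : ℕ
  sec : Fin num → (Coh.structureModule X ⟶ O 1)
  gen : ∀ x : X, ∃ j, x ∈ CohB1.genLocus (O 1) (sec j)

namespace TwistData

variable {X : Scheme.{u}} (D : TwistData X)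

/-- The twist. -/
noncomputable abbrev tw (F : X.Modules) (a : ℤ) : X.Modules := CohB1.tensorMod F (D.O a)

noncomputable def twIso (F : X.Modules) {a b : ℤ} (h : a = b) : D.tw F a ≅ D.tw F b := eqToIso (by rw [h])

noncomputable def twZero (F : X.Modules) : D.tw F 0 ≅ F :=
  M2.tensorIso (Iso.refl F) D.zero ≪≫ M2.tensorRUnit F

noncomputable def twTwist (F : X.Modules) (a b : ℤ) : D.tw (D.tw F a) b ≅ D.tw F (a + b) :=
  M2.tensorAssoc F (D.O a) (D.O b) ≪≫ M2.tensorIso (Iso.refl F) (D.add a b)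

/-- The functor of twisting down. -/
noncomputable abbrev down : X.Modules ⥤ X.Modules := M2.tensorR (D.O (-1))

noncomputable def invIso : CohB1.tensorMod (D.O 1) (D.O (-1)) ≅ Coh.structureModule X :=
  D.add 1 (-1) ≪≫ eqToIso (by norm_num) ≪≫ D.zero

/-- The multiplication by a section. -/
noncomputable def mul (j : Fin D.num) : D.down ⟶ 𝟭 X.Modules where
  app M := (M2.tensorComm M (D.O (-1))).hom ≫ Snapper.mulMap (Snapper.secMap (D.sec j) D.invIso) M
  naturality M N f := by
    have h1 := M2.tensorComm_natural f (𝟙 (D.O (-1)))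
    have h2 : M2.tensorMap (𝟙 (D.O (-1))) f ≫ M2.tensorMap (Snapper.secMap (D.sec j) D.invIso) (𝟙 N) =
        M2.tensorMap (Snapper.secMap (D.sec j) D.invIso) (𝟙 M) ≫ M2.tensorMap (𝟙 (Coh.structureModule X)) f := by
      rw [← M2.tensorMap_comp, ← M2.tensorMap_comp, Category.id_comp, Category.id_comp, Category.comp_id,
        Category.comp_id]
    show M2.tensorMap f (𝟙 _) ≫ _ = _ ≫ f
    rw [← Category.assoc, h1, Category.assoc, Snapper.mulMap, Snapper.mulMap, ← Category.assoc (M2.tensorMap _ f), h2,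
      Category.assoc, M2.tensorLUnit_natural f]
    simp only [Category.assoc]

/-- The transformations of the Koszul complex. -/
noncomputable def muls : List (D.down ⟶ 𝟭 X.Modules) := List.ofFn D.mul

theorem good_mul {x : X} {j : Fin D.num} (hx : x ∈ CohB1.genLocus (D.O 1) (D.sec j)) :
    Good (M1.stalkAb x) (D.mul j) := fun M => by
  have h1 := Snapper.bijective_mulMap_stalk (D.inv (-1)) (Snapper.secMap (D.sec j) D.invIso) M x
    ((Snapper.surjective_secMap_iff (D.inv 1) (D.inv (-1)) _ _ x).2 hx)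
  have h2 := Snapper.bijective_stalkLin_iso (M2.tensorComm M (D.O (-1))) x
  have h : ⇑((M1.stalkAb x).map (ap (D.mul j) M)) =
      ⇑(CurveCoh17.stalkLin (Snapper.mulMap (Snapper.secMap (D.sec j) D.invIso) M) x) ∘
        ⇑(CurveCoh17.stalkLin (M2.tensorComm M (D.O (-1))).hom x) :=
    funext fun a => CurveCoh17.stalkLin_comp _ _ x a
  rw [h]
  exact h1.comp h2

theorem exactVia (F : X.Modules) (x : X) : ExactVia (M1.stalkAb x) (koszul D.muls F) := by
  obtain ⟨j, hj⟩ := D.gen x
  exact exactVia_koszul _ _ F ⟨_, (List.mem_ofFn' _ _).2 ⟨j, rfl⟩, D.good_mul hj⟩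

noncomputable def tpowIso (F : X.Modules) (a : ℤ) : ∀ j : ℕ, tpow D.down (D.tw F a) j ≅ D.tw F (a - j)
  | 0 => D.twIso F (by simp)
  | j + 1 => D.down.mapIso (tpowIso F a j) ≪≫ D.twTwist F _ _ ≪≫ D.twIso F (by push_cast; ring)

variable (k : Type u) [CommRing k] [X.Over (Spec (CommRingCat.of k))]

theorem bounded (F : X.Modules) (s : ℕ) (hs : D.num < s) : IsZero ((koszul D.muls F).X s) :=
  koszul_isZero _ _ _ (by rw [muls, List.length_ofFn]; exact hs)

include k in
theorem van_koszul (F : X.Modules) (j q : ℕ) (h : Subsingleton (Coh.HH X (tpow D.down F j) q)) :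
    Subsingleton (Coh.HH X ((koszul D.muls F).X j) q) :=
  koszul_ind D.muls (fun M => Subsingleton (Coh.HH X M q)) (fun e h => van_iso k e h)
    (fun _ h => van_isZero k h q) (fun _ _ h1 h2 => van_biprod k h1 h2) F j h

include k in
/-- The multiplication of sections is onto; only as many conditions as sections. -/
theorem mem_iSup_mul_le (M : X.Modules)
    (h : ∀ l, 2 + l ≤ D.num → Subsingleton (Coh.HH X (tpow D.down M (2 + l)) (1 + l))) (x : Coh.HH X M 0) :
    x ∈ ⨆ j : Fin D.num, LinearMap.range (CurveCoh17.hmap k (ap (D.mul j) M) 0) := by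
  have hs := surjective_d (koszul D.muls M) k (D.bounded M) (D.exactVia M)
    fun l => if hl : 2 + l ≤ D.num then D.van_koszul k M _ _ (h l hl)
      else van_isZero k (D.bounded M _ (by omega)) _
  obtain ⟨y, hy⟩ := hs (CurveCoh17.hmap k (eqToHom (koszul_X_zero M D.muls).symm) 0 x)
  let S := ⨆ j : Fin D.num, LinearMap.range (CurveCoh17.hmap k (ap (D.mul j) M) 0)
  have h1 := koszul_d_ind D.muls M (fun G f => ∀ z : Coh.HH X G 0, CurveCoh17.hmap k f 0 z ∈ S)
    (fun G z => by rw [CurveCoh17.hmap_zero]; exact S.zero_mem)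
    (fun G f g hf hg z => by rw [hmap_add]; exact S.add_mem (hf z) (hg z))
    (fun G H u f hf z => by rw [CurveCoh17.hmap_comp]; exact hf _)
    (fun η hη z => by
      obtain ⟨j, rfl⟩ := (List.mem_ofFn' _ _).1 hη
      exact Submodule.mem_iSup_of_mem j ⟨z, rfl⟩) y
  rw [CurveCoh17.hmap_comp, hy, ← CurveCoh17.hmap_comp, eqToHom_trans, eqToHom_refl, CurveCoh17.hmap_id] at h1
  exact h1

include k in
/-- The multiplication of sections is onto. -/
theorem mem_iSup_mul (M : X.Modules)
    (h : ∀ l, Subsingleton (Coh.HH X (tpow D.down M (2 + l)) (1 + l))) (x : Coh.HH X M 0) :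
    x ∈ ⨆ j : Fin D.num, LinearMap.range (CurveCoh17.hmap k (ap (D.mul j) M) 0) :=
  D.mem_iSup_mul_le k M (fun l _ => h l) x

/-- Regularity. -/
def IsReg (F : X.Modules) (m : ℤ) : Prop :=
  ∀ i : ℕ, 1 ≤ i → Subsingleton (Coh.HH X (D.tw F (m - i)) i)

variable {D} {F : X.Modules} {m : ℤ}

include k

theorem IsReg.succ (h : D.IsReg F m) : D.IsReg F (m + 1) := fun i hi => by
  have h0 := van_zero (koszul D.muls (D.tw F (m + 1 - i))) k (D.bounded _) (D.exactVia _) hi fun l =>
    D.van_koszul k _ _ _ (van_iso k ((D.twIso F (by push_cast; ring)) ≪≫ (D.tpowIso F _ (1 + l)).symm)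
      (h (i + l) (by omega)))
  exact van_iso k (eqToIso (koszul_X_zero _ _)) h0

theorem IsReg.of_le (h : D.IsReg F m) {n : ℤ} (hn : m ≤ n) : D.IsReg F n := by
  obtain ⟨d, rfl⟩ : ∃ d : ℕ, n = m + d := ⟨(n - m).toNat, by omega⟩
  induction d with
  | zero => simpa using h
  | succ d ih => exact (show m + ((d + 1 : ℕ) : ℤ) = m + d + 1 by push_cast; ring) ▸ (ih (by omega)).succ k

theorem IsReg.van (h : D.IsReg F m) {i : ℕ} (hi : 1 ≤ i) {r : ℤ} (hr : m - i ≤ r) :
    Subsingleton (Coh.HH X (D.tw F r) i) := by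
  have := (h.of_le k (show m ≤ r + i by omega)) i hi
  rwa [show r + (i : ℤ) - i = r by ring] at this

theorem IsReg.mem_iSup_mul (h : D.IsReg F m) {a : ℤ} (ha : m + 1 ≤ a) (x : Coh.HH X (D.tw F a) 0) :
    x ∈ ⨆ j : Fin D.num, LinearMap.range (CurveCoh17.hmap k (ap (D.mul j) (D.tw F a)) 0) :=
  D.mem_iSup_mul k _ (fun l => van_iso k (D.tpowIso F a (2 + l)).symm
    (h.van k (by omega) (by push_cast; omega))) x

end TwistData

end Groth.Agent.CMReg18
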