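import Groth.Agent.Lib.CMReg18.Strata
import Groth.Agent.Lib.ModM1.Local
import Groth.Agent.Lib.ModM1.LocFree

/-!
# Flat base changes of a good twist, over an arbitrary base
-/

set_option autoImplicit false
set_option linter.style.haveILetI false
set_option backward.isDefEq.respectTransparency false
set_option maxHeartbeats 1600000

universe u

open CategoryTheory CategoryTheory.Limits AlgebraicGeometry TopologicalSpace Opposite Scheme.Modules

namespace Groth.Agent.CMReg18

open Groth.Agent Groth.Agent.M1

theorem isIso_of_residue_fibres' {T : Scheme.{u}} {A B : T.Modules} (β : A ⟶ B)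
    (hA : CohB1.IsFT A) (hAq : Coh.IsQCoh A) (hB : FlatMod.IsFinLocFree B)
    (h : ∀ t : T, IsIso ((Scheme.Modules.pullback (T.fromSpecResidueField t)).map β)) : IsIso β := by
  have hBp : CohB1.IsFP B := M1.isFP_of_isFinLocFree hB
  have hBq : Coh.IsQCoh B := M1.isFP_isQCoh hBp
  have hzero : ∀ {M : T.Modules}, Coh.IsQCoh M → CohB1.IsFT M →
      (∀ t, IsZero ((Scheme.Modules.pullback (T.fromSpecResidueField t)).obj M)) → IsZero M := fun {M} hMq hMt hz =>
    SerreCl8.isZero_of_support_eq_empty (Set.eq_empty_of_forall_notMem fun t ht => by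
      have hp : Subsingleton (Spec (T.residueField t)) := inferInstanceAs (Subsingleton (PrimeSpectrum (T.residueField t)))
      let z : Spec (T.residueField t) := IsLocalRing.closedPoint (T.residueField t)
      have hmem : z ∈ CohB1.support ((Scheme.Modules.pullback (T.fromSpecResidueField t)).obj M) := by
        rw [M2.support_pullback (T.fromSpecResidueField t) hMq hMt, Set.mem_preimage]
        erw [T.fromSpecResidueField_apply]
        exact ht
      exact hmem (by
        haveI := hz t
        exact AddCommGrpCat.subsingleton_of_isZero ((M1.stalkAb z).map_isZero (hz t))))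
  haveI hepi : Epi β := by
    refine Preadditive.epi_of_isZero_cokernel β (hzero (M1.isQCoh_cokernel hAq hBq β) (M1.isFT_of_epi (cokernel.π β) (M1.isFP_isFT hBp)) fun t => ?_)
    haveI := h t
    haveI : PreservesColimitsOfSize.{0, 0} (Scheme.Modules.pullback (T.fromSpecResidueField t)) :=
      (pullbackPushforwardAdjunction _).leftAdjoint_preservesColimits
    refine IsZero.of_epi_eq_zero ((Scheme.Modules.pullback (T.fromSpecResidueField t)).map (cokernel.π β)) ?_
    haveI : (Scheme.Modules.pullback (T.fromSpecResidueField t)).Additive :=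
      (pullbackPushforwardAdjunction _).left_adjoint_additive
    rw [← cancel_epi ((Scheme.Modules.pullback (T.fromSpecResidueField t)).map β), ← Functor.map_comp,
      cokernel.condition, Functor.map_zero, comp_zero]
  have hK : IsZero (kernel β) := by
    refine hzero (M1.isQCoh_kernel hAq hBq β) (M1.isFT_kernel hA hBp β) fun t => ?_
    haveI := h t
    let p := Scheme.Modules.pullback (T.fromSpecResidueField t)
    haveI : p.Additive := (pullbackPushforwardAdjunction _).left_adjoint_additive
    haveI : Mono (p.map (kernel.ι β)) := by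
      have hse : (ShortComplex.mk (kernel.ι β) β (kernel.condition β)).ShortExact :=
        { exact := ShortComplex.exact_of_f_is_kernel _ (kernelIsKernel β) }
      exact KFlat.Sch.mono_pullback_map (T.fromSpecResidueField t) _ hse
        ((KFlat.Sch.isFlat_iff B).2 (KFlat.Sch.isFlat_of_isFinLocFree hB))
    refine IsZero.of_mono_eq_zero (p.map (kernel.ι β)) ?_
    rw [← cancel_mono (p.map β), ← Functor.map_comp, kernel.condition, Functor.map_zero, zero_comp]
  haveI : Mono β := Preadditive.mono_of_isZero_kernel β hK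
  exact isIso_of_mono_of_epi β

variable {X S X' T : Scheme.{u}} {f : X ⟶ S} [IsProper f] [IsNoetherian S] {φ : T ⟶ S} {f' : X' ⟶ T} {g' : X' ⟶ X}
  {F L : X.Modules} {n : ℕ}

/-- A flat base change has locally free direct images commuting with base change. -/
theorem of_flat' (hF : Coh.IsCoh F) (hL : RelAmple.IsRelAmple f L) (hn : GoodTwist f F L n)
    (h : IsPullback g' f' f φ)
    (hfl : FlatMod.IsFlatOver f' ((Scheme.Modules.pullback g').obj F)) :
    IsIso (CohBC.bc0 f φ f' g' h.w (CohB1.tensorMod F (CohB1.tensorPow L n))) ∧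
      FlatMod.IsFinLocFree ((Scheme.Modules.pushforward f').obj
        ((Scheme.Modules.pullback g').obj (CohB1.tensorMod F (CohB1.tensorPow L n)))) ∧
      ∀ t : T, IsIso (CohBC.bc0 f' (T.fromSpecResidueField t) (f'.fiberToSpecResidueField t) (f'.fiberι t)
        (f'.fiber_fac t) ((Scheme.Modules.pullback g').obj (CohB1.tensorMod F (CohB1.tensorPow L n)))) := by
  haveI : IsLocallyNoetherian X := LocallyOfFiniteType.isLocallyNoetherian f
  haveI : IsProper f' := MorphismProperty.of_isPullback (P := @IsProper) h inferInstance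
  haveI : LocallyOfFinitePresentation f' := MorphismProperty.of_isPullback (P := @LocallyOfFinitePresentation) h inferInstance
  have hLi := RA.isInvertible_of_isRelAmple f hL
  let G := CohB1.tensorMod F (CohB1.tensorPow L n)
  have hG : Coh.IsCoh G := isCoh_twist hF hLi n
  haveI : Coh.IsQCoh G := hG.1
  let G' := (Scheme.Modules.pullback g').obj G
  have hG' : CohB1.IsFP G' := M1.isFP_pullback g' (M1.isFP_of_isCoh hG)
  haveI : Coh.IsQCoh G' := M1.isFP_isQCoh hG'
  have hflG : FlatMod.IsFlatOver f' G' := fun x =>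
    SchDom.isFlatOverAt_of_iso f' (pullTwist g' F L n).symm x
      (FlatTwist13.isFlatOver_tensor f' hfl
        (Amp.isInvertible_tensorPow (PicLoc.isInvertible_pullback g' hLi) n) x)
  have hmod : ∀ t : T, ∃ (V : T.Opens) (M : CBC10.Model f' G' V), t ∈ V ∧ M.FlatCok (-1) := fun t => by
    obtain ⟨V, M, htV, h1, -⟩ := CBC10.exists_nhd_H1 hG' hflG t
      (subsingleton_fiberH_baseChange h (M1.isFP_of_isCoh hG) t 1 ((hn (φ t)).1 1 le_rfl))
    exact ⟨V, M, htV, h1⟩
  have hfree := CBC10.isFinLocFree_push hmod
  have hpt : ∀ t : T, IsIso (CohBC.bc0 f' (T.fromSpecResidueField t) (f'.fiberToSpecResidueField t) (f'.fiberι t)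
      (f'.fiber_fac t) G') := fun t =>
    CBC10.isIso_bc0 (IsPullback.of_hasPullback f' (T.fromSpecResidueField t)) G' fun z => hmod _
  have hpc : Coh.IsCoh ((Scheme.Modules.pushforward f).obj G) :=
    isCoh_push f hG
  refine ⟨isIso_of_residue_fibres' _ (M1.isFT_pullback φ hpc.2) (M1.isQCoh_pullback φ hpc.1) hfree fun t => ?_, hfree, hpt⟩
  let τ := T.fromSpecResidueField t
  have w : (f'.fiberι t ≫ g') ≫ f = f'.fiberToSpecResidueField t ≫ τ ≫ φ :=
    ((IsPullback.of_hasPullback f' τ).paste_horiz h).w
  haveI := (hn (φ t)).2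
  haveI := isIso_bc0_point_baseChange h G w
  haveI := hpt t
  haveI : IsIso ((Scheme.Modules.pullback τ).map (CohBC.bc0 f φ f' g' h.w G) ≫
      (CohBC.bc0 f' τ (f'.fiberToSpecResidueField t) (f'.fiberι t) (f'.fiber_fac t) G' ≫
        (Scheme.Modules.pushforward (f'.fiberToSpecResidueField t)).map
          ((pullbackComp (f'.fiberι t) g').hom.app G))) := by
    rw [← bc0_paste f φ f' g' h.w τ (f'.fiberToSpecResidueField t) (f'.fiberι t) (f'.fiber_fac t) w G]
    infer_instance
  exact IsIso.of_isIso_comp_right _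
      (CohBC.bc0 f' τ (f'.fiberToSpecResidueField t) (f'.fiberι t) (f'.fiber_fac t) G' ≫
        (Scheme.Modules.pushforward (f'.fiberToSpecResidueField t)).map
          ((pullbackComp (f'.fiberι t) g').hom.app G))

/-- The rank of the direct image at a point of a flat base change. -/
theorem rankOn_of_flat' (hF : Coh.IsCoh F) (hL : RelAmple.IsRelAmple f L) (hn : GoodTwist f F L n)
    (h : IsPullback g' f' f φ)
    (hfl : FlatMod.IsFlatOver f' ((Scheme.Modules.pullback g').obj F)) (t : T) :
    ∃ U : T.Opens, t ∈ U ∧ Nonempty (((Scheme.Modules.pullback φ).obj ((Scheme.Modules.pushforward f).obj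
        (CohB1.tensorMod F (CohB1.tensorPow L n)))).restrict U.ι ≅ FlatMod.freeMod (U : Scheme.{u})
          (CohIII.fiberRank f (CohB1.tensorMod F (CohB1.tensorPow L n)) 0 (φ t))) := by
  obtain ⟨hiso, hfree, hpt⟩ := of_flat' hF hL hn h hfl
  haveI : IsProper f' := MorphismProperty.of_isPullback (P := @IsProper) h inferInstance
  haveI := hiso
  obtain ⟨U, m, htU, ⟨e⟩⟩ := hfree t
  haveI := hpt t
  haveI : IsLocallyNoetherian X := LocallyOfFiniteType.isLocallyNoetherian f
  have hm : m = CohIII.fiberRank f (CohB1.tensorMod F (CohB1.tensorPow L n)) 0 (φ t) :=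
    (rank_eq_fiberRank _ htU e).symm.trans (finrank_fiberH_baseChange h
      (M1.isFP_of_isCoh (isCoh_twist hF (RA.isInvertible_of_isRelAmple f hL) n)) t 0)
  subst hm
  exact ⟨U, htU, ⟨(Scheme.Modules.restrictFunctor U.ι).mapIso
    (asIso (CohBC.bc0 f φ f' g' h.w (CohB1.tensorMod F (CohB1.tensorPow L n)))) ≪≫ e⟩⟩

variable {N : ℕ}

/-- Any local rank of the direct image on a flat base change is the dimension on the fibre. -/
theorem rank_unique' (hF : Coh.IsCoh F) (hL : RelAmple.IsRelAmple f L) (hN : ∀ n, N ≤ n → GoodTwist f F L n)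
    (h : IsPullback g' f' f φ)
    (hfl : FlatMod.IsFlatOver f' ((Scheme.Modules.pullback g').obj F)) {k : ℕ} {U : T.Opens} {t : T} (ht : t ∈ U)
    {m : ℕ} (e : ((Scheme.Modules.pullback φ).obj (pushG f F L N k)).restrict U.ι ≅
      FlatMod.freeMod (U : Scheme.{u}) m) : m = hilbRk f F L N (φ t) k := by
  haveI : IsLocallyNoetherian X := LocallyOfFiniteType.isLocallyNoetherian f
  obtain ⟨hiso, -, hpt⟩ := of_flat' hF hL (hN _ (Nat.le_add_right N k)) h hfl
  haveI : IsProper f' := MorphismProperty.of_isPullback (P := @IsProper) h inferInstance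
  haveI := hiso
  haveI := hpt t
  exact (rank_eq_fiberRank _ ht ((Scheme.Modules.restrictFunctor U.ι).mapIso
    (asIso (CohBC.bc0 f φ f' g' h.w (twG F L N k))).symm ≪≫ e)).symm.trans
      (finrank_fiberH_baseChange h (M1.isFP_of_isCoh (isCoh_twist hF (RA.isInvertible_of_isRelAmple f hL) _)) t 0)

end Groth.Agent.CMReg18
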