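import Groth.Agent.Lib.CMReg18.GG
import Groth.Agent.Lib.Snapper.Vanish
import Groth.Agent.Lib.Twist.Ample
import Groth.Agent.Lib.Twist.ProjSpace
import Groth.Agent.Lib.ProjSpace.Basic
import Groth.Agent.Lib.NumPoly18.SurfProj
import Groth.Agent.S10829
import Groth.Prelude.Def_Pic13

/-!
# Regularity on projective space and its closed subschemes
-/

set_option autoImplicit false
set_option linter.style.haveILetI false
set_option backward.isDefEq.respectTransparency false

universe u

open CategoryTheory CategoryTheory.Limits AlgebraicGeometry TopologicalSpace Opposite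

namespace Groth.Agent.CMReg18

open Groth.Agent

/-- The twists of projective space, with the coordinates. -/
noncomputable def projData (k : Type u) [CommRing k] (n : ℕ) : TwistData (CohB1.ProjSpace n k) where
  O := _root_.Twist.twistProjSpace n k
  inv := Twist.isInvertible_twistProjSpace n k
  zero := (Twist.nonempty_twist_zero_iso (CohB1.polyGrading n k)).some
  add a b := (Twist.nonempty_tensor_iso (CohB1.polyGrading n k) a b (Twist.iSup_basicOpen_one n k)).some
  num := n + 1
  sec j := M1.secHom (Twist.gsec (CohB1.polyGrading n k) (d := 1) ⟨MvPolynomial.X j, ProjSpace.X_mem' n k j⟩)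
  gen x := by
    obtain ⟨j, hj⟩ := Opens.mem_iSup.1 ((ProjSpace.iSup_basicOpen n k).ge (Set.mem_univ x))
    refine ⟨j, ?_⟩
    show x ∈ CohB1.genLocus (_root_.Twist.twist (CohB1.polyGrading n k) ((1 : ℕ) : ℤ)) _
    rw [Twist.genLocus_gsec _ (Twist.iSup_basicOpen_one n k)]
    exact hj

/-- Twisting data pulled back along a morphism. -/
noncomputable def TwistData.pullback {X Y : Scheme.{u}} (D : TwistData X) (f : Y ⟶ X) : TwistData Y where
  O a := (Scheme.Modules.pullback f).obj (D.O a)
  inv a := Twist.isInvertible_pullback f (D.inv a)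
  zero := (Scheme.Modules.pullback f).mapIso D.zero ≪≫ PicLoc.pullbackStructureIso f
  add a b := (M2.pullTensorIso f (D.O a) (D.O b)).symm ≪≫ (Scheme.Modules.pullback f).mapIso (D.add a b)
  num := D.num
  sec j := (PicLoc.pullbackStructureIso f).symm.hom ≫ (Scheme.Modules.pullback f).map (D.sec j)
  gen y := by
    obtain ⟨j, hj⟩ := D.gen (f y)
    exact ⟨j, (Amp.genLocus_pullback f (D.inv 1) (D.sec j) (PicLoc.pullbackStructureIso f).symm).ge hj⟩

namespace TwistData

variable {X : Scheme.{u}} (D : TwistData X)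

noncomputable def powIso : ∀ n : ℕ, CohB1.tensorPow (D.O 1) n ≅ D.O (n : ℤ)
  | 0 => D.zero.symm
  | n + 1 => M2.tensorIso (powIso n) (Iso.refl _) ≪≫ D.add (n : ℤ) 1

/-- Large twists are globally generated when the first one is ample. -/
theorem exists_gg_large (hA : CohB1.IsAmple (D.O 1)) {F : X.Modules} (hF : Coh.IsCoh F) :
    ∃ n₀ : ℤ, ∀ n, n₀ ≤ n → Curv2.IsGloballyGenerated (D.tw F n) := by
  obtain ⟨n₀, hn₀⟩ := RA.exists_globallyGenerated hA F hF.1 hF.2
  refine ⟨n₀, fun a ha => ?_⟩
  obtain ⟨d, rfl⟩ : ∃ d : ℕ, a = d := ⟨a.toNat, by omega⟩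
  obtain ⟨ι, p, hp⟩ := hn₀ d (by omega)
  exact ⟨ι, p ≫ (M2.tensorIso (Iso.refl F) (D.powIso d)).hom, epi_comp _ _⟩

end TwistData

variable (k : Type u) [Field k] {n : ℕ}

theorem isProper_projSpace :
    IsProper (CohB1.ProjSpace n k ↘ Spec (CommRingCat.of k)) := ProjSpace.isProper_toSpec n k

theorem isAmple_twistOne :
    CohB1.IsAmple (_root_.Twist.twistProjSpace n k 1) :=
  Twist.isAmple_twist (CohB1.polyGrading n k) _ (fun i => ProjSpace.X_mem' n k i)
    (ProjSpace.irrelevant_le_span n k) Nat.one_pos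

theorem subsingleton_HH_of_lt {F : (CohB1.ProjSpace n k).Modules} (hF : Coh.IsQCoh F) {i : ℕ} (hi : n < i) :
    Subsingleton (Coh.HH (CohB1.ProjSpace n k) F i) := by
  haveI := isProper_projSpace k (n := n)
  exact Snapper.subsingleton_HH_of_dim k n (S10829.result k n).le hF hi

/-- The regularity of the prelude. -/
theorem isMRegular_iff {F : (CohB1.ProjSpace n k).Modules} (hF : Coh.IsQCoh F) {m : ℤ} :
    Curv2.IsMRegular k n F m ↔ (projData k n).IsReg F m := by
  refine ⟨fun h i hi => ?_, fun h i hi _ => h i hi⟩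
  by_cases hin : i ≤ n
  · exact h i hi hin
  · exact subsingleton_HH_of_lt k (M2.isQCoh_tensor hF
      (Twist.isQCoh_twistProjSpace n k (m - i))) (by omega)

variable {k}

theorem isGloballyGenerated_of_isReg {F : (CohB1.ProjSpace n k).Modules} (hF : Coh.IsCoh F) {m : ℤ}
    (h : (projData k n).IsReg F m) :
    Curv2.IsGloballyGenerated (CohB1.tensorMod F (_root_.Twist.twistProjSpace n k m)) :=
  h.isGloballyGenerated _ k ((projData k n).exists_gg_large (isAmple_twistOne k) hF)

end Groth.Agent.CMReg18
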