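import Groth.Agent.Lib.CMReg18.Hyperplane
import Groth.Agent.Lib.CMReg18.Proj
import Groth.Agent.Lib.NumPoly18.LinPencil

/-!
# Hyperplanes avoiding associated points
-/

set_option autoImplicit false
set_option linter.style.haveILetI false
set_option backward.isDefEq.respectTransparency false

universe u

open CategoryTheory CategoryTheory.Limits AlgebraicGeometry TopologicalSpace Opposite

namespace Groth.Agent.CMReg18

open Groth.Agent

section dimension

variable {X : Type*} [TopologicalSpace X]

/-- A closed subset containing no component has smaller dimension. -/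
theorem krullDim_le_of_components {T C : Set X} (hC : IsClosed C) (hCT : C ⊆ T)
    (h : ∀ K ∈ irreducibleComponents ↥T, ¬ (Subtype.val '' K ⊆ C)) {d : ℕ}
    (hd : topologicalKrullDim ↥T ≤ ((d + 1 : ℕ) : WithBot ℕ∞)) : topologicalKrullDim ↥C ≤ (d : WithBot ℕ∞) := by
  refine iSup_le fun p => ?_
  let f : C → T := Set.inclusion hCT
  have hf : Topology.IsClosedEmbedding f :=
    Topology.IsClosedEmbedding.inclusion hCT (hC.preimage continuous_subtype_val)
  have hmono : StrictMono (IrreducibleCloseds.map f hf.continuous) :=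
    IrreducibleCloseds.map_strictMono_of_isInducing hf.isInducing
  obtain ⟨K, hK, hsub⟩ := exists_mem_irreducibleComponents_subset_of_isIrreducible
    (IrreducibleCloseds.map f hf.continuous p.last : Set T) (IrreducibleCloseds.map f hf.continuous p.last).isIrreducible'
  let top : IrreducibleCloseds T := ⟨K, hK.1, isClosed_of_mem_irreducibleComponents K hK⟩
  have hlt : IrreducibleCloseds.map f hf.continuous p.last < top := by
    refine lt_of_le_not_ge hsub fun hge => h K hK ?_
    rintro _ ⟨x, hx, rfl⟩
    have h2 : closure (f '' (p.last : Set C)) ⊆ Set.range f :=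
      closure_minimal (Set.image_subset_range _ _) hf.isClosed_range
    obtain ⟨c, rfl⟩ := h2 (hge hx)
    exact c.2
  have key := (Order.LTSeries.length_le_krullDim
    ((p.map _ hmono).snoc top (by simpa using hlt))).trans hd
  simp only [RelSeries.snoc_length, LTSeries.map_length] at key
  have h' : p.length + 1 ≤ d + 1 := by exact_mod_cast key
  exact_mod_cast (Nat.le_of_succ_le_succ h')

end dimension

variable {k : Type u} [Field k] {n : ℕ}

/-- A linear form avoiding finitely many points. -/
theorem exists_section_avoid [Infinite k] {S : Set (CohB1.ProjSpace n k)} (hS : S.Finite) :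
    ∃ s : Coh.structureModule (CohB1.ProjSpace n k) ⟶ (projData k n).O 1,
      ∀ x ∈ S, x ∈ CohB1.genLocus ((projData k n).O 1) s := by
  haveI := hS.to_subtype
  obtain ⟨g, hg⟩ := Submodule.exists_forall_notMem_of_forall_ne_top
    (fun x : S => NumPoly18.linVanish (k := k) (N := n) x.1) fun x e => by
      refine x.1.not_irrelevant_le fun z hz => Ideal.span_le.2 ?_ (ProjSpace.irrelevant_le_span n k hz)
      rintro _ ⟨i, rfl⟩
      exact NumPoly18.mem_linVanish.1 (e.ge (Submodule.mem_top (x := ⟨_, MvPolynomial.isHomogeneous_X k i⟩)))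
  refine ⟨M1.secHom (Twist.gsec (CohB1.polyGrading n k) (d := 1) g), fun x hx => ?_⟩
  show x ∈ CohB1.genLocus (_root_.Twist.twist (CohB1.polyGrading n k) ((1 : ℕ) : ℤ)) _
  rw [Twist.genLocus_gsec _ (Twist.iSup_basicOpen_one n k)]
  exact fun hmem => hg ⟨x, hx⟩ hmem

namespace TwistData

variable {X : Scheme.{u}} (D : TwistData X) (s : Coh.structureModule X ⟶ D.O 1)

/-- Multiplication by an arbitrary section. -/
noncomputable def mulSec (A : X.Modules) : D.tw A (-1) ⟶ A :=
  (M2.tensorComm A (D.O (-1))).hom ≫ Snapper.mulMap (Snapper.secMap s D.invIso) A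

theorem mulSec_natural {A B : X.Modules} (f : A ⟶ B) :
    (M2.tensorR (D.O (-1))).map f ≫ D.mulSec s B = D.mulSec s A ≫ f := by
  have h1 := M2.tensorComm_natural f (𝟙 (D.O (-1)))
  have h2 : M2.tensorMap (𝟙 (D.O (-1))) f ≫ M2.tensorMap (Snapper.secMap s D.invIso) (𝟙 B) =
      M2.tensorMap (Snapper.secMap s D.invIso) (𝟙 A) ≫ M2.tensorMap (𝟙 (Coh.structureModule X)) f := by
    rw [← M2.tensorMap_comp, ← M2.tensorMap_comp, Category.id_comp, Category.id_comp, Category.comp_id,
      Category.comp_id]
  show M2.tensorMap f (𝟙 _) ≫ _ = _ ≫ f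
  rw [mulSec, mulSec, ← Category.assoc, h1, Category.assoc, Snapper.mulMap, Snapper.mulMap,
    ← Category.assoc (M2.tensorMap _ f), h2, Category.assoc, M2.tensorLUnit_natural f]
  simp only [Category.assoc]

theorem mono_mulSec {A : X.Modules} (hA : Coh.IsQCoh A)
    (h : ∀ y, Curv2.IsWeakAssPoint A y → y ∈ CohB1.genLocus (D.O 1) s) : Mono (D.mulSec s A) := by
  haveI := Snapper.mono_mulMap (D.inv (-1)) (Snapper.secMap s D.invIso) hA fun y hy =>
    (Snapper.surjective_secMap_iff (D.inv 1) (D.inv (-1)) _ _ y).2 (h y hy)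
  exact mono_comp _ _

theorem support_coker_mulSec_subset {A : X.Modules} :
    CohB1.support (cokernel (D.mulSec s A)) ⊆
      CohB1.support A ∩ (CohB1.genLocus (D.O 1) s : Set X)ᶜ := by
  intro x hx
  refine ⟨CohFound.support_subset_of_epi (cokernel.π (D.mulSec s A)) hx, fun hg => hx ⟨fun a b => ?_⟩⟩
  have h1 := Snapper.bijective_mulMap_stalk (D.inv (-1)) (Snapper.secMap s D.invIso) A x
    ((Snapper.surjective_secMap_iff (D.inv 1) (D.inv (-1)) _ _ x).2 hg)
  have h2 := Snapper.bijective_stalkLin_iso (M2.tensorComm A (D.O (-1))) x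
  have hs : Function.Surjective (CurveCoh17.stalkLin (D.mulSec s A) x) := by
    have h : ⇑(CurveCoh17.stalkLin (D.mulSec s A) x) =
        ⇑(CurveCoh17.stalkLin (Snapper.mulMap (Snapper.secMap s D.invIso) A) x) ∘
          ⇑(CurveCoh17.stalkLin (M2.tensorComm A (D.O (-1))).hom x) :=
      funext fun a => CurveCoh17.stalkLin_comp _ _ x a
    rw [h]
    exact h1.2.comp h2.2
  exact (CurveCoh17.eq_zero_stalk_cokernel _ x hs a).trans (CurveCoh17.eq_zero_stalk_cokernel _ x hs b).symm

end TwistData

end Groth.Agent.CMReg18
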