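import Groth.Agent.Lib.TensorMod.PullSupport
import Groth.Agent.Lib.ModM1.Coh
import Groth.Agent.Lib.ModM1.Push
import Groth.Agent.Lib.ModM1.FT
import Groth.Agent.Lib.ModM1.Pull
import Groth.Agent.Lib.SerreCl8.Sub
import Groth.Agent.Lib.CBC10.Rows0
import Groth.Prelude.Def_CohBC2

/-!
# The counit of a family detected on the fibres
-/

set_option autoImplicit false
set_option linter.style.haveILetI false
set_option backward.isDefEq.respectTransparency false

universe u

open CategoryTheory CategoryTheory.Limits AlgebraicGeometry Scheme.Modules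

namespace Groth.Agent.CMReg18

open Groth.Agent

theorem conjugate_pullbackCongr_inv {X Y : Scheme.{u}} {f g : X ⟶ Y} (h : f = g) :
    conjugateEquiv (pullbackPushforwardAdjunction f) (pullbackPushforwardAdjunction g) (pullbackCongr h).inv =
      (pushforwardCongr h).hom := by
  subst h
  have h1 : (pullbackCongr (rfl : f = f)).inv = 𝟙 _ := rfl
  have h2 : (pushforwardCongr (rfl : f = f)).hom = 𝟙 _ := by
    ext M U x
    simp
  rw [h1, h2, conjugateEquiv_id]

variable {X S X' S' : Scheme.{u}} (f : X ⟶ S) (g : S' ⟶ S) (f' : X' ⟶ S') (g' : X' ⟶ X)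
  (w : g' ≫ f = f' ≫ g)

/-- The two composite inverse images of the square agree. -/
noncomputable def squareIso : Scheme.Modules.pullback g ⋙ Scheme.Modules.pullback f' ≅
    Scheme.Modules.pullback f ⋙ Scheme.Modules.pullback g' :=
  pullbackComp f' g ≪≫ pullbackCongr w.symm ≪≫ (pullbackComp g' f).symm

/-- The counit of the family restricts to base change followed by the counit of the restriction. -/
theorem bc0_counit (F : X.Modules) :
    (Scheme.Modules.pullback f').map (CohBC.bc0 f g f' g' w F) ≫
        (pullbackPushforwardAdjunction f').counit.app ((Scheme.Modules.pullback g').obj F) =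
      (squareIso f g f' g' w).hom.app ((Scheme.Modules.pushforward f).obj F) ≫
        (Scheme.Modules.pullback g').map ((pullbackPushforwardAdjunction f).counit.app F) := by
  let A₁ := (pullbackPushforwardAdjunction f).comp (pullbackPushforwardAdjunction g')
  let A₂ := (pullbackPushforwardAdjunction g).comp (pullbackPushforwardAdjunction f')
  let N := (Scheme.Modules.pushforward f).obj F
  let G := (Scheme.Modules.pullback g').obj F
  apply (A₂.homEquiv N G).injective
  -- the conjugate of the square
  have hconj : conjugateEquiv A₁ A₂ (squareIso f g f' g' w).hom =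
      (pushforwardComp g' f).hom ≫ (pushforwardCongr w).hom ≫ (pushforwardComp f' g).inv := by
    have e1 : conjugateEquiv A₁ (pullbackPushforwardAdjunction (g' ≫ f)) (pullbackComp g' f).inv =
        (pushforwardComp g' f).hom := conjugateEquiv_pullbackComp_inv g' f
    have e2 := conjugate_pullbackCongr_inv w
    have e3 : conjugateEquiv (pullbackPushforwardAdjunction (f' ≫ g)) A₂ (pullbackComp f' g).hom =
        (pushforwardComp f' g).inv := by
      rw [← cancel_epi (pushforwardComp f' g).hom, Iso.hom_inv_id,
        ← (conjugateEquiv_pullbackComp_inv f' g), conjugateEquiv_comp, Iso.hom_inv_id, conjugateEquiv_id]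
    have e4 : (pullbackCongr w.symm).hom = (pullbackCongr w).inv := rfl
    show conjugateEquiv A₁ A₂
      ((pullbackComp f' g).hom ≫ (pullbackCongr w.symm).hom ≫ (pullbackComp g' f).inv) = _
    rw [e4, ← e1, ← e2, ← e3, conjugateEquiv_comp, conjugateEquiv_comp, Category.assoc]
  have hu := unit_conjugateEquiv A₁ A₂ (squareIso f g f' g' w).hom N
  rw [hconj] at hu
  have hnat : (pullbackPushforwardAdjunction g').unit.app ((Scheme.Modules.pullback f).obj N) ≫
      (Scheme.Modules.pushforward g').map
        ((Scheme.Modules.pullback g').map ((pullbackPushforwardAdjunction f).counit.app F)) =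
      (pullbackPushforwardAdjunction f).counit.app F ≫ (pullbackPushforwardAdjunction g').unit.app F :=
    ((pullbackPushforwardAdjunction g').unit.naturality _).symm
  -- the right hand side
  have hR : A₂.homEquiv N G ((squareIso f g f' g' w).hom.app N ≫
      (Scheme.Modules.pullback g').map ((pullbackPushforwardAdjunction f).counit.app F)) =
      CohBC.bc0Adj f g f' g' w F := by
    rw [A₂.homEquiv_unit]
    erw [Functor.map_comp, ← reassoc_of% hu]
    let φ := (Scheme.Modules.pullback g').map ((pullbackPushforwardAdjunction f).counit.app F)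
    have hn := ((pushforwardComp g' f).hom ≫ (pushforwardCongr w).hom ≫ (pushforwardComp f' g).inv).naturality φ
    show A₁.unit.app N ≫ ((pushforwardComp g' f).hom ≫ (pushforwardCongr w).hom ≫
      (pushforwardComp f' g).inv).app _ ≫ (Scheme.Modules.pushforward f' ⋙ Scheme.Modules.pushforward g).map φ = _
    erw [← hn]
    have h2 : A₁.unit.app N ≫ (Scheme.Modules.pushforward g' ⋙ Scheme.Modules.pushforward f).map φ =
        (Scheme.Modules.pushforward f).map ((pullbackPushforwardAdjunction g').unit.app F) := by
      show ((pullbackPushforwardAdjunction f).unit.app N ≫ (Scheme.Modules.pushforward f).map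
          ((pullbackPushforwardAdjunction g').unit.app _)) ≫
        (Scheme.Modules.pushforward f).map ((Scheme.Modules.pushforward g').map φ) = _
      rw [Category.assoc, ← Functor.map_comp, hnat, Functor.map_comp,
        (pullbackPushforwardAdjunction f).right_triangle_components_assoc]
    erw [reassoc_of% h2]
    rfl
  rw [hR]
  rw [Adjunction.comp_homEquiv]
  show (pullbackPushforwardAdjunction g).homEquiv N _ ((pullbackPushforwardAdjunction f').homEquiv _ G _) = _
  have h1 : (pullbackPushforwardAdjunction f').homEquiv _ G ((pullbackPushforwardAdjunction f').counit.app G) = 𝟙 _ := by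
    rw [Adjunction.homEquiv_unit, (pullbackPushforwardAdjunction f').right_triangle_components]
  rw [Adjunction.homEquiv_naturality_left, h1]
  erw [Category.comp_id]
  exact ((pullbackPushforwardAdjunction g).homEquiv _ _).apply_symm_apply _

/-- The counit is onto when it is so on every fibre and base change holds there. -/
theorem epi_counit_of_fibres {X S : Scheme.{u}} (f : X ⟶ S) [QuasiCompact f] [QuasiSeparated f] [IsLocallyNoetherian X]
    {F : X.Modules}
    (hF : Coh.IsCoh F)
    (hbc : ∀ s, IsIso (CohBC.bc0 f (S.fromSpecResidueField s) (f.fiberToSpecResidueField s) (f.fiberι s)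
      (f.fiber_fac s) F))
    (hfib : ∀ s, Epi ((pullbackPushforwardAdjunction (f.fiberToSpecResidueField s)).counit.app
      ((Scheme.Modules.pullback (f.fiberι s)).obj F))) :
    Epi ((pullbackPushforwardAdjunction f).counit.app F) := by
  let ε := (pullbackPushforwardAdjunction f).counit.app F
  have hC : Coh.IsCoh (cokernel ε) :=
    M1.isCoh_cokernel (M1.isQCoh_pullback f (M1.isQCoh_push f hF.1)) hF ε
  refine Preadditive.epi_of_isZero_cokernel ε (SerreCl8.isZero_of_support_eq_empty ?_)
  refine Set.eq_empty_of_forall_notMem fun x hx => ?_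
  let s := f x
  obtain ⟨y, hy⟩ : x ∈ Set.range (f.fiberι s) := by rw [f.range_fiberι]; rfl
  haveI := hbc s
  haveI := hfib s
  have he : Epi ((Scheme.Modules.pullback (f.fiberι s)).map ε) := by
    haveI : Epi ((squareIso f (S.fromSpecResidueField s) (f.fiberToSpecResidueField s) (f.fiberι s)
        (f.fiber_fac s)).hom.app ((Scheme.Modules.pushforward f).obj F) ≫
        (Scheme.Modules.pullback (f.fiberι s)).map ε) := by
      rw [← bc0_counit f (S.fromSpecResidueField s) (f.fiberToSpecResidueField s) (f.fiberι s) (f.fiber_fac s) F]
      exact epi_comp _ _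
    exact epi_of_epi ((squareIso f (S.fromSpecResidueField s) (f.fiberToSpecResidueField s) (f.fiberι s)
        (f.fiber_fac s)).hom.app ((Scheme.Modules.pushforward f).obj F)) _
  haveI := he
  have hz : IsZero ((Scheme.Modules.pullback (f.fiberι s)).obj (cokernel ε)) :=
    IsZero.of_epi_eq_zero ((Scheme.Modules.pullback (f.fiberι s)).map (cokernel.π ε)) (by
      rw [← cancel_epi ((Scheme.Modules.pullback (f.fiberι s)).map ε), ← Functor.map_comp, cokernel.condition,
        Functor.map_zero, comp_zero])
  have hmem : y ∈ CohB1.support ((Scheme.Modules.pullback (f.fiberι s)).obj (cokernel ε)) := by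
    rw [M2.support_pullback (f.fiberι s) hC.1 hC.2, Set.mem_preimage]
    erw [hy]
    exact hx
  exact hmem (by
    haveI := hz
    exact AddCommGrpCat.subsingleton_of_isZero ((M1.stalkAb y).map_isZero hz))

/-- Global generation passes to open subschemes. -/
theorem isGloballyGenerated_restrict {X : Scheme.{u}} {M : X.Modules} (h : Curv2.IsGloballyGenerated M)
    (U : X.Opens) : Curv2.IsGloballyGenerated (M.restrict U.ι) := by
  obtain ⟨T, p, hp⟩ := h
  haveI := hp
  haveI : PreservesColimitsOfShape WalkingSpan (Scheme.Modules.restrictFunctor U.ι) :=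
    preservesColimitsOfShape_of_natIso (Scheme.Modules.restrictFunctorIsoPullback U.ι).symm
  exact ⟨T, (M1.frRestrictIso U.ι T).hom ≫ (Scheme.Modules.restrictFunctor U.ι).map p, epi_comp _ _⟩

end Groth.Agent.CMReg18
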