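import Groth.Agent.S14448
import Groth.Agent.Lib.CMReg18.FibGG
import Groth.Prelude.Def_CohBC2

/-!
# Formal properties of degree zero base change
-/

set_option autoImplicit false
set_option linter.style.haveILetI false
set_option backward.isDefEq.respectTransparency false
set_option maxHeartbeats 800000

universe u

open CategoryTheory CategoryTheory.Limits AlgebraicGeometry Scheme.Modules

namespace Groth.Agent.CMReg18

open Groth.Agent

variable {X S X' S' : Scheme.{u}} (f : X ⟶ S) (g : S' ⟶ S) (f' : X' ⟶ S') (g' : X' ⟶ X)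
  (w : g' ≫ f = f' ≫ g)

theorem bc0_nat {M N : X.Modules} (φ : M ⟶ N) :
    (Scheme.Modules.pullback g).map ((Scheme.Modules.pushforward f).map φ) ≫ CohBC.bc0 f g f' g' w N =
      CohBC.bc0 f g f' g' w M ≫ (Scheme.Modules.pushforward f').map ((Scheme.Modules.pullback g').map φ) := by
  apply ((Scheme.Modules.pullbackPushforwardAdjunction g).homEquiv _ _).injective
  rw [Adjunction.homEquiv_naturality_left, Adjunction.homEquiv_naturality_right]
  simp only [CohBC.bc0, Equiv.apply_symm_apply, CohBC.bc0Adj, Category.assoc]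
  have hu := congrArg (Scheme.Modules.pushforward f).map
    ((Scheme.Modules.pullbackPushforwardAdjunction g').unit.naturality φ)
  simp only [Functor.id_map, Functor.comp_map, Functor.map_comp] at hu
  rw [reassoc_of% hu]
  let t := (Scheme.Modules.pullback g').map φ
  erw [(Scheme.Modules.pushforwardComp g' f).hom.naturality_assoc t, (Scheme.Modules.pushforwardCongr w).hom.naturality_assoc t,
    (Scheme.Modules.pushforwardComp f' g).inv.naturality t]

theorem isIso_bc0_of_iso {M N : X.Modules} (e : M ≅ N) [IsIso (CohBC.bc0 f g f' g' w M)] :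
    IsIso (CohBC.bc0 f g f' g' w N) := by
  haveI : IsIso ((Scheme.Modules.pullback g).map ((Scheme.Modules.pushforward f).map e.hom) ≫
      CohBC.bc0 f g f' g' w N) := by
    rw [bc0_nat f g f' g' w e.hom]
    infer_instance
  exact IsIso.of_isIso_comp_left ((Scheme.Modules.pullback g).map ((Scheme.Modules.pushforward f).map e.hom)) _

/-- Modules built from modules with base change have base change. -/
theorem isIso_bc0_of_decomp {ι : Type*} (J : Finset ι) {M : X.Modules} {N : ι → X.Modules}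
    (a : ∀ j, M ⟶ N j) (b : ∀ j, N j ⟶ M) (h : ∑ j ∈ J, a j ≫ b j = 𝟙 M)
    (hN : ∀ j ∈ J, IsIso (CohBC.bc0 f g f' g' w (N j))) : IsIso (CohBC.bc0 f g f' g' w M) := by
  classical
  haveI : (Scheme.Modules.pullback g).Additive :=
    (pullbackPushforwardAdjunction g).left_adjoint_additive
  haveI : (Scheme.Modules.pullback g').Additive :=
    (pullbackPushforwardAdjunction g').left_adjoint_additive
  haveI : (Scheme.Modules.pushforward f).Additive :=
    (pullbackPushforwardAdjunction f).right_adjoint_additive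
  haveI : (Scheme.Modules.pushforward f').Additive :=
    (pullbackPushforwardAdjunction f').right_adjoint_additive
  let F₁ := Scheme.Modules.pushforward f ⋙ Scheme.Modules.pullback g
  let F₂ := Scheme.Modules.pullback g' ⋙ Scheme.Modules.pushforward f'
  let β : ∀ N : X.Modules, F₁.obj N ⟶ F₂.obj N := fun N => CohBC.bc0 f g f' g' w N
  have hn : ∀ {M N : X.Modules} (φ : M ⟶ N), F₁.map φ ≫ β N = β M ≫ F₂.map φ :=
    fun φ => bc0_nat f g f' g' w φ
  let B : F₂.obj M ⟶ F₁.obj M := ∑ j ∈ J.attach,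
    F₂.map (a j.1) ≫ (haveI : IsIso (β (N j.1)) := hN j.1 j.2; inv (β (N j.1))) ≫ F₁.map (b j.1)
  refine ⟨B, ?_, ?_⟩
  · show β M ≫ B = 𝟙 _
    rw [Preadditive.comp_sum]
    refine Eq.trans (Finset.sum_congr rfl fun j _ => ?_) ?_
      (b := ∑ j ∈ J.attach, F₁.map (a j.1 ≫ b j.1))
    · haveI : IsIso (β (N j.1)) := hN j.1 j.2
      rw [← Category.assoc, ← hn, Category.assoc, IsIso.hom_inv_id_assoc, Functor.map_comp]
    · rw [← Functor.map_sum, Finset.sum_attach J (fun j => a j ≫ b j), h, F₁.map_id]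
  · show B ≫ β M = 𝟙 _
    rw [Preadditive.sum_comp]
    refine Eq.trans (Finset.sum_congr rfl fun j _ => ?_) ?_
      (b := ∑ j ∈ J.attach, F₂.map (a j.1 ≫ b j.1))
    · haveI : IsIso (β (N j.1)) := hN j.1 j.2
      rw [Category.assoc, Category.assoc, hn, IsIso.inv_hom_id_assoc, Functor.map_comp]
    · rw [← Functor.map_sum, Finset.sum_attach J (fun j => a j ≫ b j), h, F₂.map_id]

/-- Base change descends along a presentation which stays exact after base change. -/
theorem isIso_bc0_of_presentation (C : ShortComplex X.Modules)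
    [IsIso (CohBC.bc0 f g f' g' w C.X₁)] [IsIso (CohBC.bc0 f g f' g' w C.X₂)]
    (hS : Epi ((Scheme.Modules.pushforward f).map C.g))
    (hT : Epi ((Scheme.Modules.pushforward f').map ((Scheme.Modules.pullback g').map C.g)))
    (hex : ((C.map (Scheme.Modules.pullback g' ⋙ Scheme.Modules.pushforward f'))).Exact) :
    IsIso (CohBC.bc0 f g f' g' w C.X₃) := by
  haveI : (Scheme.Modules.pullback g).Additive :=
    (pullbackPushforwardAdjunction g).left_adjoint_additive
  haveI : PreservesColimitsOfSize.{0, 0} (Scheme.Modules.pullback g) :=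
    (pullbackPushforwardAdjunction g).leftAdjoint_preservesColimits
  let F₁ := Scheme.Modules.pushforward f ⋙ Scheme.Modules.pullback g
  let C₂ := C.map (Scheme.Modules.pullback g' ⋙ Scheme.Modules.pushforward f')
  haveI : Epi C₂.g := hT
  haveI : Epi (F₁.map C.g) := inferInstanceAs (Epi ((Scheme.Modules.pullback g).map _))
  let β₁ := CohBC.bc0 f g f' g' w C.X₁
  let β₂ := CohBC.bc0 f g f' g' w C.X₂
  let β₃ := CohBC.bc0 f g f' g' w C.X₃
  have e1 : F₁.map C.f ≫ β₂ = β₁ ≫ C₂.f := bc0_nat f g f' g' w C.f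
  have e2 : F₁.map C.g ≫ β₃ = β₂ ≫ C₂.g := bc0_nat f g f' g' w C.g
  have hz : C₂.f ≫ inv β₂ ≫ F₁.map C.g = 0 := by
    rw [← cancel_epi β₁, comp_zero, ← Category.assoc, ← e1, Category.assoc, IsIso.hom_inv_id_assoc,
      ← Functor.map_comp, C.zero, Functor.map_zero]
  refine ⟨hex.desc (inv β₂ ≫ F₁.map C.g) hz, ?_, ?_⟩
  · show β₃ ≫ _ = 𝟙 _
    rw [← cancel_epi (F₁.map C.g), ← Category.assoc, e2, Category.assoc, hex.g_desc, IsIso.hom_inv_id_assoc]
    exact (Category.comp_id _).symm
  · show _ ≫ β₃ = 𝟙 _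
    rw [← cancel_epi C₂.g, ← Category.assoc, hex.g_desc, Category.assoc, e2, IsIso.inv_hom_id_assoc]
    exact (Category.comp_id _).symm

/-- Pasting of two squares. -/
theorem bc0_paste {X'' S'' : Scheme.{u}} (h : S'' ⟶ S') (f'' : X'' ⟶ S'') (h' : X'' ⟶ X')
    (w' : h' ≫ f' = f'' ≫ h) (w'' : (h' ≫ g') ≫ f = f'' ≫ h ≫ g) (F : X.Modules) :
    (pullbackComp h g).hom.app ((Scheme.Modules.pushforward f).obj F) ≫
        CohBC.bc0 f (h ≫ g) f'' (h' ≫ g') w'' F =
      (Scheme.Modules.pullback h).map (CohBC.bc0 f g f' g' w F) ≫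
        CohBC.bc0 f' h f'' h' w' ((Scheme.Modules.pullback g').obj F) ≫
        (Scheme.Modules.pushforward f'').map ((pullbackComp h' g').hom.app F) :=
  S14448.result h' g' f'' f' f h g w' w w'' F

theorem bc0_congr {g₂ : S' ⟶ S} {g₂' : X' ⟶ X} (hg : g = g₂) (hg' : g' = g₂') (w₂ : g₂' ≫ f = f' ≫ g₂)
    (F : X.Modules) [IsIso (CohBC.bc0 f g f' g' w F)] : IsIso (CohBC.bc0 f g₂ f' g₂' w₂ F) := by
  subst hg hg'; infer_instance

end Groth.Agent.CMReg18
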