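import Groth.Agent.Lib.CMReg18.ClosedSub
import Groth.Agent.Lib.NumPoly18.FamilyEuler
import Groth.Agent.Lib.Ample18.Ample
import Groth.Agent.Lib.AmpleFin18.Curves
import Groth.Agent.Lib.FlatH4.PullFlat
import Groth.Agent.S4698

/-!
# Bounded families: uniform presentations, finitely many Hilbert functions, uniform regularity
-/

set_option autoImplicit false
set_option linter.style.haveILetI false
set_option backward.isDefEq.respectTransparency false
set_option maxHeartbeats 1600000

universe u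

open CategoryTheory CategoryTheory.Limits AlgebraicGeometry TopologicalSpace Opposite

namespace Groth.Agent.CMReg18

open Groth.Agent

variable {k : Type u} [Field k] {X : Scheme.{u}} [X.Over (Spec (CommRingCat.of k))] {n : ℕ}
  (ι : X ⟶ CohB1.ProjSpace n k)

/-- The twisting data of an embedded scheme, spread over a parameter space. -/
noncomputable abbrev prodData {T : Scheme.{u}} (q : T ⟶ Spec (CommRingCat.of k)) :
    TwistData (Pic13.prodK k X q) :=
  ((projData k n).pullback ι).pullback (pullback.fst (X ↘ Spec (CommRingCat.of k)) q)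

/-- Twisting commutes with restriction to the fibres. -/
noncomputable def fibreTwIso {T : Scheme.{u}} (q : T ⟶ Spec (CommRingCat.of k))
    (t : Spec (CommRingCat.of k) ⟶ T) (ht : t ≫ q = 𝟙 _) (F : (Pic13.prodK k X q).Modules) (a : ℤ) :
    Pic13.fibreMod k X q t ht ((prodData ι q).tw F a) ≅
      ((projData k n).pullback ι).tw (Pic13.fibreMod k X q t ht F) a :=
  M2.pullTensorIso (Pic13.sliceAt k X q t ht) F ((prodData ι q).O a) ≪≫
    M2.tensorIso (Iso.refl _)
      ((Scheme.Modules.pullbackComp (Pic13.sliceAt k X q t ht) (pullback.fst (X ↘ Spec (CommRingCat.of k)) q)).app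
          (((projData k n).pullback ι).O a) ≪≫
        (Scheme.Modules.pullbackCongr (show Pic13.sliceAt k X q t ht ≫
          pullback.fst (X ↘ Spec (CommRingCat.of k)) q = 𝟙 X from pullback.lift_fst _ _ _)).app _ ≪≫
        (Scheme.Modules.pullbackId X).app _)

/-- The comparison of products along a change of parameter space. -/
noncomputable def prodMap {T W : Scheme.{u}} (q : T ⟶ Spec (CommRingCat.of k)) (r : W ⟶ T) :
    Pic13.prodK k X (r ≫ q) ⟶ Pic13.prodK k X q :=
  pullback.lift (pullback.fst (X ↘ Spec (CommRingCat.of k)) (r ≫ q))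
    (pullback.snd (X ↘ Spec (CommRingCat.of k)) (r ≫ q) ≫ r) (by rw [pullback.condition, Category.assoc])

theorem sliceAt_prodMap {T W : Scheme.{u}} (q : T ⟶ Spec (CommRingCat.of k)) (r : W ⟶ T)
    (t : Spec (CommRingCat.of k) ⟶ W) (ht : t ≫ r ≫ q = 𝟙 _) :
    Pic13.sliceAt k X (r ≫ q) t ht ≫ prodMap q r =
      Pic13.sliceAt k X q (t ≫ r) ((Category.assoc _ _ _).trans ht) := by
  apply pullback.hom_ext <;> simp [prodMap, Pic13.sliceAt]

/-- Fibres do not change with the parameter space. -/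
noncomputable def fibreMapIso {T W : Scheme.{u}} (q : T ⟶ Spec (CommRingCat.of k)) (r : W ⟶ T)
    (t : Spec (CommRingCat.of k) ⟶ W) (ht : t ≫ r ≫ q = 𝟙 _) (F : (Pic13.prodK k X q).Modules) :
    Pic13.fibreMod k X (r ≫ q) t ht ((Scheme.Modules.pullback (prodMap q r)).obj F) ≅
      Pic13.fibreMod k X q (t ≫ r) ((Category.assoc _ _ _).trans ht) F :=
  (Scheme.Modules.pullbackComp (Pic13.sliceAt k X (r ≫ q) t ht) (prodMap q r)).app F ≪≫
    (Scheme.Modules.pullbackCongr (sliceAt_prodMap q r t ht)).app F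

theorem isPullback_prodMap {T W : Scheme.{u}} (q : T ⟶ Spec (CommRingCat.of k)) (r : W ⟶ T) :
    IsPullback (prodMap q r) (pullback.snd (X ↘ Spec (CommRingCat.of k)) (r ≫ q))
      (pullback.snd (X ↘ Spec (CommRingCat.of k)) q) r :=
  IsPullback.of_right (h₁₂ := pullback.fst _ _) (by rw [prodMap, pullback.lift_fst]; exact (IsPullback.of_hasPullback _ _))
    (pullback.lift_snd _ _ _) (IsPullback.of_hasPullback _ q)

/-- A rational point in a locally closed set lifts to it. -/
theorem exists_lift_point {T : Scheme.{u}} (Z : Closeds T)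
    (U : (Scheme.IdealSheafData.vanishingIdeal Z).subscheme.Opens) (t : Spec (CommRingCat.of k) ⟶ T)
    (h : t.base ⟨⊥, Ideal.isPrime_bot⟩ ∈ (Scheme.IdealSheafData.vanishingIdeal Z).subschemeι '' U) :
    ∃ t' : Spec (CommRingCat.of k) ⟶ U, t' ≫ U.ι ≫ (Scheme.IdealSheafData.vanishingIdeal Z).subschemeι = t := by
  let I := Scheme.IdealSheafData.vanishingIdeal Z
  have hsub : ∀ w : Spec (CommRingCat.of k), w = ⟨⊥, Ideal.isPrime_bot⟩ := fun w =>
    Subsingleton.elim (α := PrimeSpectrum k) _ _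
  obtain ⟨z, hzU, hz⟩ := h
  obtain ⟨j, hj⟩ := AmpleFin18.exists_lift_of_range_subset t I (by
    rintro _ ⟨w, rfl⟩
    rw [hsub w, ← hz, ← Scheme.IdealSheafData.range_subschemeι]
    exact ⟨z, rfl⟩)
  have hr : Set.range j ⊆ Set.range U.ι := by
    rintro _ ⟨w, rfl⟩
    rw [hsub w, Scheme.Opens.range_ι]
    have : I.subschemeι (j ⟨⊥, Ideal.isPrime_bot⟩) = I.subschemeι z := by
      rw [← Scheme.Hom.comp_apply, hj]
      exact hz.symm
    rw [I.subschemeι.isEmbedding.injective this]
    exact hzU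
  exact ⟨IsOpenImmersion.lift U.ι j hr, by rw [IsOpenImmersion.lift_fac_assoc, hj]⟩

variable [IsClosedImmersion ι] [IsProper (X ↘ Spec (CommRingCat.of k))]

/-- The Hilbert function of a fibre. -/
noncomputable def fibHilb {T : Scheme.{u}} (q : T ⟶ Spec (CommRingCat.of k))
    (F : (Pic13.prodK k X q).Modules) (t : Spec (CommRingCat.of k) ⟶ T) (ht : t ≫ q = 𝟙 _) : ℤ → ℤ :=
  fun a => Curv2.euler k X (((projData k n).pullback ι).tw (Pic13.fibreMod k X q t ht F) a)

/-- A coherent family over a finite type base has finitely many Hilbert functions. -/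
theorem finite_fibHilb {T : Scheme.{u}} (q : T ⟶ Spec (CommRingCat.of k)) [LocallyOfFiniteType q]
    [QuasiCompact q] {F : (Pic13.prodK k X q).Modules} (hF : Coh.IsCoh F) :
    ∃ S : Set (ℤ → ℤ), S.Finite ∧ ∀ t ht, fibHilb ι q F t ht ∈ S := by
  haveI : IsLocallyNoetherian T := LocallyOfFiniteType.isLocallyNoetherian q
  haveI : CompactSpace T := QuasiCompact.compactSpace_of_compactSpace q
  haveI : IsNoetherian T := {}
  suffices H : ∀ Z : Closeds T, ∃ S : Set (ℤ → ℤ), S.Finite ∧
      ∀ t ht, t.base ⟨⊥, Ideal.isPrime_bot⟩ ∈ Z → fibHilb ι q F t ht ∈ S by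
    obtain ⟨S, hS, hmem⟩ := H ⊤
    exact ⟨S, hS, fun t ht => hmem t ht trivial⟩
  intro Z
  induction Z using WellFoundedLT.induction with
  | ind Z ih =>
    rcases Set.eq_empty_or_nonempty (Z : Set T) with he | hne
    · exact ⟨∅, Set.finite_empty, fun t ht h => absurd (show _ ∈ (Z : Set T) from h) (by rw [he]; exact id)⟩
    by_cases hi : IsIrreducible (Z : Set T)
    swap
    · rw [IsIrreducible, and_iff_right hne, isPreirreducible_iff_isClosed_union_isClosed] at hi
      push Not at hi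
      obtain ⟨z₁, z₂, hz₁, hz₂, hsub, h₁, h₂⟩ := hi
      have lt : ∀ (z : Set T) (hz : IsClosed z), ¬(Z : Set T) ⊆ z → Z ⊓ ⟨z, hz⟩ < Z := fun z hz h =>
        inf_le_left.lt_of_ne fun e => h fun x hx =>
          ((SetLike.ext_iff.1 e x).2 hx : x ∈ Z ⊓ (⟨z, hz⟩ : Closeds T)).2
      obtain ⟨S₁, f₁, m₁⟩ := ih _ (lt z₁ hz₁ h₁)
      obtain ⟨S₂, f₂, m₂⟩ := ih _ (lt z₂ hz₂ h₂)
      exact ⟨S₁ ∪ S₂, f₁.union f₂, fun t ht h => (hsub h).elim
        (fun h' => Or.inl (m₁ t ht ⟨h, h'⟩)) fun h' => Or.inr (m₂ t ht ⟨h, h'⟩)⟩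
    let I := Scheme.IdealSheafData.vanishingIdeal Z
    haveI : IsIntegral I.subscheme := AmpleFin18.isIntegral_of_irreducible Z hi
    haveI : IsLocallyNoetherian I.subscheme := LocallyOfFiniteType.isLocallyNoetherian I.subschemeι
    let u' := pullback.snd (X ↘ Spec (CommRingCat.of k)) (I.subschemeι ≫ q)
    haveI : IsProper u' := inferInstanceAs (IsProper (pullback.snd _ _))
    let F' := (Scheme.Modules.pullback (prodMap q I.subschemeι)).obj F
    haveI : IsLocallyNoetherian (Pic13.prodK k X q) :=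
      LocallyOfFiniteType.isLocallyNoetherian (pullback.snd (X ↘ Spec (CommRingCat.of k)) q)
    haveI : IsLocallyNoetherian (Pic13.prodK k X (I.subschemeι ≫ q)) :=
      LocallyOfFiniteType.isLocallyNoetherian u'
    have hF' : Coh.IsCoh F' := M1.isCoh_pullback _ hF
    obtain ⟨U, hUne, hUflat⟩ := S4698.result u' F' hF'
    -- the complement of the open stratum
    let Z' : Closeds T := ⟨I.subschemeι '' (U : Set I.subscheme)ᶜ,
      I.subschemeι.isClosedEmbedding.isClosedMap _ U.isOpen.isClosed_compl⟩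
    have hrange : Set.range I.subschemeι = (Z : Set T) := by
      rw [Scheme.IdealSheafData.range_subschemeι, Scheme.IdealSheafData.coe_support_vanishingIdeal]
    have hlt : Z' < Z := by
      refine lt_of_le_of_ne ?_ ?_
      · rintro _ ⟨x, -, rfl⟩
        exact hrange.le ⟨x, rfl⟩
      · intro e
        obtain ⟨z, hz⟩ := hUne
        obtain ⟨w, hw, hwz⟩ : I.subschemeι z ∈ (Z' : Set T) := by
          rw [e]
          exact hrange.le ⟨z, rfl⟩
        rw [I.subschemeι.isEmbedding.injective hwz] at hw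
        exact hw hz
    obtain ⟨S', hS', hmem⟩ := ih Z' hlt
    by_cases hpt : ∃ (t : Spec (CommRingCat.of k) ⟶ T), t ≫ q = 𝟙 _ ∧
        t.base ⟨⊥, Ideal.isPrime_bot⟩ ∈ I.subschemeι '' (U : Set I.subscheme)
    swap
    · refine ⟨S', hS', fun t ht h => hmem t ht ?_⟩
      obtain ⟨x, hx⟩ := hrange.ge h
      exact ⟨x, fun hxU => hpt ⟨t, ht, x, hxU, hx⟩, hx⟩
    obtain ⟨t₀, ht₀, hU₀⟩ := hpt
    refine ⟨insert (fibHilb ι q F t₀ ht₀) S', hS'.insert _, fun t ht h => ?_⟩
    obtain ⟨x, hx⟩ := hrange.ge h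
    by_cases hxU : x ∈ U
    swap
    · exact Or.inr (hmem t ht ⟨x, hxU, hx⟩)
    refine Or.inl (funext fun a => ?_)
    -- the flat family over the open stratum
    let W : Scheme.{u} := U
    let r : W ⟶ T := U.ι ≫ I.subschemeι
    let f : Pic13.prodK k X (r ≫ q) ⟶ W := pullback.snd (X ↘ Spec (CommRingCat.of k)) (r ≫ q)
    haveI : IsProper f := inferInstanceAs (IsProper (pullback.snd _ _))
    haveI : IsLocallyNoetherian W := LocallyOfFiniteType.isLocallyNoetherian U.ι
    haveI : IsLocallyNoetherian (Pic13.prodK k X (r ≫ q)) := LocallyOfFiniteType.isLocallyNoetherian f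
    haveI : LocallyOfFinitePresentation f := LimH13.locallyOfFinitePresentation_of_noetherian f
    let FW := (Scheme.Modules.pullback (prodMap q r)).obj F
    have hFW : Coh.IsCoh FW := M1.isCoh_pullback _ hF
    let g : Pic13.prodK k X (r ≫ q) ⟶ Pic13.prodK k X (I.subschemeι ≫ q) :=
      pullback.lift (pullback.fst _ _) (f ≫ U.ι) (pullback.condition.trans (by
        simp only [r, f, Category.assoc]))
    have hg : g ≫ prodMap q I.subschemeι = prodMap q r := by
      apply pullback.hom_ext <;> simp [g, prodMap, r, f]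
    have hgsq : IsPullback g f u' U.ι :=
      IsPullback.of_right (h₁₂ := pullback.fst _ _)
        (by rw [pullback.lift_fst]; simp only [r, Category.assoc]; exact IsPullback.of_hasPullback _ _)
        (pullback.lift_snd _ _ _) (IsPullback.of_hasPullback _ _)
    haveI := hF'.1
    have hflat : FlatMod.IsFlatOver f FW := by
      have h1 : FlatMod.IsFlatOver f ((Scheme.Modules.pullback g).obj F') := fun y =>
        FlatH4.isFlatOverAt_baseChange hgsq F' y (hUflat _ (by
          rw [show u'.base (g y) = U.ι (f y) from by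
            rw [← Scheme.Hom.comp_apply, ← Scheme.Hom.comp_apply, hgsq.w]]
          exact (f y).2))
      exact fun y => SchDom.isFlatOverAt_of_iso _
        ((Scheme.Modules.pullbackComp g (prodMap q I.subschemeι)).app F ≪≫
          (Scheme.Modules.pullbackCongr hg).app F) y (h1 y)
    let G := (prodData ι (r ≫ q)).tw FW a
    have hG : Coh.IsCoh G := CurveCoh17.isCoh_tensor hFW (Snapper.isCoh_of_isInvertible ((prodData ι (r ≫ q)).inv a))
    haveI := hFW.1
    have hGfl : FlatMod.IsFlatOver f G := FlatTwist13.isFlatOver_tensor f hflat ((prodData ι (r ≫ q)).inv a)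
    have key : ∀ (s : Spec (CommRingCat.of k) ⟶ T) (hs : s ≫ q = 𝟙 _),
        s.base ⟨⊥, Ideal.isPrime_bot⟩ ∈ I.subschemeι '' (U : Set I.subscheme) →
        ∃ w : W, PerfAux.eulerChar f G w = fibHilb ι q F s hs a := by
      intro s hs hsU
      obtain ⟨s', hs'⟩ := exists_lift_point Z U s hsU
      subst hs'
      have hs'' : s' ≫ r ≫ q = 𝟙 _ := by simpa [r] using hs
      refine ⟨s'.base ⟨⊥, Ideal.isPrime_bot⟩, ?_⟩
      rw [NumPoly18.eulerChar_eq_euler f hG hGfl _ s' (NumPoly18.isPullback_sliceAt (r ≫ q) s' hs'')]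
      exact CurveCoh17.euler_iso (fibreTwIso ι (r ≫ q) s' hs'' FW a ≪≫
        M2.tensorIso (fibreMapIso q r s' hs'' F) (Iso.refl _))
    obtain ⟨w, hw⟩ := key t ht ⟨x, hxU, hx⟩
    obtain ⟨w₀, hw₀⟩ := key t₀ ht₀ hU₀
    haveI : Nonempty W := hUne.to_subtype
    haveI : IsIntegral W := isIntegral_of_isOpenImmersion U.ι
    rw [← hw, ← hw₀]
    exact (FibEuler9.isLocallyConstant_eulerChar f G (M1.isFP_of_isCoh hG) hGfl).apply_eq_of_preconnectedSpace w w₀

/-- The fibres of a family over an affine base are quotients of one free module after a twist. -/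
theorem exists_fibre_quotient {T : Scheme.{u}} [IsAffine T] (q : T ⟶ Spec (CommRingCat.of k))
    [LocallyOfFiniteType q] {F : (Pic13.prodK k X q).Modules} (hF : Coh.IsCoh F) :
    ∃ m₀ : ℤ, ∀ m, m₀ ≤ m → ∃ N : ℕ, ∀ t ht,
      ∃ p : FlatMod.freeMod X N ⟶ ((projData k n).pullback ι).tw (Pic13.fibreMod k X q t ht F) m, Epi p := by
  haveI : IsLocallyNoetherian T := LocallyOfFiniteType.isLocallyNoetherian q
  haveI : IsLocallyNoetherian (Pic13.prodK k X q) :=
    LocallyOfFiniteType.isLocallyNoetherian (pullback.snd (X ↘ Spec (CommRingCat.of k)) q)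
  haveI : IsAffineHom q := isAffineHom_of_isAffine q
  haveI : IsAffineHom (pullback.fst (X ↘ Spec (CommRingCat.of k)) q) :=
    MorphismProperty.pullback_fst _ _ inferInstance
  have hA : CohB1.IsAmple ((prodData ι q).O 1) :=
    Amp.isAmple_pullback_of_isAffineHom (pullback.fst (X ↘ Spec (CommRingCat.of k)) q)
      (Amp.isAmple_pullback_of_isAffineHom ι (isAmple_twistOne k))
  haveI : CompactSpace (Pic13.prodK k X q) := hA.2.1
  obtain ⟨m₀, hm₀⟩ := (prodData ι q).exists_gg_large hA hF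
  refine ⟨m₀, fun m hm => ?_⟩
  obtain ⟨N, p, hp⟩ := CohFound.exists_epi_freeMod
    (CurveCoh17.isCoh_tensor hF (Snapper.isCoh_of_isInvertible ((prodData ι q).inv m))) (hm₀ m hm)
  refine ⟨N, fun t ht => ⟨(M2.freeModPullbackIso (Pic13.sliceAt k X q t ht) N).inv ≫
    (Scheme.Modules.pullback (Pic13.sliceAt k X q t ht)).map p ≫ (fibreTwIso ι q t ht F m).hom, ?_⟩⟩
  infer_instance

theorem exists_epi_freeMod_le {a b : ℕ} (h : a ≤ b) :
    ∃ c : FlatMod.freeMod X b ⟶ FlatMod.freeMod X a, Epi c := by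
  classical
  refine ⟨Sigma.desc fun j : Fin b => if hj : (j : ℕ) < a then
    Sigma.ι (fun _ : Fin a => Coh.structureModule X) ⟨j, hj⟩ else 0, ⟨fun {Z} g g' hgg => Sigma.hom_ext _ _ fun i => ?_⟩⟩
  have h1 := congrArg (fun φ => Sigma.ι (fun _ : Fin b => Coh.structureModule X) (Fin.castLE h i) ≫ φ) hgg
  simpa [Sigma.ι_desc_assoc] using h1

/-- Bounded families: a uniform presentation and finitely many Hilbert functions. -/
theorem exists_bounded_data {P : X.Modules → Prop} (hb : Pic13.IsBounded k X P) :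
    ∃ (m : ℤ) (N : ℕ) (S : Set (ℤ → ℤ)), S.Finite ∧ ∀ G, P G →
      (fun a => Curv2.euler k X (((projData k n).pullback ι).tw G a)) ∈ S ∧
      ∃ p : FlatMod.freeMod X N ⟶ ((projData k n).pullback ι).tw G m, Epi p := by
  classical
  obtain ⟨T, q, hqf, hqc, F, hF, hP⟩ := hb
  haveI := hqf
  haveI := hqc
  haveI : CompactSpace T := QuasiCompact.compactSpace_of_compactSpace q
  obtain ⟨S, hS, hmem⟩ := finite_fibHilb ι q hF
  let 𝒰 := T.affineCover.finiteSubcover
  have H : ∀ j : 𝒰.I₀, ∃ m₀ : ℤ, ∀ m, m₀ ≤ m → ∃ N : ℕ, ∀ t ht,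
      ∃ p : FlatMod.freeMod X N ⟶ ((projData k n).pullback ι).tw (Pic13.fibreMod k X (𝒰.f j ≫ q) t ht
        ((Scheme.Modules.pullback (prodMap q (𝒰.f j))).obj F)) m, Epi p := fun j => by
    haveI : IsAffine (𝒰.X j) := inferInstance
    haveI : IsLocallyNoetherian T := LocallyOfFiniteType.isLocallyNoetherian q
    haveI : IsLocallyNoetherian (Pic13.prodK k X q) :=
      LocallyOfFiniteType.isLocallyNoetherian (pullback.snd (X ↘ Spec (CommRingCat.of k)) q)
    haveI : IsLocallyNoetherian (Pic13.prodK k X (𝒰.f j ≫ q)) :=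
      LocallyOfFiniteType.isLocallyNoetherian (pullback.snd (X ↘ Spec (CommRingCat.of k)) (𝒰.f j ≫ q))
    exact exists_fibre_quotient ι (𝒰.f j ≫ q) (M1.isCoh_pullback _ hF)
  choose m₀ hm₀ using H
  obtain ⟨m, hm⟩ := (Set.finite_range m₀).bddAbove
  choose N hN using fun j => hm₀ j m (hm ⟨j, rfl⟩)
  refine ⟨m, ∑ j, N j, S, hS, fun G hG => ?_⟩
  obtain ⟨t, ht, ⟨e⟩⟩ := hP G hG
  refine ⟨?_, ?_⟩
  · have := hmem t ht
    rwa [show fibHilb ι q F t ht = fun a => Curv2.euler k X (((projData k n).pullback ι).tw G a) from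
      funext fun a => CurveCoh17.euler_iso (M2.tensorIso e (Iso.refl _))] at this
  obtain ⟨y, hy⟩ := 𝒰.covers (t.base ⟨⊥, Ideal.isPrime_bot⟩)
  have hr : Set.range t ⊆ Set.range (𝒰.f (𝒰.idx (t.base ⟨⊥, Ideal.isPrime_bot⟩))) := by
    rintro _ ⟨w, rfl⟩
    exact ⟨y, hy.trans (congrArg _ (Subsingleton.elim (α := PrimeSpectrum k) _ _))⟩
  generalize 𝒰.idx (t.base ⟨⊥, Ideal.isPrime_bot⟩) = j at hr
  let t' := IsOpenImmersion.lift (𝒰.f j) t hr
  have hlift : t' ≫ 𝒰.f j = t := IsOpenImmersion.lift_fac _ _ hr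
  have ht' : t' ≫ 𝒰.f j ≫ q = 𝟙 _ := by rw [← Category.assoc, hlift, ht]
  obtain ⟨p, hp⟩ := hN j t' ht'
  obtain ⟨c, hc⟩ := exists_epi_freeMod_le (X := X) (Finset.single_le_sum (fun i _ => Nat.zero_le (N i)) (Finset.mem_univ j))
  refine ⟨c ≫ p ≫ (M2.tensorIso (fibreMapIso q (𝒰.f j) t' ht' F ≪≫ eqToIso ?_ ≪≫ e) (Iso.refl _)).hom, ?_⟩
  · exact (fun s hs (es : s = t) => by subst es; rfl :
      ∀ (s : Spec (CommRingCat.of k) ⟶ T) (hs : s ≫ q = 𝟙 _), s = t →
        Pic13.fibreMod k X q s hs F = Pic13.fibreMod k X q t ht F) _ _ hlift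
  · infer_instance

/-- The vanishing of cohomology above the embedding dimension. -/
theorem bdd_sub (hι : ι ≫ CohB1.ProjSpace.toSpec n k = X ↘ Spec (CommRingCat.of k)) {M : X.Modules}
    (hM : Coh.IsCoh M) (a : ℤ) {i : ℕ} (hi : n < i) :
    Subsingleton (Coh.HH X (((projData k n).pullback ι).tw M a) i) := by
  haveI := isProper_projSpace k (n := n)
  haveI : IsNoetherian (CohB1.ProjSpace n k) :=
    CohFound.isNoetherian_of_isProper (CohB1.ProjSpace n k ↘ Spec (CommRingCat.of k))
  haveI : IsNoetherian X := CohFound.isNoetherian_of_isProper (X ↘ Spec (CommRingCat.of k))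
  haveI := subsingleton_HH_of_lt k
    (M2.isQCoh_tensor (CohFound.isCoh_push_closedImm ι hM).1 (Twist.isQCoh_twistProjSpace n k a) :
      Coh.IsQCoh ((projData k n).tw ((Scheme.Modules.pushforward ι).obj M) a)) hi
  exact (nonempty_HH_push_tw ι hι hM.1 a i).some.symm.toEquiv.subsingleton

/-- The Euler characteristic in bounded degrees. -/
theorem eulerCharLE_twistOn (hι : ι ≫ CohB1.ProjSpace.toSpec n k = X ↘ Spec (CommRingCat.of k)) {M : X.Modules}
    (hM : Coh.IsCoh M) (a : ℤ) :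
    FGA.eulerCharLE k X (Pic13.twistOn k ι M a) n = Curv2.euler k X (((projData k n).pullback ι).tw M a) := by
  refine (finsum_eq_finsetSum_of_support_subset _ fun i hi => ?_).symm
  rw [Finset.coe_range, Set.mem_Iio]
  by_contra hlt
  haveI := bdd_sub ι hι hM a (i := i) (by omega)
  haveI : Subsingleton (Coh.HH X (Pic13.twistOn k ι M a) i) := this
  simp [Module.finrank_zero_of_subsingleton] at hi

/-- The polynomial with given coordinates in the binomial basis. -/
noncomputable def binomPoly (a : Fin (n + 1) → ℤ) : Polynomial ℚ :=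
  ∑ j : Fin (n + 1), Polynomial.C ((a j : ℚ) / ((j : ℕ).factorial : ℚ)) * descPochhammer ℚ (j : ℕ)

theorem binomPoly_eval (a : Fin (n + 1) → ℤ) (r : ℤ) :
    (binomPoly a).eval (r : ℚ) = ((∑ j : Fin (n + 1), a j * Ring.choose r (j : ℕ) : ℤ) : ℚ) := by
  rw [binomPoly, Polynomial.eval_finsetSum, Int.cast_sum]
  refine Finset.sum_congr rfl fun j _ => ?_
  have h := congrArg (Int.cast : ℤ → ℚ) (Ring.descPochhammer_eq_factorial_smul_choose r (j : ℕ))
  rw [nsmul_eq_mul, Int.cast_mul, Int.cast_natCast, ← Polynomial.eval_eq_smeval, ← eq_intCast (Int.castRingHom ℚ),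
    ← Polynomial.eval_map_apply, descPochhammer_map, eq_intCast] at h
  rw [Polynomial.eval_mul, Polynomial.eval_C, h, Int.cast_mul]
  field_simp

/-- Bounded families have finitely many Hilbert polynomials. -/
theorem exists_finset_hilb (hι : ι ≫ CohB1.ProjSpace.toSpec n k = X ↘ Spec (CommRingCat.of k))
    {P : X.Modules → Prop} (hP : ∀ G, P G → Coh.IsCoh G) (hb : Pic13.IsBounded k X P) :
    ∃ s : Finset (Polynomial ℚ), ∀ G, P G → ∃ φ ∈ s, ∀ d : ℤ,
      (FGA.eulerCharLE k X (Pic13.twistOn k ι G d) n : ℚ) = φ.eval (d : ℚ) := by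
  obtain ⟨m, N, S, hS, hd⟩ := exists_bounded_data ι hb
  have hfin : {a : Fin (n + 1) → ℤ | (fun r => ∑ j, a j * Ring.choose r (j : ℕ)) ∈ S}.Finite :=
    hS.preimage fun a _ b _ h => binom_unique a b fun l => congrFun h (l : ℤ)
  classical
  refine ⟨hfin.toFinset.image binomPoly, fun G hG => ?_⟩
  obtain ⟨a, ha⟩ := hasBinom (CohFound.isCoh_push_closedImm ι (hP G hG))
  have hfun : (fun r => Curv2.euler k X (((projData k n).pullback ι).tw G r)) =
      fun r => ∑ j, a j * Ring.choose r (j : ℕ) :=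
    funext fun r => (euler_push_tw ι hι (hP G hG).1 r).symm.trans (ha r)
  refine ⟨binomPoly a, Finset.mem_image_of_mem _ (hfin.mem_toFinset.2 (by
    have := (hd G hG).1
    rwa [hfun] at this)), fun d => ?_⟩
  rw [binomPoly_eval, eulerCharLE_twistOn ι hι (hP G hG), ← congrFun hfun d]

/-- Bounded families are uniformly regular. -/
theorem exists_uniform_isReg (hι : ι ≫ CohB1.ProjSpace.toSpec n k = X ↘ Spec (CommRingCat.of k))
    {P : X.Modules → Prop} (hP : ∀ G, P G → Coh.IsCoh G) (hb : Pic13.IsBounded k X P) :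
    ∃ m : ℤ, ∀ G, P G → ((projData k n).pullback ι).IsReg G m := by
  obtain ⟨m, N, S, hS, hd⟩ := exists_bounded_data ι hb
  haveI : IsNoetherian X := CohFound.isNoetherian_of_isProper (X ↘ Spec (CommRingCat.of k))
  choose M hM using fun f : ℤ → ℤ => exists_uniform_quotients ι hι N fun l : ℕ => (f (m + l) : ℚ)
  obtain ⟨B, hB⟩ := (hS.image M).bddAbove
  refine ⟨B + m, fun G hG => ?_⟩
  obtain ⟨hG', p, hp⟩ := hd G hG
  let D := (projData k n).pullback ι
  have h := ((hM _ (D.tw G m) p (CurveCoh17.isCoh_tensor (hP G hG) (Snapper.isCoh_of_isInvertible (D.inv m))) hp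
    fun l => by rw [CurveCoh17.euler_iso (D.twTwist G m (l : ℤ))]).1).of_le k (hB ⟨_, hG', rfl⟩)
  exact fun i hi => van_iso k (D.twTwist G m _ ≪≫ D.twIso G (by ring)) (h i hi)

end Groth.Agent.CMReg18
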