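import Groth.Agent.Lib.CMReg18.InfField
import Groth.Agent.Lib.CohFound.ClosedImmPush
import Groth.Agent.Lib.AmpleFin18.PushEuler
import Groth.Agent.Lib.DirImg11.Basic
import Groth.Agent.Lib.FGA3.FormalTriv
import Groth.Agent.Lib.NumPoly18.SurfProj

/-!
# Uniform regularity for quotients on closed subschemes of projective space
-/

set_option autoImplicit false
set_option linter.style.haveILetI false
set_option backward.isDefEq.respectTransparency false

universe u

open CategoryTheory CategoryTheory.Limits AlgebraicGeometry TopologicalSpace Opposite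

namespace Groth.Agent.CMReg18

open Groth.Agent

theorem binom_unique {n : ℕ} (a b : Fin (n + 1) → ℤ)
    (h : ∀ m : ℕ, ∑ j, a j * Ring.choose (m : ℤ) (j : ℕ) = ∑ j, b j * Ring.choose (m : ℤ) (j : ℕ)) : a = b := by
  funext i
  induction i using WellFoundedLT.induction with
  | ind i ih =>
    have h' := h i
    rw [← sub_eq_zero, ← Finset.sum_sub_distrib, Finset.sum_eq_single i] at h'
    · rw [Ring.choose_natCast, Nat.choose_self, Nat.cast_one, mul_one, mul_one] at h'
      exact sub_eq_zero.1 h'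
    · intro j _ hj
      rcases lt_or_gt_of_ne hj with h | h
      · rw [ih j h, sub_self]
      · rw [Ring.choose_natCast, Nat.choose_eq_zero_of_lt (by exact_mod_cast h)]
        simp
    · simp

variable {k : Type u} [Field k] {X : Scheme.{u}} [X.Over (Spec (CommRingCat.of k))] {n : ℕ}
  (ι : X ⟶ CohB1.ProjSpace n k) [IsClosedImmersion ι]

local notation "PF" => (Scheme.Modules.pushforward ι)

theorem nonempty_HH_push_tw (hι : ι ≫ CohB1.ProjSpace.toSpec n k = X ↘ Spec (CommRingCat.of k))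
    {N : X.Modules} (hN : Coh.IsQCoh N) (a : ℤ) (q : ℕ) :
    Nonempty (Coh.HH (CohB1.ProjSpace n k) ((projData k n).tw ((PF).obj N) a) q ≃ₗ[k]
      Coh.HH X (((projData k n).pullback ι).tw N a) q) := by
  have hO := Twist.isQCoh_twistProjSpace n k a
  obtain ⟨e⟩ := CohFound.nonempty_push_tensor_iso ι N hN _ hO
  obtain ⟨e'⟩ := AmpleFin18.nonempty_HH_push (k := k) ι hι _
    (M2.isQCoh_tensor hN (M1.isQCoh_pullback ι hO) :
      Coh.IsQCoh (CohB1.tensorMod N ((Scheme.Modules.pullback ι).obj (_root_.Twist.twistProjSpace n k a)))) q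
  exact ⟨(CurveCoh17.hequiv k e q).symm.trans e'⟩

theorem euler_push_tw (hι : ι ≫ CohB1.ProjSpace.toSpec n k = X ↘ Spec (CommRingCat.of k))
    {N : X.Modules} (hN : Coh.IsQCoh N) (a : ℤ) :
    Curv2.euler k (CohB1.ProjSpace n k) ((projData k n).tw ((PF).obj N) a) =
      Curv2.euler k X (((projData k n).pullback ι).tw N a) :=
  finsum_congr fun q => by rw [(nonempty_HH_push_tw ι hι hN a q).some.finrank_eq]

/-- The free module onto the direct image of the free module. -/
noncomputable def freeToPush (N : ℕ) :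
    FlatMod.freeMod (CohB1.ProjSpace n k) N ⟶ (PF).obj (FlatMod.freeMod X N) :=
  Sigma.desc fun j => ClSub.unitToPush ι ≫ (PF).map (Sigma.ι (fun _ : Fin N => Coh.structureModule X) j)

theorem epi_freeToPush (N : ℕ) : Epi (freeToPush ι N) := by
  haveI := FGA3.epi_unitToPush ι
  haveI : PreservesColimitsOfShape (Discrete (Fin N)) (Scheme.Modules.pushforward ι) :=
    PreservesFiniteCoproducts.preserves _
  refine ⟨fun {Z} g h hgh => ?_⟩
  refine ((isColimitOfHasCoproductOfPreservesColimit (Scheme.Modules.pushforward ι)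
    (fun _ : Fin N => Coh.structureModule X))).hom_ext fun ⟨j⟩ => ?_
  show (PF).map (Sigma.ι (fun _ : Fin N => Coh.structureModule X) j) ≫ g = (PF).map (Sigma.ι _ j) ≫ h
  rw [← cancel_epi (ClSub.unitToPush ι)]
  have h1 := congrArg (fun φ => Sigma.ι (fun _ : Fin N => Coh.structureModule (CohB1.ProjSpace n k)) j ≫ φ) hgh
  simp only [freeToPush, Sigma.ι_desc_assoc, Category.assoc] at h1
  exact h1

/-- Uniform vanishing and generation for quotients with fixed Hilbert polynomial. -/
theorem exists_uniform_quotients (hι : ι ≫ CohB1.ProjSpace.toSpec n k = X ↘ Spec (CommRingCat.of k))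
    (N : ℕ) (χ : ℕ → ℚ) :
    ∃ M : ℤ, ∀ (F : X.Modules) (q : FlatMod.freeMod X N ⟶ F), Coh.IsCoh F → Epi q →
      (∀ l : ℕ, (Curv2.euler k X (((projData k n).pullback ι).tw F (l : ℤ)) : ℚ) = χ l) →
        ((projData k n).pullback ι).IsReg F M ∧ ((projData k n).pullback ι).IsReg (kernel q) M ∧
        ∀ l : ℤ, M ≤ l → Curv2.IsGloballyGenerated (((projData k n).pullback ι).tw (kernel q) l) := by
  by_cases hw : ∃ (F : X.Modules) (q : FlatMod.freeMod X N ⟶ F), Coh.IsCoh F ∧ Epi q ∧
      ∀ l : ℕ, (Curv2.euler k X (((projData k n).pullback ι).tw F (l : ℤ)) : ℚ) = χ l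
  swap
  · exact ⟨0, fun F q hF hq h => absurd ⟨F, q, hF, hq, h⟩ hw⟩
  haveI := isProper_projSpace k (n := n)
  haveI : IsProper (X ↘ Spec (CommRingCat.of k)) := NumPoly18.isProper_of_closedImmersion ι hι
  haveI : IsNoetherian (CohB1.ProjSpace n k) :=
    CohFound.isNoetherian_of_isProper (CohB1.ProjSpace n k ↘ Spec (CommRingCat.of k))
  haveI : IsNoetherian X := CohFound.isNoetherian_of_isProper (X ↘ Spec (CommRingCat.of k))
  let D := projData k n
  let DX := D.pullback ι
  obtain ⟨B, hB⟩ := exists_bound.{u} N n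
  have hfree := CurveCoh17.isCoh_of_ofRank (M2.isFinLocFreeOfRank_freeMod X N)
  have hfreeP := CurveCoh17.isCoh_of_ofRank (M2.isFinLocFreeOfRank_freeMod (CohB1.ProjSpace n k) N)
  let J := (PF).obj (FlatMod.freeMod X N)
  have hJ : Coh.IsCoh J := CohFound.isCoh_push_closedImm ι hfree
  haveI := epi_freeToPush ι N
  have hK0 := CurveCoh17.isCoh_kernel hfreeP hJ.1 (freeToPush ι N)
  obtain ⟨m0, hm0⟩ := exists_isReg hK0
  -- the composite and its kernel
  have key : ∀ (F : X.Modules) (q : FlatMod.freeMod X N ⟶ F), Coh.IsCoh F → Epi q →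
      (∀ l : ℕ, (Curv2.euler k X (DX.tw F (l : ℤ)) : ℚ) = χ l) →
      ∃ g : FlatMod.freeMod (CohB1.ProjSpace n k) N ⟶ (PF).obj F, g = freeToPush ι N ≫ (PF).map q ∧ Epi g ∧
        Coh.IsCoh ((PF).obj F) ∧ Coh.IsCoh (kernel g) ∧
        ∀ l : ℕ, (Curv2.euler k (CohB1.ProjSpace n k) (D.tw ((PF).obj F) (l : ℤ)) : ℚ) = χ l := by
    intro F q hF hq h
    haveI := hq
    haveI := DirImg11.epi_pushforward_map (f := ι) hfree.1 hF.1 q
    have hPF : Coh.IsCoh ((PF).obj F) := CohFound.isCoh_push_closedImm ι hF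
    exact ⟨_, rfl, epi_comp _ _, hPF, CurveCoh17.isCoh_kernel hfreeP hPF.1 _, fun l => by
      rw [euler_push_tw ι hι hF.1, h]⟩
  obtain ⟨F₀, q₀, hF₀, hq₀, h₀⟩ := hw
  obtain ⟨g₀, -, hg₀, hP₀, hK₀, hχ₀⟩ := key F₀ q₀ hF₀ hq₀ h₀
  obtain ⟨a₀, ha₀⟩ := hasBinom hK₀
  let M := max (max (MvPolynomial.eval a₀ B) m0) 1 + n + 1
  refine ⟨M, fun F q hF hq h => ?_⟩
  obtain ⟨g, hg, hge, hP, hK, hχ⟩ := key F q hF hq h
  haveI := hge
  haveI := hg₀
  haveI := hq
  -- the regularity of the kernel on projective space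
  have hS : (ShortComplex.mk (kernel.ι g) g (kernel.condition g)).ShortExact :=
    { exact := ShortComplex.exact_kernel g }
  have hS₀ : (ShortComplex.mk (kernel.ι g₀) g₀ (kernel.condition g₀)).ShortExact :=
    { exact := ShortComplex.exact_kernel g₀ }
  obtain ⟨a, ha⟩ := hasBinom hK
  have haa : a = a₀ := binom_unique a a₀ fun l => by
    have e := EulerAdd18.euler_add (k := k) (D.shortExact_tw hS (l : ℤ)) (N := n)
      (bdd_proj (isCoh_tw hK _)) (bdd_proj (isCoh_tw hfreeP _)) (bdd_proj (isCoh_tw hP _))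
    have e₀ := EulerAdd18.euler_add (k := k) (D.shortExact_tw hS₀ (l : ℤ)) (N := n)
      (bdd_proj (isCoh_tw hK₀ _)) (bdd_proj (isCoh_tw hfreeP _)) (bdd_proj (isCoh_tw hP₀ _))
    change Curv2.euler k _ (D.tw (FlatMod.freeMod _ N) (l : ℤ)) =
      Curv2.euler k _ (D.tw (kernel g) (l : ℤ)) + Curv2.euler k _ (D.tw ((PF).obj F) (l : ℤ)) at e
    change Curv2.euler k _ (D.tw (FlatMod.freeMod _ N) (l : ℤ)) =
      Curv2.euler k _ (D.tw (kernel g₀) (l : ℤ)) + Curv2.euler k _ (D.tw ((PF).obj F₀) (l : ℤ)) at e₀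
    have e' : Curv2.euler k _ (D.tw ((PF).obj F) (l : ℤ)) = Curv2.euler k _ (D.tw ((PF).obj F₀) (l : ℤ)) := by
      exact_mod_cast (hχ l).trans (hχ₀ l).symm
    rw [ha] at e
    rw [ha₀] at e₀
    linarith
  subst haa
  have hKreg : D.IsReg (kernel g) (MvPolynomial.eval a B) :=
    hB k (kernel g) hK (kernel.ι g) inferInstance a ha
  let L := max (max (MvPolynomial.eval a B) m0) 1
  -- vanishing on projective space from `L` on
  have hfreereg := freeMod_isReg (k := k) n N
  have hJvan : ∀ (i : ℕ) (l : ℤ), 1 ≤ i → L ≤ l → Subsingleton (Coh.HH (CohB1.ProjSpace n k) (D.tw J l) i) := by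
    intro i l hi hl
    refine van₃ k (D.shortExact_tw (S := ShortComplex.mk (kernel.ι (freeToPush ι N)) (freeToPush ι N)
      (kernel.condition _)) { exact := ShortComplex.exact_kernel _ } l) (hfreereg.van k hi (by omega))
      (hm0.van k (by omega) (by omega))
  have hFvan : ∀ (i : ℕ) (l : ℤ), 1 ≤ i → L ≤ l → Subsingleton (Coh.HH (CohB1.ProjSpace n k) (D.tw ((PF).obj F) l) i) :=
    fun i l hi hl => van₃ k (D.shortExact_tw hS l) (hfreereg.van k hi (by omega)) (hKreg.van k (by omega) (by omega))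
  haveI := DirImg11.epi_pushforward_map (f := ι) hfree.1 hF.1 q
  have hG : Coh.IsCoh (kernel q) := CurveCoh17.isCoh_kernel hfree hF.1 q
  have hT : ((ShortComplex.mk (kernel.ι q) q (kernel.condition q)).map PF).ShortExact := by
    haveI : PreservesFiniteLimits (Scheme.Modules.pushforward ι) :=
      (Scheme.Modules.pullbackPushforwardAdjunction ι).rightAdjoint_preservesLimits.{0, 0}.preservesFiniteLimits
    exact { exact := (ShortComplex.exact_of_f_is_kernel _
              (KernelFork.mapIsLimit _ (kernelIsKernel q) (Scheme.Modules.pushforward ι))),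
            mono_f := inferInstanceAs (Mono ((PF).map (kernel.ι q))),
            epi_g := inferInstanceAs (Epi ((PF).map q)) }
  have hGvan : ∀ (i : ℕ) (l : ℤ), 1 ≤ i → L ≤ l →
      Subsingleton (Coh.HH (CohB1.ProjSpace n k) (D.tw ((PF).obj (kernel q)) l) i) := by
    intro i l hi hl
    obtain ⟨p, rfl⟩ : ∃ p, i = p + 1 := ⟨i - 1, by omega⟩
    rcases Nat.eq_zero_or_pos p with rfl | hp
    · refine subsingleton_of_forall_eq 0 fun w => ?_
      obtain ⟨z, rfl⟩ := (CurveCoh17.exact_hdelta_hmap k (D.shortExact_tw hT l) 0 w).1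
        ((hJvan 1 l le_rfl hl).elim _ _)
      refine (CurveCoh17.exact_hmap_hdelta k (D.shortExact_tw hT l) 0 z).2 ?_
      obtain ⟨y, hy⟩ := surjective_g k (D.shortExact_tw hS l) (n := 0) (hKreg.van k le_rfl (by omega)) z
      refine ⟨CurveCoh17.hmap k ((M2.tensorR (D.O l)).map (freeToPush ι N)) 0 y, ?_⟩
      refine (CurveCoh17.hmap_comp k _ _ 0 y).symm.trans (Eq.trans ?_ hy)
      refine congrArg (fun φ => CurveCoh17.hmap k φ 0 y) ?_
      exact ((M2.tensorR (D.O l)).map_comp (freeToPush ι N) ((PF).map q)).symm.trans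
        (congrArg (M2.tensorR (D.O l)).map hg.symm)
    · exact van₁ k (D.shortExact_tw hT l) (hFvan p l hp hl) (hJvan _ l (by omega) hl)
  have hreg : ∀ {G : X.Modules}, Coh.IsCoh G →
      (∀ (i : ℕ) (l : ℤ), 1 ≤ i → L ≤ l → Subsingleton (Coh.HH (CohB1.ProjSpace n k) (D.tw ((PF).obj G) l) i)) →
      DX.IsReg G M := by
    intro G hG' hv i hi
    obtain ⟨e⟩ := nonempty_HH_push_tw ι hι hG'.1 (M - i) i
    haveI : Subsingleton (Coh.HH (CohB1.ProjSpace n k) (D.tw ((PF).obj G) (M - i)) i) := by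
      by_cases hin : i ≤ n
      · exact hv i _ hi (by omega)
      · exact subsingleton_HH_of_lt k (M2.isQCoh_tensor (CohFound.isCoh_push_closedImm ι hG').1
          (Twist.isQCoh_twistProjSpace n k _)) (by omega)
    exact e.symm.toEquiv.subsingleton
  refine ⟨hreg hF hFvan, hreg hG hGvan, fun l hl => ?_⟩
  exact ((hreg hG hGvan).of_le k hl).isGloballyGenerated DX k
    (DX.exists_gg_large (NumPoly18.isAmple_pullback_twistProjSpace ι) hG)

end Groth.Agent.CMReg18
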