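import Groth.Agent.Lib.CMReg18.Twist
import Groth.Agent.Lib.CMReg18.Vanish
import Groth.Agent.Lib.K0Cat.Basic

/-!
# Euler sums of exact complexes and of Koszul complexes; backward differences
-/

set_option autoImplicit false
set_option linter.style.haveILetI false
set_option backward.isDefEq.respectTransparency false
set_option maxHeartbeats 800000

universe w v u

open CategoryTheory CategoryTheory.Limits AlgebraicGeometry

namespace Groth.Agent.CMReg18

open Groth.Agent

section Diff

variable {G : Type w} [AddCommGroup G]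

/-- Iterated backward differences. -/
def bd : ℕ → (ℤ → G) → ℤ → G
  | 0, h, e => h e
  | m + 1, h, e => bd m h e - bd m h (e - 1)

theorem bd_shift (h : ℤ → G) : ∀ (m : ℕ) (e : ℤ), bd m (fun x => h (x - 1)) e = bd m h (e - 1)
  | 0, _ => rfl
  | m + 1, e => by simp only [bd, bd_shift h m]

theorem bd_sub (h h' : ℤ → G) : ∀ (m : ℕ) (e : ℤ), bd m (h - h') e = bd m h e - bd m h' e
  | 0, _ => rfl
  | m + 1, e => by simp only [bd, bd_sub h h' m]; abel

theorem bd_congr {h h' : ℤ → G} : ∀ (m : ℕ) (e : ℤ), (∀ x, e - m ≤ x → x ≤ e → h x = h' x) → bd m h e = bd m h' e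
  | 0, e, hx => hx e (by simp) le_rfl
  | m + 1, e, hx => by
    simp only [bd]
    rw [bd_congr m e fun x h1 h2 => hx x (by push_cast; omega) h2,
      bd_congr m (e - 1) fun x h1 h2 => hx x (by push_cast; omega) (by omega)]

theorem map_bd {H : Type*} [AddCommGroup H] (φ : G →+ H) (h : ℤ → G) :
    ∀ (m : ℕ) (e : ℤ), φ (bd m h e) = bd m (fun x => φ (h x)) e
  | 0, _ => rfl
  | m + 1, e => by simp only [bd, map_sub, map_bd φ h m]

theorem bd_eq_self (h : ℤ → G) : ∀ (m : ℕ) (e : ℤ), (∀ x, e - m ≤ x → x < e → h x = 0) → bd m h e = h e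
  | 0, _, _ => rfl
  | m + 1, e, hx => by
    simp only [bd]
    rw [bd_eq_self h m e fun x h1 h2 => hx x (by push_cast; omega) h2,
      bd_eq_self h m (e - 1) fun x h1 h2 => hx x (by push_cast; omega) (by omega),
      hx (e - 1) (by push_cast; omega) (by omega), sub_zero]

/-- Extrapolation to zero from a window ending at `d`. -/
def evalZero (n : ℕ) (h : ℤ → G) (d : ℕ) : G :=
  ∑ k ∈ Finset.range (n + 1), ((-1 : ℤ) ^ k * (d.choose k : ℤ)) • bd k h (d : ℤ)

theorem evalZero_zero (n : ℕ) (h : ℤ → G) : evalZero n h 0 = h 0 := by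
  rw [evalZero, Finset.sum_eq_single 0]
  · simp [bd]
  · intro k _ hk
    simp [Nat.choose_eq_zero_of_lt (Nat.pos_of_ne_zero hk)]
  · simp

theorem evalZero_succ (h : ℤ → G) (d : ℕ) : ∀ n : ℕ, evalZero n h (d + 1) =
    evalZero n h d + ((-1 : ℤ) ^ n * (d.choose n : ℤ)) • bd (n + 1) h ((d : ℤ) + 1)
  | 0 => by simp [evalZero, bd]
  | n + 1 => by
    have e1 : evalZero (n + 1) h (d + 1) = evalZero n h (d + 1) +
        ((-1 : ℤ) ^ (n + 1) * ((d + 1).choose (n + 1) : ℤ)) • bd (n + 1) h ((d : ℤ) + 1) := by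
      rw [evalZero, Finset.sum_range_succ]
      push_cast
      rfl
    have e2 : evalZero (n + 1) h d = evalZero n h d +
        ((-1 : ℤ) ^ (n + 1) * (d.choose (n + 1) : ℤ)) • bd (n + 1) h (d : ℤ) := by
      rw [evalZero, Finset.sum_range_succ]
      rfl
    have e3 : bd (n + 2) h ((d : ℤ) + 1) = bd (n + 1) h ((d : ℤ) + 1) - bd (n + 1) h (d : ℤ) :=
      (show bd (n + 1 + 1) h ((d : ℤ) + 1) = bd (n + 1) h ((d : ℤ) + 1) - bd (n + 1) h ((d : ℤ) + 1 - 1) from rfl).trans
        (by rw [add_sub_cancel_right])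
    rw [e1, e2, evalZero_succ h d n, e3, Nat.choose_succ_succ' d n]
    push_cast
    rw [pow_succ]
    simp only [smul_sub, mul_neg, mul_one, neg_mul, mul_add, neg_smul, add_smul, neg_add]
    abel

theorem evalZero_eq (h : ℤ → G) (n d : ℕ) (hrec : ∀ e : ℤ, (n : ℤ) + 1 ≤ e → e ≤ d → bd (n + 1) h e = 0) :
    evalZero n h d = h 0 := by
  induction d with
  | zero => exact evalZero_zero n h
  | succ d ih =>
    rw [evalZero_succ, ih fun e h1 h2 => hrec e h1 (by push_cast; omega)]
    by_cases hd : d < n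
    · simp [Nat.choose_eq_zero_of_lt hd]
    · rw [hrec _ (by omega) (by push_cast; omega), smul_zero, add_zero]

theorem evalZero_congr {h h' : ℤ → G} (n d : ℕ) (hx : ∀ x : ℤ, (d : ℤ) - n ≤ x → x ≤ d → h x = h' x) :
    evalZero n h d = evalZero n h' d :=
  Finset.sum_congr rfl fun k hk => by
    rw [Finset.mem_range] at hk
    rw [bd_congr k (d : ℤ) fun x h1 h2 => hx x (by omega) h2]

theorem map_evalZero {H : Type*} [AddCommGroup H] (φ : G →+ H) (n : ℕ) (h : ℤ → G) (d : ℕ) :
    φ (evalZero n h d) = evalZero n (fun x => φ (h x)) d := by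
  simp only [evalZero, map_sum, map_zsmul, map_bd]

theorem bd_eq_choose (n : ℕ) {h : ℤ → G} (hneg : ∀ i : ℤ, -(n : ℤ) ≤ i → i < 0 → h i = 0)
    (hrec : ∀ e : ℤ, 1 ≤ e → bd (n + 1) h e = 0) :
    ∀ (j : ℕ), j ≤ n → ∀ e : ℕ, bd (n - j) h (e : ℤ) = (e + j).choose j • h 0 := by
  have h0 : ∀ m, m ≤ n → bd m h 0 = h 0 := fun m hm =>
    bd_eq_self h m 0 fun x h1 h2 => hneg x (by omega) h2
  have step : ∀ (m : ℕ) (e : ℕ), bd m h ((e + 1 : ℕ) : ℤ) = bd m h (e : ℤ) + bd (m + 1) h ((e + 1 : ℕ) : ℤ) := by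
    intro m e
    simp only [bd]
    rw [show ((e + 1 : ℕ) : ℤ) - 1 = (e : ℤ) by push_cast; ring]
    abel
  intro j
  induction j with
  | zero =>
    intro _ e
    rw [Nat.sub_zero, Nat.choose_zero_right, one_smul]
    induction e with
    | zero => exact h0 n le_rfl
    | succ e ih => rw [step n e, ih, hrec _ (by push_cast; omega), add_zero]
  | succ j ihj =>
    intro hj e
    induction e with
    | zero => rw [Nat.zero_add, Nat.choose_self, one_smul]; exact h0 _ (Nat.sub_le _ _)
    | succ e ih =>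
      rw [step, ih, show n - (j + 1) + 1 = n - j by omega, ihj (by omega) (e + 1),
        show e + 1 + (j + 1) = (e + (j + 1)) + 1 by omega, Nat.choose_succ_succ' (e + (j + 1)) j,
        show e + 1 + j = e + (j + 1) by omega, add_smul, add_comm]

end Diff

section Cplx

variable {A : Type u} [Category.{v} A] [Abelian A] {G : Type w} [AddCommGroup G]

/-- A class of objects with a function additive on biproducts. -/
structure BAdd (P : A → Prop) (a : A → G) : Prop where
  prop_iso : ∀ {X Y : A}, (X ≅ Y) → P X → P Y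
  prop_zero : ∀ {X : A}, IsZero X → P X
  prop_biprod : ∀ {X Y : A}, P X → P Y → P (X ⊞ Y)
  map_zero : ∀ {X : A}, IsZero X → a X = 0
  map_iso : ∀ {X Y : A}, (X ≅ Y) → P X → a X = a Y
  map_biprod : ∀ {X Y : A}, P X → P Y → a (X ⊞ Y) = a X + a Y

theorem BAdd.of_ses {P : A → Prop} {a : A → G} (hi : ∀ {X Y : A}, (X ≅ Y) → P X → P Y)
    (hz : ∀ {X : A}, IsZero X → P X) (hb : ∀ {X Y : A}, P X → P Y → P (X ⊞ Y))
    (h : ∀ S : ShortComplex A, S.ShortExact → P S.X₁ → P S.X₂ → P S.X₃ → a S.X₂ = a S.X₁ + a S.X₃) :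
    BAdd P a := by
  have h0 : ∀ {X : A}, IsZero X → a X = 0 := fun {X} hX =>
    left_eq_add.1 (h _ (K0Cat.shortExact_id_zero (X := X) hX) (hz hX) (hz hX) (hz hX))
  refine ⟨hi, hz, hb, h0, fun {X Y} e hX => ?_, fun {X Y} hX hY =>
    h _ (ShortComplex.Splitting.ofHasBinaryBiproduct X Y).shortExact hX (hb hX hY) hY⟩
  have hZ := isZero_cokernel_of_epi (𝟙 X)
  have hS : (ShortComplex.mk e.hom (0 : Y ⟶ cokernel (𝟙 X)) comp_zero).ShortExact :=
    ShortComplex.shortExact_of_iso
      (ShortComplex.isoMk (S₁ := ShortComplex.mk (𝟙 X) (0 : X ⟶ cokernel (𝟙 X)) comp_zero)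
        (Iso.refl _) e (Iso.refl _) (by simp) (by simp))
      (K0Cat.shortExact_id_zero hZ)
  have := h _ hS hX (hi e hX) (hz hZ)
  rw [h0 hZ, add_zero] at this
  exact this.symm

/-- The Euler sum up to degree `t`. -/
noncomputable def eul (a : A → G) (C : ChainComplex A ℕ) (t : ℕ) : G :=
  ∑ s ∈ Finset.range (t + 1), ((-1 : ℤ) ^ s) • a (C.X s)

variable {T : A ⥤ A}

/-- The differences along an endofunctor. -/
def nab (T : A ⥤ A) : (A → G) → ℕ → A → G
  | a, 0, F => a F
  | a, m + 1, F => nab T a m F - nab T (fun X => a (T.obj X)) m F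

theorem BAdd.comp [T.Additive] {P : A → Prop} {a : A → G} (h : BAdd P a) :
    BAdd (fun X => P (T.obj X)) (fun X => a (T.obj X)) where
  prop_iso e hX := h.prop_iso (T.mapIso e) hX
  prop_zero hX := h.prop_zero (T.map_isZero hX)
  prop_biprod {X Y} hX hY :=
    haveI := preservesBinaryBiproducts_of_preservesBiproducts T
    h.prop_iso (T.mapBiprod X Y).symm (h.prop_biprod hX hY)
  map_zero hX := h.map_zero (T.map_isZero hX)
  map_iso e hX := h.map_iso (T.mapIso e) hX
  map_biprod {X Y} hX hY := by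
    haveI := preservesBinaryBiproducts_of_preservesBiproducts T
    rw [← h.map_iso (T.mapBiprod X Y).symm (h.prop_biprod hX hY), h.map_biprod hX hY]

/-- The Euler sum of a Koszul complex. -/
theorem eul_koszul [T.Additive] : ∀ (l : List (T ⟶ 𝟭 A)) (P : A → Prop) (a : A → G), BAdd P a →
    ∀ F : A, (∀ j, j ≤ l.length → P (tpow T F j)) → eul a (koszul l F) l.length = nab T a l.length F
  | [], P, a, _, F, _ => by
    simp only [eul, List.length_nil, zero_add, Finset.sum_range_one, pow_zero, one_smul, nab]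
    rfl
  | η :: l, P, a, h, F, hF => by
    have hP : ∀ s, P ((koszul l F).X s) := fun s =>
      if hs : s ≤ l.length then
        koszul_ind l P h.prop_iso (fun _ => h.prop_zero) (fun _ _ => h.prop_biprod) F s
          (hF s (hs.trans (Nat.le_succ _)))
      else h.prop_zero (koszul_isZero l F s (by omega))
    have hPT : ∀ s, P (T.obj ((koszul l F).X s)) := fun s =>
      if hs : s ≤ l.length then
        koszul_ind l (fun X => P (T.obj X)) h.comp.prop_iso (fun _ => h.comp.prop_zero)
          (fun _ _ => h.comp.prop_biprod) F s (hF (s + 1) (by simpa using hs))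
      else h.prop_zero (T.map_isZero (koszul_isZero l F s (by omega)))
    have i1 := eul_koszul l P a h F fun j hj => hF j (hj.trans (Nat.le_succ _))
    have i2 := eul_koszul l _ _ (h.comp (T := T)) F fun j hj => hF (j + 1) (by simpa using hj)
    rw [eul, List.length_cons, nab, ← i1, ← i2, Finset.sum_range_succ']
    have e1 : ∀ s, ((koszul (η :: l) F).X (s + 1)) = ((koszul l F).X (s + 1) ⊞ T.obj ((koszul l F).X s)) :=
      fun _ => rfl
    have e0 : (koszul (η :: l) F).X 0 = (koszul l F).X 0 := rfl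
    simp only [e1, e0, fun s => h.map_biprod (hP (s + 1)) (hPT s), smul_add, Finset.sum_add_distrib]
    have e2 : eul a (koszul l F) l.length = ∑ s ∈ Finset.range (l.length + 1 + 1),
        ((-1 : ℤ) ^ s) • a ((koszul l F).X s) := by
      rw [Finset.sum_range_succ, h.map_zero (koszul_isZero l F _ (Nat.lt_succ_self _)), smul_zero, add_zero]
      rfl
    rw [e2, Finset.sum_range_succ' _ (l.length + 1)]
    simp only [eul, pow_succ, mul_neg, mul_one, neg_smul, Finset.sum_neg_distrib]
    abel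

end Cplx

section Sch

variable {X : Scheme.{u}} {G : Type w} [AddCommGroup G]

/-- The Euler sum of a bounded exact complex vanishes. -/
theorem eul_eq_zero {P : X.Modules → Prop} {a : X.Modules → G} (h : BAdd P a)
    (hses : ∀ S : ShortComplex X.Modules, S.ShortExact → P S.X₁ → P S.X₂ → P S.X₃ → a S.X₂ = a S.X₁ + a S.X₃)
    (C : ChainComplex X.Modules ℕ) {t : ℕ} (hb : ∀ s, t < s → IsZero (C.X s))
    (hC : ∀ x : X, ExactVia (M1.stalkAb x) C) (hP : ∀ s, P (C.X s)) (hB : ∀ j, P (Bd C j)) :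
    eul a C t = 0 := by
  obtain ⟨he, hex⟩ := exact_of_exactVia C hC
  haveI := he
  haveI : Epi (Abelian.image.ι (C.d 1 0)) := epi_of_epi_fac (Abelian.image.fac (C.d 1 0))
  haveI : IsIso (Abelian.image.ι (C.d 1 0)) := isIso_of_mono_of_epi _
  have hstep : ∀ j, a (C.X (j + 1)) = a (Bd C (j + 1)) + a (Bd C j) := fun j => by
    haveI : Epi (bdInCycles C j) := by
      haveI := (ShortComplex.exact_iff_epi_kernel_lift _).1 (hex j)
      refine epi_of_epi_fac (f := Abelian.factorThruImage (C.d (j + 2) (j + 1)))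
        (h := kernel.lift (C.d (j + 1) j) (C.d (j + 2) (j + 1)) (C.d_comp_d _ _ _)) ?_
      simp [← cancel_mono (kernel.ι (C.d (j + 1) j))]
    haveI : IsIso (bdInCycles C j) := isIso_of_mono_of_epi _
    have e := asIso (bdInCycles C j)
    rw [h.map_iso e (hB _)]
    exact hses _ (shortExact_cycles C j) (h.prop_iso e (hB _)) (hP _) (hB j)
  have htel : ∀ j, eul a C j = ((-1 : ℤ) ^ j) • a (Bd C j) := by
    intro j
    induction j with
    | zero =>
      simp only [eul, zero_add, Finset.sum_range_one, pow_zero, one_smul]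
      exact (h.map_iso (asIso (Abelian.image.ι (C.d 1 0))) (hB 0)).symm
    | succ j ih =>
      rw [eul, Finset.sum_range_succ, ← eul, ih, hstep, pow_succ, smul_add, mul_neg_one, neg_smul, neg_smul]
      abel
  rw [htel, h.map_zero (IsZero.of_epi (Abelian.factorThruImage (C.d (t + 1) t)) (hb _ (by omega))), smul_zero]

end Sch

end Groth.Agent.CMReg18
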