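import Groth.Agent.Lib.CMReg18.Resolution
import Groth.Agent.Lib.EulerAdd18.Basic
import Groth.Agent.S4466

/-!
# Euler characteristics of twists in the binomial basis
-/

set_option autoImplicit false
set_option linter.style.haveILetI false
set_option backward.isDefEq.respectTransparency false

universe u

open CategoryTheory CategoryTheory.Limits AlgebraicGeometry TopologicalSpace Opposite

namespace Groth.Agent.CMReg18

open Groth.Agent

variable {k : Type u} [Field k] {n : ℕ}

/-- The Euler characteristics of the twists in the binomial basis. -/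
def HasBinom (F : (CohB1.ProjSpace n k).Modules) : Prop :=
  ∃ a : Fin (n + 1) → ℤ, ∀ r : ℤ, Curv2.euler k (CohB1.ProjSpace n k) ((projData k n).tw F r) =
    ∑ j : Fin (n + 1), a j * Ring.choose r (j : ℕ)

theorem bdd_proj {M : (CohB1.ProjSpace n k).Modules} (hM : Coh.IsCoh M) : EulerAdd18.Bdd k (n + 1) M := by
  haveI := isProper_projSpace k (n := n)
  haveI : IsNoetherian (CohB1.ProjSpace n k) :=
    CohFound.isNoetherian_of_isProper (CohB1.ProjSpace n k ↘ Spec (CommRingCat.of k))
  exact ⟨fun i => CohFound.finite_HH_of_isProper (A := k) _ hM i,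
    fun i hi => subsingleton_HH_of_lt k hM.1 (by omega)⟩

theorem isCoh_tw {M : (CohB1.ProjSpace n k).Modules} (hM : Coh.IsCoh M) (r : ℤ) :
    Coh.IsCoh ((projData k n).tw M r) := by
  haveI := isProper_projSpace k (n := n)
  haveI : IsNoetherian (CohB1.ProjSpace n k) :=
    CohFound.isNoetherian_of_isProper (CohB1.ProjSpace n k ↘ Spec (CommRingCat.of k))
  exact CurveCoh17.isCoh_tensor hM (Snapper.isCoh_of_isInvertible ((projData k n).inv r))

theorem euler_iso {M N : (CohB1.ProjSpace n k).Modules} (e : M ≅ N) :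
    Curv2.euler k (CohB1.ProjSpace n k) M = Curv2.euler k (CohB1.ProjSpace n k) N :=
  finsum_congr fun i => by rw [(CurveCoh17.hequiv k e i).finrank_eq]

theorem euler_twist (a : ℤ) :
    Curv2.euler k (CohB1.ProjSpace n k) ((projData k n).O a) = Ring.choose (a + n) n := by
  have h := (bdd_proj (k := k) (n := n) (Snapper.isCoh_of_isInvertible ((projData k n).inv a))).euler_eq
  rw [h]
  rcases Nat.eq_zero_or_pos n with rfl | hn
  · rw [Ring.choose_zero_right, Finset.sum_range_one, pow_zero, one_mul]
    by_cases ha : 0 ≤ a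
    · obtain ⟨d, rfl⟩ := Int.eq_ofNat_of_zero_le ha
      obtain ⟨e⟩ := S0843.result k 0 d
      exact_mod_cast e.finrank_eq.trans ((S4466.finrank_forms k 0 d).trans (Nat.choose_zero_right _))
    · obtain ⟨j, rfl⟩ : ∃ j : ℕ, a = -((0 : ℕ) + 1 + j : ℤ) := ⟨(-1 - a).toNat, by omega⟩
      obtain ⟨e⟩ := S0845.result k 0 j
      exact_mod_cast e.finrank_eq.trans ((S4466.finrank_forms k 0 j).trans (Nat.choose_zero_right _))
  · exact S4466.result k n hn a

theorem finrank_h0_twist (d : ℕ) :
    Module.finrank k (Coh.HH (CohB1.ProjSpace n k) ((projData k n).O (d : ℤ)) 0) = (n + d).choose n := by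
  obtain ⟨e⟩ := S0843.result k n d
  exact e.finrank_eq.trans (S4466.finrank_forms k n d)

theorem HasBinom.of_ses {S : ShortComplex (CohB1.ProjSpace n k).Modules} (hS : S.ShortExact)
    (h1 : Coh.IsCoh S.X₁) (h2 : Coh.IsCoh S.X₂) (h3 : Coh.IsCoh S.X₃) (a1 : HasBinom S.X₁) (a2 : HasBinom S.X₂) :
    HasBinom S.X₃ := by
  obtain ⟨a, ha⟩ := a1
  obtain ⟨b, hb⟩ := a2
  refine ⟨fun j => b j - a j, fun r => ?_⟩
  have h := EulerAdd18.euler_add (k := k) ((projData k n).shortExact_tw hS r) (N := n)
    (bdd_proj (isCoh_tw h1 r)) (bdd_proj (isCoh_tw h2 r)) (bdd_proj (isCoh_tw h3 r))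
  change Curv2.euler k _ ((projData k n).tw S.X₂ r) =
    Curv2.euler k _ ((projData k n).tw S.X₁ r) + Curv2.euler k _ ((projData k n).tw S.X₃ r) at h
  rw [ha, hb] at h
  simp only [sub_mul, Finset.sum_sub_distrib]
  linarith

theorem finrank_sum_twist (b : ℕ) (e r : ℤ) (q : ℕ) :
    Module.finrank k (Coh.HH (CohB1.ProjSpace n k) ((projData k n).tw (∐ fun _ : Fin b => (projData k n).O e) r) q) =
      b * Module.finrank k (Coh.HH (CohB1.ProjSpace n k) ((projData k n).O (e + r)) q) := by
  let D := projData k n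
  let i : D.tw (∐ fun _ : Fin b => D.O e) r ≅ ⨁ fun _ : Fin b => D.O (e + r) :=
    PreservesCoproduct.iso (M2.tensorR (D.O r)) _ ≪≫ Sigma.mapIso (fun _ => D.add e r) ≪≫
      (biproduct.isoCoproduct _).symm
  rw [(CurveCoh17.hequiv k i q).finrank_eq, biproduct_finrank k]
  haveI := (bdd_proj (k := k) (n := n) (Snapper.isCoh_of_isInvertible (D.inv (e + r)))).fin q
  rw [Module.finrank_pi_fintype, Finset.sum_const, Finset.card_univ, Fintype.card_fin, smul_eq_mul]

theorem hasBinom_sum_twist (b : ℕ) (e : ℤ) : HasBinom (∐ fun _ : Fin b => (projData k n).O e) := by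
  refine ⟨fun j => b * Ring.choose (e + n) (n - (j : ℕ)), fun r => ?_⟩
  have h : Curv2.euler k (CohB1.ProjSpace n k) ((projData k n).tw (∐ fun _ : Fin b => (projData k n).O e) r) =
      b * Curv2.euler k (CohB1.ProjSpace n k) ((projData k n).O (e + r)) := by
    have hc : Coh.IsCoh (∐ fun _ : Fin b => (projData k n).O e) := by
      haveI := isProper_projSpace k (n := n)
      haveI : IsNoetherian (CohB1.ProjSpace n k) :=
        CohFound.isNoetherian_of_isProper (CohB1.ProjSpace n k ↘ Spec (CommRingCat.of k))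
      exact CohFound.isCoh_of_iso (M2.freeModTensorIso _ b _) (CurveCoh17.isCoh_tensor
        (CurveCoh17.isCoh_of_ofRank (M2.isFinLocFreeOfRank_freeMod _ b))
        (Snapper.isCoh_of_isInvertible ((projData k n).inv _)))
    rw [(bdd_proj (isCoh_tw hc r)).euler_eq,
      (bdd_proj (k := k) (n := n) (Snapper.isCoh_of_isInvertible ((projData k n).inv (e + r)))).euler_eq,
      Finset.mul_sum]
    refine Finset.sum_congr rfl fun q _ => ?_
    rw [finrank_sum_twist]
    push_cast
    ring
  rw [h, euler_twist, show e + r + n = r + (e + n) by ring, Ring.add_choose_eq _ (Commute.all _ _),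
    Finset.Nat.sum_antidiagonal_eq_sum_range_succ (fun i l => Ring.choose r i * Ring.choose (e + n) l) n,
    Finset.mul_sum, ← Fin.sum_univ_eq_sum_range]
  exact Finset.sum_congr rfl fun j _ => by ring

/-- The Euler characteristics of twists are integral combinations of binomial coefficients. -/
theorem hasBinom {F : (CohB1.ProjSpace n k).Modules} (hF : Coh.IsCoh F) : HasBinom F := by
  haveI := isProper_projSpace k (n := n)
  haveI : IsNoetherian (CohB1.ProjSpace n k) :=
    CohFound.isNoetherian_of_isProper (CohB1.ProjSpace n k ↘ Spec (CommRingCat.of k))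
  obtain ⟨m₁, hm₁⟩ := exists_isReg hF
  let m := m₁ + 1
  have h0 : Stage (k := k) (n := n) m 0 F :=
    ⟨hF, by simpa [m] using hm₁.succ k, fun h => absurd h (by omega), fun i hi _ =>
      van_iso k ((projData k n).twIso _ (by simp only [m]; push_cast; ring)) (hm₁ i hi)⟩
  suffices h : ∀ (d j : ℕ), n + 1 ≤ j + d → ∀ K : (CohB1.ProjSpace n k).Modules, Stage m j K → HasBinom K from
    h (n + 1) 0 (by omega) F h0
  intro d
  induction d with
  | zero =>
    intro j hj K hK
    refine ⟨0, fun r => ?_⟩
    have hz : IsZero ((projData k n).tw K r) :=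
      Functor.map_isZero (M2.tensorR ((projData k n).O r)) (hK.isZero (by omega))
    simp only [Pi.zero_apply, zero_mul, Finset.sum_const_zero]
    refine finsum_eq_zero_of_forall_eq_zero fun i => ?_
    haveI := van_isZero k hz i
    rw [Module.finrank_zero_of_subsingleton]
    simp
  | succ d ih =>
    intro j hj K hK
    obtain ⟨b, φ, -, hφ, hnext⟩ := hK.exists_next
    haveI := hφ
    have hS : (ShortComplex.mk (kernel.ι φ) φ (kernel.condition φ)).ShortExact :=
      { exact := ShortComplex.exact_kernel φ }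
    have hC : Coh.IsCoh (∐ fun _ : Fin b => (projData k n).O (-(m + j))) :=
      CohFound.isCoh_of_iso (M2.freeModTensorIso _ b _) (CurveCoh17.isCoh_tensor
        (CurveCoh17.isCoh_of_ofRank (M2.isFinLocFreeOfRank_freeMod _ b))
        (Snapper.isCoh_of_isInvertible ((projData k n).inv _)))
    have h2 := hasBinom_sum_twist (k := k) (n := n) b (-(m + j))
    have h1 := ih (j + 1) (by omega) _ hnext
    exact HasBinom.of_ses (S := ShortComplex.mk (kernel.ι φ) φ (kernel.condition φ)) hS hnext.coh hC hK.coh h1 h2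

end Groth.Agent.CMReg18
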