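import Groth.Agent.Lib.NumPoly18.FamilyEuler
import Groth.Agent.Lib.NumPoly18.Trans
import Groth.Agent.Lib.FibDim14.Semicont
import Groth.Agent.Lib.FibGenApp4
import Groth.Agent.S1455
import Groth.Agent.S1528
import Mathlib.Combinatorics.Nullstellensatz

/-!
# Euler characteristics of twists on the fibres: local constancy and finiteness
-/

set_option autoImplicit false
set_option linter.style.haveILetI false
set_option backward.isDefEq.respectTransparency false
set_option maxHeartbeats 1600000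

universe u

open CategoryTheory CategoryTheory.Limits AlgebraicGeometry TopologicalSpace Opposite

namespace Groth.Agent.CMReg18

open Groth.Agent

variable {X S : Scheme.{u}}

/-- Finite presentation and tensor products with invertible modules. -/
theorem isFP_tensor_inv {F L : X.Modules} (hF : CohB1.IsFP F) (hL : PicF.IsInvertible L) :
    CohB1.IsFP (CohB1.tensorMod F L) := by
  choose W hW e using hL
  refine M1.isFP_of_openImmersion_cover (fun y => (W y).ι) (fun x => ⟨x, ⟨x, hW x⟩, rfl⟩) fun y => ?_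
  exact M1.isFP_of_isIso (M2.tensorRUnit _).symm (M1.isFP_restrict hF (W y).ι) |>
    M1.isFP_of_isIso (M2.tensorIso (Iso.refl _) (e y).some.symm) |>
    M1.isFP_of_isIso (M2.restrictTensorIso (W y).ι F L).symm

theorem isFP_tensorPows {F : X.Modules} (hF : CohB1.IsFP F) : ∀ (t : ℕ) (L : Fin t → X.Modules),
    (∀ i, PicF.IsInvertible (L i)) → ∀ n : Fin t → ℕ, CohB1.IsFP (Curv2.tensorPows F t L n)
  | 0, _, _, _ => hF
  | t + 1, _, hL, _ =>
    isFP_tensor_inv (isFP_tensorPows hF t _ (fun i => hL i.castSucc) _) (M2.isInvertible_tensorPow (hL _) _)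

theorem isFlatOver_tensorPows (f : X ⟶ S) {F : X.Modules} (hF : CohB1.IsFP F) (hfl : FlatMod.IsFlatOver f F) :
    ∀ (t : ℕ) (L : Fin t → X.Modules), (∀ i, PicF.IsInvertible (L i)) →
      ∀ n : Fin t → ℕ, FlatMod.IsFlatOver f (Curv2.tensorPows F t L n)
  | 0, _, _, _ => hfl
  | t + 1, L, hL, n => by
    haveI : Coh.IsQCoh (Curv2.tensorPows F t (fun i => L i.castSucc) (fun i => n i.castSucc)) :=
      M1.isFP_isQCoh (isFP_tensorPows hF t _ (fun i => hL i.castSucc) _)
    exact FlatTwist13.isFlatOver_tensor f (isFlatOver_tensorPows f hF hfl t _ (fun i => hL i.castSucc) _)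
      (M2.isInvertible_tensorPow (hL _) _)

/-- The dimensions of the fibres of a proper map are locally bounded. -/
theorem exists_nhd_dim_fiber_le (f : X ⟶ S) [IsProper f] (s : S) :
    ∃ (V : S.Opens) (d : ℕ), s ∈ V ∧ ∀ s' ∈ V, topologicalKrullDim ↥(f.fiber s') ≤ (d : WithBot ℕ∞) := by
  let O : ℕ → Set X := fun d => {x | FlatMor.fibreDimAt f x ≤ (d : WithBot ℕ∞)}
  have hcover : f ⁻¹' {s} ⊆ ⋃ d, O d := fun x _ => by
    obtain ⟨x', -, -, h, -⟩ := FibDim14.exists_fibreDimAt_eq f x
    exact Set.mem_iUnion.2 ⟨_, h.le⟩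
  obtain ⟨A, hA⟩ := (f.isProperMap.isCompact_preimage (isCompact_singleton (x := s))).elim_finite_subcover O
    (fun d => FibDim14.isOpen_fibreDimAt_le f d) hcover
  let d := A.sup id
  have hsub : f ⁻¹' {s} ⊆ O d := fun x hx => by
    obtain ⟨j, hj, hxj⟩ := Set.mem_iUnion₂.1 (hA hx)
    exact le_trans (show _ ≤ (j : WithBot ℕ∞) from hxj) (by exact_mod_cast Finset.le_sup (f := id) hj)
  refine ⟨⟨(f '' (O d)ᶜ)ᶜ, (f.isClosedMap _ (FibDim14.isOpen_fibreDimAt_le f d).isClosed_compl).isOpen_compl⟩, d,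
    fun ⟨x, hx, e⟩ => hx (hsub e), fun s' hs' => (FibGen4.dim_fiber_le_iff f s' _).2 fun x hx => ?_⟩
  by_contra h
  exact hs' ⟨x, h, hx⟩

/-- The Euler characteristics of the twisted fibres as a function of the exponents. -/
noncomputable def fibChi (f : X ⟶ S) (F : X.Modules) (t : ℕ) (L : Fin t → X.Modules) (s : S) :
    (Fin t → ℕ) → ℤ := fun n =>
  @Curv2.euler (S.residueField s) _ (f.fiber s) ⟨f.fiberToSpecResidueField s⟩
    ((Scheme.Modules.pullback (f.fiberι s)).obj (Curv2.tensorPows F t L n))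

theorem exists_fibChi_poly (f : X ⟶ S) [IsProper f] {F : X.Modules} (hF : CohB1.IsFP F) (t : ℕ)
    (L : Fin t → X.Modules) (hL : ∀ i, PicF.IsInvertible (L i)) (s : S) (d : ℕ)
    (hd : topologicalKrullDim ↥(f.fiber s) ≤ (d : WithBot ℕ∞)) :
    ∃ P : MvPolynomial (Fin t) ℚ, P.totalDegree ≤ d ∧
      ∀ n, (fibChi f F t L s n : ℚ) = MvPolynomial.eval (fun i => (n i : ℚ)) P := by
  letI : (f.fiber s).Over (Spec (CommRingCat.of (S.residueField s))) := ⟨f.fiberToSpecResidueField s⟩
  haveI : IsProper (f.fiber s ↘ Spec (CommRingCat.of (S.residueField s))) :=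
    inferInstanceAs (IsProper (pullback.snd f (S.fromSpecResidueField s)))
  haveI : IsNoetherian (f.fiber s) :=
    CohFound.isNoetherian_of_isProper (f.fiber s ↘ Spec (CommRingCat.of (S.residueField s)))
  have hFs : Coh.IsCoh ((Scheme.Modules.pullback (f.fiberι s)).obj F) :=
    (M1.isCoh_iff_isFP _).2 (M1.isFP_pullback _ hF)
  obtain ⟨P, hP, hPn⟩ := S1528.result (S.residueField s) (f.fiber s) _ hFs d
    (le_trans (Topology.IsInducing.topologicalKrullDim_le Topology.IsInducing.subtypeVal) hd) t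
    (fun i => (Scheme.Modules.pullback (f.fiberι s)).obj (L i))
    (fun i => PicLoc.isInvertible_pullback _ (hL i))
  refine ⟨P, hP, fun n => ?_⟩
  obtain ⟨e⟩ := NumPoly18.nonempty_pullback_tensorPows (f.fiberι s) F t L n
  rw [← hPn n]
  exact_mod_cast CurveCoh17.euler_iso (k := S.residueField s) e

/-- In a flat family they are locally constant as functions of all exponents. -/
theorem exists_nhd_fibChi_eq (f : X ⟶ S) [IsProper f] [LocallyOfFinitePresentation f] {F : X.Modules}
    (hF : CohB1.IsFP F) (hfl : FlatMod.IsFlatOver f F) (t : ℕ) (L : Fin t → X.Modules)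
    (hL : ∀ i, PicF.IsInvertible (L i)) (s : S) :
    ∃ U : S.Opens, s ∈ U ∧ ∀ s' ∈ U, fibChi f F t L s' = fibChi f F t L s := by
  classical
  obtain ⟨V, d, hsV, hV⟩ := exists_nhd_dim_fiber_le f s
  have hloc : ∀ n, IsLocallyConstant fun s' => fibChi f F t L s' n := fun n =>
    FibEuler9.isLocallyConstant_eulerChar f _ (isFP_tensorPows hF t L hL n) (isFlatOver_tensorPows f hF hfl t L hL n)
  let g : (Fin t → Fin (d + 1)) → S.Opens := fun n =>
    ⟨{s' | fibChi f F t L s' (fun i => (n i : ℕ)) = fibChi f F t L s (fun i => (n i : ℕ))},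
      (hloc _).isOpen_fiber _⟩
  refine ⟨⟨(V : Set S) ∩ ⋂ n, (g n : Set S), V.isOpen.inter (isOpen_iInter_of_finite fun n => (g n).isOpen)⟩,
    ⟨hsV, Set.mem_iInter.2 fun n => rfl⟩, fun s' hs' => funext fun m => ?_⟩
  obtain ⟨P, hP, hPn⟩ := exists_fibChi_poly f hF t L hL s' d (hV s' hs'.1)
  obtain ⟨Q, hQ, hQn⟩ := exists_fibChi_poly f hF t L hL s d (hV s hsV)
  have h0 : P - Q = 0 := by
    refine MvPolynomial.eq_zero_of_eval_zero_at_prod_finset (P - Q)
      (fun _ => (Finset.range (d + 1)).image (fun a : ℕ => (a : ℚ))) (fun i => ?_) fun x hx => ?_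
    · rw [Finset.card_image_of_injective _ Nat.cast_injective, Finset.card_range]
      exact lt_of_le_of_lt (((P - Q).degreeOf_le_totalDegree i).trans
        ((MvPolynomial.totalDegree_sub P Q).trans (max_le hP hQ))) (Nat.lt_succ_self d)
    · have hc : ∀ i, ∃ a : Fin (d + 1), ((a : ℕ) : ℚ) = x i := fun i => by
        obtain ⟨a, ha, e⟩ := Finset.mem_image.1 (hx i)
        exact ⟨⟨a, Finset.mem_range.1 ha⟩, e⟩
      choose a ha using hc
      have e : fibChi f F t L s' (fun i => (a i : ℕ)) = fibChi f F t L s (fun i => (a i : ℕ)) :=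
        Set.mem_iInter.1 hs'.2 a
      rw [show x = fun i => ((a i : ℕ) : ℚ) from funext fun i => (ha i).symm, map_sub, ← hPn, ← hQn, e, sub_self]
  exact Int.cast_injective (α := ℚ) ((hPn m).trans (by rw [sub_eq_zero.1 h0, ← hQn m]))

/-- Euler characteristics are unchanged by extensions of the field. -/
theorem euler_fieldExt {κ Ω : Type u} [Field κ] [Field Ω] {Y Z : Scheme.{u}} [Y.Over (Spec (CommRingCat.of κ))]
    [Z.Over (Spec (CommRingCat.of Ω))] [IsProper (Y ↘ Spec (CommRingCat.of κ))]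
    (c : Spec (CommRingCat.of Ω) ⟶ Spec (CommRingCat.of κ)) (g : Z ⟶ Y)
    (hg : IsPullback g (Z ↘ Spec (CommRingCat.of Ω)) (Y ↘ Spec (CommRingCat.of κ)) c) {G : Y.Modules}
    (hG : Coh.IsCoh G) : Curv2.euler Ω Z ((Scheme.Modules.pullback g).obj G) = Curv2.euler κ Y G := by
  haveI : Subsingleton ↥(Spec (CommRingCat.of κ)) := inferInstanceAs (Subsingleton (PrimeSpectrum κ))
  haveI : IsNoetherianRing κ := inferInstance
  have hid : IsPullback (𝟙 Y) (Y ↘ Spec (CommRingCat.of κ)) (Y ↘ Spec (CommRingCat.of κ)) (𝟙 _) :=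
    IsPullback.of_horiz_isIso ⟨by simp⟩
  have h1 := NumPoly18.eulerChar_eq_euler (Y ↘ Spec (CommRingCat.of κ)) hG (NumPoly18.isFlatOver_field _ G) g c hg
  have h2 := NumPoly18.eulerChar_eq_euler (Y ↘ Spec (CommRingCat.of κ)) hG (NumPoly18.isFlatOver_field _ G)
    (𝟙 Y) (𝟙 _) hid
  have h3 := h2.trans (CurveCoh17.euler_iso (k := κ) ((Scheme.Modules.pullbackId Y).app G))
  simp only [Functor.id_obj] at h3
  rw [← h1, ← h3]
  exact congrArg _ (Subsingleton.elim _ _)

/-- The fibres of a base change. -/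
theorem euler_fiber_baseChange (f : X ⟶ S) [IsProper f] {Z : Scheme.{u}} (g : Z ⟶ S) {G : X.Modules}
    (hG : CohB1.IsFP G) (z : Z) :
    @Curv2.euler (Z.residueField z) _ ((pullback.snd f g).fiber z) ⟨(pullback.snd f g).fiberToSpecResidueField z⟩
        ((Scheme.Modules.pullback ((pullback.snd f g).fiberι z)).obj
          ((Scheme.Modules.pullback (pullback.fst f g)).obj G)) =
      @Curv2.euler (S.residueField (g z)) _ (f.fiber (g z)) ⟨f.fiberToSpecResidueField (g z)⟩
        ((Scheme.Modules.pullback (f.fiberι (g z))).obj G) := by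
  let f' := pullback.snd f g
  letI : (f.fiber (g z)).Over (Spec (CommRingCat.of (S.residueField (g z)))) := ⟨f.fiberToSpecResidueField (g z)⟩
  letI : (f'.fiber z).Over (Spec (CommRingCat.of (Z.residueField z))) := ⟨f'.fiberToSpecResidueField z⟩
  haveI : IsProper (f.fiber (g z) ↘ Spec (CommRingCat.of (S.residueField (g z)))) :=
    inferInstanceAs (IsProper (pullback.snd f (S.fromSpecResidueField (g z))))
  haveI : IsNoetherian (f.fiber (g z)) :=
    CohFound.isNoetherian_of_isProper (f.fiber (g z) ↘ Spec (CommRingCat.of (S.residueField (g z))))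
  let c : Spec (Z.residueField z) ⟶ Spec (S.residueField (g z)) := Spec.map (g.residueFieldMap z)
  have hc : c ≫ S.fromSpecResidueField (g z) = Z.fromSpecResidueField z ≫ g :=
    g.SpecMap_residueFieldMap_fromSpecResidueField z
  have h1 : IsPullback (f'.fiberι z ≫ pullback.fst f g) (f'.fiberToSpecResidueField z) f
      (c ≫ S.fromSpecResidueField (g z)) := by
    rw [hc]
    exact (IsPullback.of_hasPullback f' (Z.fromSpecResidueField z)).paste_horiz (IsPullback.of_hasPullback f g)
  let b : f'.fiber z ⟶ f.fiber (g z) :=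
    pullback.lift (f'.fiberι z ≫ pullback.fst f g) (f'.fiberToSpecResidueField z ≫ c)
      (by rw [h1.w, Category.assoc])
  have hb1 : b ≫ f.fiberι (g z) = f'.fiberι z ≫ pullback.fst f g := pullback.lift_fst _ _ _
  have hb : IsPullback b (f'.fiberToSpecResidueField z) (f.fiberToSpecResidueField (g z)) c := by
    refine IsPullback.of_right (h₁₂ := f.fiberι (g z)) ?_ (pullback.lift_snd _ _ _)
      (IsPullback.of_hasPullback f (S.fromSpecResidueField (g z)))
    rw [hb1]
    exact h1
  refine Eq.trans ?_ (euler_fieldExt (κ := ↑(S.residueField (g z))) (Ω := ↑(Z.residueField z)) c b hb ((M1.isCoh_iff_isFP _).2 (M1.isFP_pullback _ hG)))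
  exact CurveCoh17.euler_iso ((Scheme.Modules.pullbackComp (f'.fiberι z) (pullback.fst f g)).app G ≪≫
    (Scheme.Modules.pullbackCongr hb1.symm).app G ≪≫
    ((Scheme.Modules.pullbackComp b (f.fiberι (g z))).app G).symm)

theorem fibChi_baseChange (f : X ⟶ S) [IsProper f] {Z : Scheme.{u}} (g : Z ⟶ S) {F : X.Modules}
    (hF : CohB1.IsFP F) (t : ℕ) (L : Fin t → X.Modules) (hL : ∀ i, PicF.IsInvertible (L i)) (z : Z) :
    fibChi (pullback.snd f g) ((Scheme.Modules.pullback (pullback.fst f g)).obj F) t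
        (fun i => (Scheme.Modules.pullback (pullback.fst f g)).obj (L i)) z = fibChi f F t L (g z) := by
  funext n
  obtain ⟨e⟩ := NumPoly18.nonempty_pullback_tensorPows (pullback.fst f g) F t L n
  show _ = fibChi f F t L (g z) n
  rw [fibChi, fibChi, ← euler_fiber_baseChange f g (isFP_tensorPows hF t L hL n) z]
  letI : ((pullback.snd f g).fiber z).Over (Spec (CommRingCat.of (Z.residueField z))) :=
    ⟨(pullback.snd f g).fiberToSpecResidueField z⟩
  exact CurveCoh17.euler_iso ((Scheme.Modules.pullback ((pullback.snd f g).fiberι z)).mapIso e.symm)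

/-- The support of a finitely generated ideal on an affine scheme has compact complement. -/
theorem isCompact_compl_support [IsAffine S] (I : S.IdealSheafData) (hI : (I.ideal ⟨⊤, isAffineOpen_top S⟩).FG) :
    IsCompact ((I.support : Set S)ᶜ) := by
  obtain ⟨A, hA⟩ := hI
  have h := I.coe_support_inter ⟨⊤, isAffineOpen_top S⟩
  rw [← hA, show (((Ideal.span (A : Set Γ(S, ⊤)))) : Set Γ(S, ⊤)) = (Ideal.span (A : Set Γ(S, ⊤)) : Set _) from rfl,
    Scheme.zeroLocus_span] at h
  have h' : (I.support : Set S) = S.zeroLocus (A : Set Γ(S, ⊤)) := by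
    simpa [Scheme.zeroLocus_def] using h
  rw [h', Scheme.zeroLocus_def, Set.compl_iInter₂]
  simp only [compl_compl]
  exact A.isCompact_biUnion fun a _ => ((isAffineOpen_top S).basicOpen a).isCompact

/-- Only finitely many Hilbert functions occur over a quasi-compact base. -/
theorem finite_range_fibChi [CompactSpace S] (f : X ⟶ S) [IsProper f] [LocallyOfFinitePresentation f]
    {F : X.Modules} (hF : CohB1.IsFP F) (t : ℕ) (L : Fin t → X.Modules) (hL : ∀ i, PicF.IsInvertible (L i)) :
    (Set.range (fibChi f F t L)).Finite := by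
  suffices H : ∀ {V : Scheme.{u}} (g : V ⟶ S), IsAffine V → (Set.range fun v => fibChi f F t L (g v)).Finite by
    let 𝒰 := S.affineCover.finiteSubcover
    refine (Set.finite_iUnion fun j => H (𝒰.f j) inferInstance).subset ?_
    rintro _ ⟨s, rfl⟩
    obtain ⟨y, hy⟩ := 𝒰.covers s
    exact Set.mem_iUnion.2 ⟨𝒰.idx s, y, congrArg (fibChi f F t L) hy⟩
  intro V g hV
  let fV := pullback.snd f g
  haveI : IsProper fV := inferInstanceAs (IsProper (pullback.snd f g))
  let FV := (Scheme.Modules.pullback (pullback.fst f g)).obj F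
  have hFV : CohB1.IsFP FV := M1.isFP_pullback _ hF
  obtain ⟨m, I, -, hlast, h0, hfg, hflat⟩ := S1455.result fV FV (M1.isFP_isQCoh hFV) hFV
  let LV := fun i => (Scheme.Modules.pullback (pullback.fst f g)).obj (L i)
  have hLV : ∀ i, PicF.IsInvertible (LV i) := fun i => PicLoc.isInvertible_pullback _ (hL i)
  suffices H' : (Set.range (fibChi fV FV t LV)).Finite by
    refine H'.subset ?_
    rintro _ ⟨v, rfl⟩
    exact ⟨v, fibChi_baseChange f g hF t L hL v⟩
  let U : ∀ i : Fin m, (I i.castSucc).subscheme.Opens := fun i =>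
    (I i.castSucc).subschemeι ⁻¹ᵁ (I i.succ).support.compl
  let h : ∀ i : Fin m, (U i : Scheme.{u}) ⟶ V := fun i => (U i).ι ≫ (I i.castSucc).subschemeι
  have hfin : ∀ i : Fin m, (Set.range fun z => fibChi fV FV t LV (h i z)).Finite := fun i => by
    haveI : CompactSpace (U i : Scheme.{u}) := isCompact_iff_compactSpace.1
      ((I i.castSucc).subschemeι.isCompact_preimage (U := (I i.succ).support.compl)
        (isCompact_compl_support _ (hfg _ _)))
    haveI : IsProper (pullback.snd fV (h i)) := inferInstance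
    have hl : IsLocallyConstant fun z => fibChi fV FV t LV (h i z) :=
      (IsLocallyConstant.iff_exists_open _).2 fun z => by
        obtain ⟨W, hz, hW⟩ := exists_nhd_fibChi_eq (pullback.snd fV (h i)) (M1.isFP_pullback _ hFV) (hflat i) t
          (fun j => (Scheme.Modules.pullback (pullback.fst fV (h i))).obj (LV j))
          (fun j => PicLoc.isInvertible_pullback _ (hLV j)) z
        exact ⟨W, W.isOpen, hz, fun z' hz' => by
          rw [← fibChi_baseChange fV (h i) hFV t LV hLV, ← fibChi_baseChange fV (h i) hFV t LV hLV, hW z' hz']⟩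
    exact hl.range_finite
  refine (Set.finite_iUnion hfin).subset ?_
  rintro _ ⟨v, rfl⟩
  classical
  -- the stratum of `v`
  have hex : ∃ j : ℕ, ∃ hj : j < m + 1, v ∉ (I ⟨j, hj⟩).support := by
    refine ⟨m, Nat.lt_succ_self m, ?_⟩
    rw [show (⟨m, Nat.lt_succ_self m⟩ : Fin (m + 1)) = Fin.last m from rfl, hlast, Scheme.IdealSheafData.support_top]
    exact id
  obtain ⟨hj, hv⟩ := Nat.find_spec hex
  obtain ⟨j, ej⟩ : ∃ j, Nat.find hex = j + 1 := by
    refine Nat.exists_eq_succ_of_ne_zero fun e => hv ?_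
    rw [← SetLike.mem_coe, show (⟨Nat.find hex, hj⟩ : Fin (m + 1)) = 0 from Fin.ext e, h0]
    trivial
  have hv0 : v ∈ (I (⟨j, by omega⟩ : Fin m).castSucc).support := by
    by_contra hc
    have h' : Nat.find hex ≤ j := Nat.find_min' hex ⟨by omega, hc⟩
    omega
  obtain ⟨w, hw⟩ : v ∈ Set.range (I (⟨j, by omega⟩ : Fin m).castSucc).subschemeι := by
    rw [Scheme.IdealSheafData.range_subschemeι]
    exact hv0
  refine Set.mem_iUnion.2 ⟨⟨j, by omega⟩, ⟨w, ?_⟩, congrArg (fibChi fV FV t LV) hw⟩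
  show (I _).subschemeι w ∈ (I (⟨j, by omega⟩ : Fin m).succ).support.compl
  rw [hw, show (⟨j, by omega⟩ : Fin m).succ = ⟨Nat.find hex, hj⟩ from Fin.ext ej.symm]
  exact hv

end Groth.Agent.CMReg18
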