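import Groth.Agent.Lib.CMReg18.FibGG
import Groth.Agent.Lib.KFlat.Pullback
import Groth.Agent.Lib.KFlat.LpullPC

/-!
# Isomorphisms onto locally free modules are detected on the fibres
-/

set_option autoImplicit false
set_option linter.style.haveILetI false
set_option backward.isDefEq.respectTransparency false
set_option maxHeartbeats 800000

universe u

open CategoryTheory CategoryTheory.Limits AlgebraicGeometry Scheme.Modules

namespace Groth.Agent.CMReg18

open Groth.Agent

theorem isIso_of_residue_fibres {T : Scheme.{u}} [IsLocallyNoetherian T] {A B : T.Modules} (β : A ⟶ B)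
    (hA : Coh.IsCoh A) (hB : FlatMod.IsFinLocFree B)
    (h : ∀ t : T, IsIso ((Scheme.Modules.pullback (T.fromSpecResidueField t)).map β)) : IsIso β := by
  have hBc : Coh.IsCoh B := CohFound.isCoh_of_isFinLocFree hB
  have hzero : ∀ {M : T.Modules}, Coh.IsCoh M →
      (∀ t, IsZero ((Scheme.Modules.pullback (T.fromSpecResidueField t)).obj M)) → IsZero M := fun {M} hM hz =>
    SerreCl8.isZero_of_support_eq_empty (Set.eq_empty_of_forall_notMem fun t ht => by
      have hp : Subsingleton (Spec (T.residueField t)) := inferInstanceAs (Subsingleton (PrimeSpectrum (T.residueField t)))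
      let z : Spec (T.residueField t) := IsLocalRing.closedPoint (T.residueField t)
      have hmem : z ∈ CohB1.support ((Scheme.Modules.pullback (T.fromSpecResidueField t)).obj M) := by
        rw [M2.support_pullback (T.fromSpecResidueField t) hM.1 hM.2, Set.mem_preimage]
        erw [T.fromSpecResidueField_apply]
        exact ht
      exact hmem (by
        haveI := hz t
        exact AddCommGrpCat.subsingleton_of_isZero ((M1.stalkAb z).map_isZero (hz t))))
  haveI hepi : Epi β := by
    refine Preadditive.epi_of_isZero_cokernel β (hzero (M1.isCoh_cokernel hA.1 hBc β) fun t => ?_)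
    haveI := h t
    haveI : PreservesColimitsOfSize.{0, 0} (Scheme.Modules.pullback (T.fromSpecResidueField t)) :=
      (pullbackPushforwardAdjunction _).leftAdjoint_preservesColimits
    refine IsZero.of_epi_eq_zero ((Scheme.Modules.pullback (T.fromSpecResidueField t)).map (cokernel.π β)) ?_
    haveI : (Scheme.Modules.pullback (T.fromSpecResidueField t)).Additive :=
      (pullbackPushforwardAdjunction _).left_adjoint_additive
    rw [← cancel_epi ((Scheme.Modules.pullback (T.fromSpecResidueField t)).map β), ← Functor.map_comp,
      cokernel.condition, Functor.map_zero, comp_zero]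
  have hK : IsZero (kernel β) := by
    refine hzero (M1.isCoh_kernel hA hBc.1 β) fun t => ?_
    haveI := h t
    let p := Scheme.Modules.pullback (T.fromSpecResidueField t)
    haveI : p.Additive := (pullbackPushforwardAdjunction _).left_adjoint_additive
    haveI : Mono (p.map (kernel.ι β)) := by
      have hse : (ShortComplex.mk (kernel.ι β) β (kernel.condition β)).ShortExact :=
        { exact := ShortComplex.exact_of_f_is_kernel _ (kernelIsKernel β) }
      exact KFlat.Sch.mono_pullback_map (T.fromSpecResidueField t) _ hse
        ((KFlat.Sch.isFlat_iff B).2 (KFlat.Sch.isFlat_of_isFinLocFree hB))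
    refine IsZero.of_mono_eq_zero (p.map (kernel.ι β)) ?_
    rw [← cancel_mono (p.map β), ← Functor.map_comp, kernel.condition, Functor.map_zero, zero_comp]
  haveI : Mono β := Preadditive.mono_of_isZero_kernel β hK
  exact isIso_of_mono_of_epi β

end Groth.Agent.CMReg18
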