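import Groth.Agent.Lib.CMReg18.UniformFib
import Groth.Agent.Lib.CMReg18.FibreIso
import Groth.Agent.Lib.P1Split17.Basis
import Groth.Agent.Lib.CohFound.RpushCoh
import Groth.Agent.Lib.CohFound.ModulesInst

/-!
# Flatness through direct images of twists
-/

set_option autoImplicit false
set_option linter.style.haveILetI false
set_option backward.isDefEq.respectTransparency false
set_option maxHeartbeats 1600000

universe u

open CategoryTheory CategoryTheory.Limits AlgebraicGeometry TopologicalSpace Opposite Scheme.Modules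

namespace Groth.Agent.CMReg18

open Groth.Agent Groth.Agent.M1

/-- The dimension of the sections of a module on a `k`-scheme whose direct image to `Spec k` is free. -/
theorem finrank_of_push_free' {k : Type u} [Field k] {Z : Scheme.{u}} [Z.Over (Spec (CommRingCat.of k))]
    (G : Z.Modules) {r : ℕ}
    (Θ : FlatMod.freeMod (Spec (CommRingCat.of k)) r ≅
      (Scheme.Modules.pushforward (Z ↘ Spec (CommRingCat.of k))).obj G) :
    Module.finrank k (Coh.HH Z G 0) = r := by
  let ζ := Z ↘ Spec (CommRingCat.of k)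
  have hb := (P1Split.isBas_coprod (fun _ : Fin r => Coh.structureModule (Spec (CommRingCat.of k)))
    (fun _ => one ⊤) fun _ => P1Split.isGen_one ⊤).map_iso Θ
  obtain ⟨e, he⟩ : ∃ e : Fin r → Γ((Scheme.Modules.pushforward ζ).obj G, ⊤),
      P1Split.IsBas ((Scheme.Modules.pushforward ζ).obj G) ⊤ e := ⟨_, hb⟩
  let Φ : (Fin r → k) →ₗ[k] Coh.HH Z G 0 :=
    ∑ i, (LinearMap.proj i).smulRight ((CurveCoh17.hh0 G).symm (show Γ(G, ⊤) from e i))
  have hΦ : ∀ c : Fin r → k, CurveCoh17.hh0 G (Φ c) =
      ∑ i, (show Γ(G, ⊤) from ((Scheme.ΓSpecIso (CommRingCat.of k)).inv (c i) • mres _ (le_refl ⊤) (e i) :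
        Γ((Scheme.Modules.pushforward ζ).obj G, ⊤))) := fun c => by
    simp only [Φ, LinearMap.coe_sum, Finset.sum_apply, map_sum, LinearMap.smulRight_apply, LinearMap.proj_apply]
    refine Finset.sum_congr rfl fun i _ => ?_
    refine (CurveCoh17.hh0_smul _ _).trans ?_
    rw [AddEquiv.apply_symm_apply, mres_id]
    rfl
  have hbij : Function.Bijective Φ := by
    have h1 := (he ⊤ le_rfl).comp
      (Function.Bijective.comp_left (α := Fin r)
        (ConcreteCategory.bijective_of_isIso (Scheme.ΓSpecIso (CommRingCat.of k)).inv))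
    refine ⟨fun c d h => h1.1 ?_, fun z => ?_⟩
    · exact (hΦ c).symm.trans ((congrArg (CurveCoh17.hh0 G) h).trans (hΦ d))
    · obtain ⟨c, hc⟩ := h1.2 (CurveCoh17.hh0 G z)
      exact ⟨c, (CurveCoh17.hh0 G).injective ((hΦ c).trans hc)⟩
  rw [← (LinearEquiv.ofBijective Φ hbij).finrank_eq, Module.finrank_fin_fun]

variable {X S X' T : Scheme.{u}}

/-- The local rank of a direct image is the dimension of the fibre. -/
theorem rank_eq_fiberRank {f : X ⟶ S} [IsProper f] (G : X.Modules) {s : S} {U : S.Opens} (hs : s ∈ U) {m : ℕ}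
    (φ : ((Scheme.Modules.pushforward f).obj G).restrict U.ι ≅ FlatMod.freeMod (U : Scheme.{u}) m)
    [IsIso (CohBC.bc0 f (S.fromSpecResidueField s) (f.fiberToSpecResidueField s) (f.fiberι s) (f.fiber_fac s) G)] :
    CohIII.fiberRank f G 0 s = m := by
  letI : (f.fiber s).Over (Spec (CommRingCat.of (S.residueField s))) := ⟨f.fiberToSpecResidueField s⟩
  let a : Spec (S.residueField s) ⟶ U := IsOpenImmersion.lift U.ι (S.fromSpecResidueField s) (by
    rw [Scheme.range_fromSpecResidueField, Scheme.Opens.range_ι]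
    exact Set.singleton_subset_iff.2 hs)
  have ha : a ≫ U.ι = S.fromSpecResidueField s := IsOpenImmersion.lift_fac _ _ _
  exact finrank_of_push_free' (k := S.residueField s) ((Scheme.Modules.pullback (f.fiberι s)).obj G)
    ((M2.freeModPullbackIso a m).symm ≪≫ (Scheme.Modules.pullback a).mapIso
        (φ.symm ≪≫ (Scheme.Modules.restrictFunctorIsoPullback U.ι).app _) ≪≫
      (Scheme.Modules.pullbackComp a U.ι).app _ ≪≫
      eqToIso (congrArg (fun g => (Scheme.Modules.pullback g).obj ((Scheme.Modules.pushforward f).obj G)) ha) ≪≫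
      asIso (CohBC.bc0 f (S.fromSpecResidueField s) (f.fiberToSpecResidueField s) (f.fiberι s) (f.fiber_fac s) G))

/-- Direct images of coherent modules under proper maps are coherent. -/
theorem isCoh_push {X S : Scheme.{u}} (f : X ⟶ S) [IsProper f] [IsNoetherian S] {G : X.Modules} (hG : Coh.IsCoh G) :
    Coh.IsCoh ((Scheme.Modules.pushforward f).obj G) := by
  haveI : IsLocallyNoetherian X := LocallyOfFiniteType.isLocallyNoetherian f
  haveI : (Scheme.Modules.pushforward f).IsRightAdjoint :=
    (Scheme.Modules.pullbackPushforwardAdjunction f).isRightAdjoint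
  haveI : PreservesFiniteLimits (Scheme.Modules.pushforward f) := inferInstance
  exact CohFound.isCoh_of_iso ((Functor.rightDerivedZeroIsoSelf _).app G) (CohFound.isCoh_rpush f hG 0)

/-- The twists with uniform fibres. -/
def GoodTwist (f : X ⟶ S) (F L : X.Modules) (n : ℕ) : Prop :=
  ∀ s : S, (∀ p, 1 ≤ p → Subsingleton (CohIII.fiberH f (CohB1.tensorMod F (CohB1.tensorPow L n)) s p)) ∧
      IsIso (CohBC.bc0 f (S.fromSpecResidueField s) (f.fiberToSpecResidueField s) (f.fiberι s) (f.fiber_fac s)
        (CohB1.tensorMod F (CohB1.tensorPow L n)))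

variable {f : X ⟶ S} [IsProper f] [IsNoetherian S] {φ : T ⟶ S} {f' : X' ⟶ T} {g' : X' ⟶ X}
  {F L : X.Modules} {n : ℕ}

/-- A flat base change has locally free direct images commuting with base change. -/
theorem of_flat (hF : Coh.IsCoh F) (hL : RelAmple.IsRelAmple f L) (hn : GoodTwist f F L n)
    [IsLocallyNoetherian T] (h : IsPullback g' f' f φ)
    (hfl : FlatMod.IsFlatOver f' ((Scheme.Modules.pullback g').obj F)) :
    IsIso (CohBC.bc0 f φ f' g' h.w (CohB1.tensorMod F (CohB1.tensorPow L n))) ∧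
      FlatMod.IsFinLocFree ((Scheme.Modules.pushforward f').obj
        ((Scheme.Modules.pullback g').obj (CohB1.tensorMod F (CohB1.tensorPow L n)))) ∧
      ∀ t : T, IsIso (CohBC.bc0 f' (T.fromSpecResidueField t) (f'.fiberToSpecResidueField t) (f'.fiberι t)
        (f'.fiber_fac t) ((Scheme.Modules.pullback g').obj (CohB1.tensorMod F (CohB1.tensorPow L n)))) := by
  haveI : IsLocallyNoetherian X := LocallyOfFiniteType.isLocallyNoetherian f
  haveI : IsProper f' := MorphismProperty.of_isPullback (P := @IsProper) h inferInstance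
  haveI : IsLocallyNoetherian X' := LocallyOfFiniteType.isLocallyNoetherian f'
  have hLi := RA.isInvertible_of_isRelAmple f hL
  let G := CohB1.tensorMod F (CohB1.tensorPow L n)
  have hG : Coh.IsCoh G := isCoh_twist hF hLi n
  haveI : Coh.IsQCoh G := hG.1
  let G' := (Scheme.Modules.pullback g').obj G
  have hG' : Coh.IsCoh G' := isCoh_pullback_coh g' hG
  haveI : Coh.IsQCoh G' := hG'.1
  have hflG : FlatMod.IsFlatOver f' G' := fun x =>
    SchDom.isFlatOverAt_of_iso f' (pullTwist g' F L n).symm x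
      (FlatTwist13.isFlatOver_tensor f' hfl
        (Amp.isInvertible_tensorPow (PicLoc.isInvertible_pullback g' hLi) n) x)
  have hmod : ∀ t : T, ∃ (V : T.Opens) (M : CBC10.Model f' G' V), t ∈ V ∧ M.FlatCok (-1) := fun t => by
    obtain ⟨V, M, htV, h1, -⟩ := CBC10.exists_nhd_H1 (M1.isFP_of_isCoh hG') hflG t
      (subsingleton_fiberH_baseChange h (M1.isFP_of_isCoh hG) t 1 ((hn (φ t)).1 1 le_rfl))
    exact ⟨V, M, htV, h1⟩
  have hfree := CBC10.isFinLocFree_push hmod
  have hpt : ∀ t : T, IsIso (CohBC.bc0 f' (T.fromSpecResidueField t) (f'.fiberToSpecResidueField t) (f'.fiberι t)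
      (f'.fiber_fac t) G') := fun t =>
    CBC10.isIso_bc0 (IsPullback.of_hasPullback f' (T.fromSpecResidueField t)) G' fun z => hmod _
  have hpc : Coh.IsCoh ((Scheme.Modules.pushforward f).obj G) :=
    isCoh_push f hG
  refine ⟨isIso_of_residue_fibres _ (M1.isCoh_pullback φ hpc) hfree fun t => ?_, hfree, hpt⟩
  let τ := T.fromSpecResidueField t
  have w : (f'.fiberι t ≫ g') ≫ f = f'.fiberToSpecResidueField t ≫ τ ≫ φ :=
    ((IsPullback.of_hasPullback f' τ).paste_horiz h).w
  haveI := (hn (φ t)).2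
  haveI := isIso_bc0_point_baseChange h G w
  haveI := hpt t
  haveI : IsIso ((Scheme.Modules.pullback τ).map (CohBC.bc0 f φ f' g' h.w G) ≫
      (CohBC.bc0 f' τ (f'.fiberToSpecResidueField t) (f'.fiberι t) (f'.fiber_fac t) G' ≫
        (Scheme.Modules.pushforward (f'.fiberToSpecResidueField t)).map
          ((pullbackComp (f'.fiberι t) g').hom.app G))) := by
    rw [← bc0_paste f φ f' g' h.w τ (f'.fiberToSpecResidueField t) (f'.fiberι t) (f'.fiber_fac t) w G]
    infer_instance
  exact IsIso.of_isIso_comp_right _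
      (CohBC.bc0 f' τ (f'.fiberToSpecResidueField t) (f'.fiberι t) (f'.fiber_fac t) G' ≫
        (Scheme.Modules.pushforward (f'.fiberToSpecResidueField t)).map
          ((pullbackComp (f'.fiberι t) g').hom.app G))

/-- The rank of the direct image at a point of a flat base change. -/
theorem rankOn_of_flat (hF : Coh.IsCoh F) (hL : RelAmple.IsRelAmple f L) (hn : GoodTwist f F L n)
    [IsLocallyNoetherian T] (h : IsPullback g' f' f φ)
    (hfl : FlatMod.IsFlatOver f' ((Scheme.Modules.pullback g').obj F)) (t : T) :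
    ∃ U : T.Opens, t ∈ U ∧ Nonempty (((Scheme.Modules.pullback φ).obj ((Scheme.Modules.pushforward f).obj
        (CohB1.tensorMod F (CohB1.tensorPow L n)))).restrict U.ι ≅ FlatMod.freeMod (U : Scheme.{u})
          (CohIII.fiberRank f (CohB1.tensorMod F (CohB1.tensorPow L n)) 0 (φ t))) := by
  obtain ⟨hiso, hfree, hpt⟩ := of_flat hF hL hn h hfl
  haveI : IsProper f' := MorphismProperty.of_isPullback (P := @IsProper) h inferInstance
  haveI := hiso
  obtain ⟨U, m, htU, ⟨e⟩⟩ := hfree t
  haveI := hpt t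
  haveI : IsLocallyNoetherian X := LocallyOfFiniteType.isLocallyNoetherian f
  have hm : m = CohIII.fiberRank f (CohB1.tensorMod F (CohB1.tensorPow L n)) 0 (φ t) :=
    (rank_eq_fiberRank _ htU e).symm.trans (finrank_fiberH_baseChange h
      (M1.isFP_of_isCoh (isCoh_twist hF (RA.isInvertible_of_isRelAmple f hL) n)) t 0)
  subst hm
  exact ⟨U, htU, ⟨(Scheme.Modules.restrictFunctor U.ι).mapIso
    (asIso (CohBC.bc0 f φ f' g' h.w (CohB1.tensorMod F (CohB1.tensorPow L n)))) ≪≫ e⟩⟩

/-- Locally free direct images of all large twists force flatness. -/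
theorem flat_of_finLocFree [Flat f] [IsLocallyNoetherian T] (hF : Coh.IsCoh F) (hL : RelAmple.IsRelAmple f L)
    {N : ℕ} (h : IsPullback g' f' f φ)
    (hlf : ∀ n, N ≤ n → FlatMod.IsFinLocFree ((Scheme.Modules.pullback φ).obj
      ((Scheme.Modules.pushforward f).obj (CohB1.tensorMod F (CohB1.tensorPow L n))))) :
    FlatMod.IsFlatOver f' ((Scheme.Modules.pullback g').obj F) := fun x => by
  haveI : IsLocallyNoetherian X := LocallyOfFiniteType.isLocallyNoetherian f
  haveI : IsProper f' := MorphismProperty.of_isPullback (P := @IsProper) h inferInstance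
  haveI : IsLocallyNoetherian X' := LocallyOfFiniteType.isLocallyNoetherian f'
  obtain ⟨W, hW, hxW, -⟩ := exists_isAffineOpen_mem_and_subset (x := f' x) (U := ⊤) trivial
  haveI : IsAffine (W : Scheme.{u}) := hW
  haveI : IsNoetherian (W : Scheme.{u}) := { }
  let fW := pullback.snd f' W.ι
  let aW := pullback.fst f' W.ι
  haveI : IsProper fW := inferInstanceAs (IsProper (pullback.snd f' W.ι))
  have hW' : IsPullback aW fW f' W.ι := IsPullback.of_hasPullback _ _
  obtain ⟨x', hx'1, -⟩ := Scheme.Pullback.exists_preimage_pullback (f := f') (g := W.ι) x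
    (⟨f' x, hxW⟩ : (W : Scheme.{u})) rfl
  haveI : IsLocallyNoetherian (pullback f' W.ι) := LocallyOfFiniteType.isLocallyNoetherian fW
  have hc := hW'.paste_horiz h
  have hF' : Coh.IsCoh ((Scheme.Modules.pullback (aW ≫ g')).obj F) := isCoh_pullback_coh _ hF
  have hfl : FlatMod.IsFlatOver fW ((Scheme.Modules.pullback (aW ≫ g')).obj F) := by
    obtain ⟨N', hN'⟩ := exists_forall_isIso_bc0 f hc hF hL
    refine (FlatTwist13.isFlatOver_iff fW hF' (RA.isRelAmple_of_isPullback hc hL)).2 ⟨N + N', fun m hm => ?_⟩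
    haveI := hN' m (by omega)
    have h1 : FlatMod.IsFinLocFree ((Scheme.Modules.pullback (W.ι ≫ φ)).obj
        ((Scheme.Modules.pushforward f).obj (CohB1.tensorMod F (CohB1.tensorPow L m)))) :=
      M2.isFinLocFree_of_iso ((pullbackComp W.ι φ).app _) (M2.isFinLocFree_pullback W.ι (hlf m (by omega)))
    exact M2.isFinLocFree_of_iso
      (asIso (CohBC.bc0 f (W.ι ≫ φ) fW (aW ≫ g') hc.w (CohB1.tensorMod F (CohB1.tensorPow L m))) ≪≫
        (Scheme.Modules.pushforward fW).mapIso (pullTwist (aW ≫ g') F L m)) h1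
  have hq : Coh.IsQCoh ((Scheme.Modules.pullback g').obj F) := M1.isQCoh_pullback g' hF.1
  have := FlatH4.isFlatOverAt_of_baseChange_of_flat hW' ((Scheme.Modules.pullback g').obj F) x'
    (Flat.stalkMap W.ι (fW x'))
    (SchDom.isFlatOverAt_of_iso fW ((pullbackComp aW g').app F).symm x' (hfl x'))
  rw [← hx'1]
  exact this

end Groth.Agent.CMReg18
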