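import Groth.Agent.Lib.Cyc26.SpecialSub

/-!
# Flatness over the base of a direct image under a closed immersion
-/

set_option autoImplicit false
set_option backward.isDefEq.respectTransparency.types false

universe u

open CategoryTheory CategoryTheory.Limits AlgebraicGeometry Groth.Agent.M1

namespace Groth.Agent.CMReg18

/-- The stalk of a direct image under a closed immersion, with its semilinear structure. -/
theorem exists_stalk_push_equiv' {X Z : Scheme.{u}} (i : Z ⟶ X) [IsClosedImmersion i] (M : Z.Modules) (z : Z) :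
    ∃ E : ((Coh.push i).obj M).presheaf.stalk (i z) ≃+ M.presheaf.stalk z,
      ∀ (r : X.presheaf.stalk (i z)) a, E (r • a) = i.stalkMap z r • E a := by
  let φ : ((Coh.push i).obj M).presheaf.stalk (i z) ⟶ M.presheaf.stalk z :=
    TopCat.Presheaf.stalkPushforward AddCommGrpCat.{u} i.base M.presheaf z
  haveI : IsIso φ := TopCat.Presheaf.stalkPushforward.stalkPushforward_iso_of_isInducing AddCommGrpCat.{u}
    (f := i.base) i.isClosedEmbedding.isInducing M.presheaf z
  refine ⟨(asIso φ).addCommGroupIsoToAddEquiv, ?_⟩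
  intro r a
  obtain ⟨V, hV, r, rfl⟩ := X.presheaf.exists_germ_eq r
  obtain ⟨W, hW, m, rfl⟩ := ((Coh.push i).obj M).presheaf.exists_germ_eq a
  rw [← X.presheaf.germ_res_apply (homOfLE inf_le_left) (i z) (show i z ∈ V ⊓ W from ⟨hV, hW⟩) r,
    ← germ_mres ((Coh.push i).obj M) (inf_le_right : V ⊓ W ≤ W) ⟨hV, hW⟩ m, ← germ_smul]
  have hgerm : ∀ t, φ (((Coh.push i).obj M).presheaf.germ (V ⊓ W) (i z) ⟨hV, hW⟩ t) =
      M.presheaf.germ (i ⁻¹ᵁ (V ⊓ W)) z ⟨hV, hW⟩ t :=
    fun t => ConcreteCategory.congr_hom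
      (TopCat.Presheaf.stalkPushforward_germ AddCommGrpCat.{u} i.base M.presheaf (V ⊓ W) z ⟨hV, hW⟩) t
  show φ _ = (i.stalkMap z) _ • φ _
  rw [hgerm, hgerm, Scheme.Hom.germ_stalkMap_apply, ← germ_smul]
  rfl

/-- A module is flat over the base iff its direct image under a closed immersion is. -/
theorem isFlatOver_push_iff {X Z S : Scheme.{u}} (i : Z ⟶ X) [IsClosedImmersion i] (a : X ⟶ S) (M : Z.Modules) :
    FlatMod.IsFlatOver a ((Coh.push i).obj M) ↔ FlatMod.IsFlatOver (i ≫ a) M := by
  have key : ∀ z : Z, FlatMod.IsFlatOverAt a ((Coh.push i).obj M) (i z) ↔ FlatMod.IsFlatOverAt (i ≫ a) M z := by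
    intro z
    letI := FlatMod.moduleStalkOver a ((Coh.push i).obj M) (i z)
    letI : Module (S.presheaf.stalk (a (i z))) (M.presheaf.stalk z) := FlatMod.moduleStalkOver (i ≫ a) M z
    obtain ⟨E, hE⟩ := exists_stalk_push_equiv' i M z
    let E' : ((Coh.push i).obj M).presheaf.stalk (i z) ≃ₗ[S.presheaf.stalk (a (i z))] M.presheaf.stalk z :=
      { E with
        map_smul' := fun r m => by
          show E (a.stalkMap (i z) r • m) = (i ≫ a).stalkMap z r • E m
          rw [hE, Scheme.Hom.stalkMap_comp]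
          rfl }
    refine ⟨fun h => ?_, fun h => ?_⟩
    · haveI : Module.Flat (S.presheaf.stalk (a (i z))) (((Coh.push i).obj M).presheaf.stalk (i z)) := h
      exact Module.Flat.of_linearEquiv (R := S.presheaf.stalk (a (i z))) E'.symm
    · haveI : Module.Flat (S.presheaf.stalk (a (i z))) (M.presheaf.stalk z) := h
      exact Module.Flat.of_linearEquiv (R := S.presheaf.stalk (a (i z))) E'
  refine ⟨fun h z => (key z).1 (h (i z)), fun h x => ?_⟩
  by_cases hx : x ∈ Set.range i
  · obtain ⟨z, rfl⟩ := hx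
    exact (key z).2 (h z)
  · haveI := Cyc26.subsingleton_stalk_push i M
      ⟨(Set.range i)ᶜ, i.isClosedEmbedding.isClosed_range.isOpen_compl⟩ (x := x) hx fun z hz => hz ⟨z, rfl⟩
    letI := FlatMod.moduleStalkOver a ((Coh.push i).obj M) x
    show Module.Flat _ _
    infer_instance

end Groth.Agent.CMReg18
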