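import Groth.Agent.Lib.CMReg18.HilbSemi
import Groth.Agent.Lib.DGen9.RelAmpBC

/-!
# Flatness over a reduced base and constancy of Hilbert polynomials
-/

set_option autoImplicit false
set_option linter.style.haveILetI false
set_option backward.isDefEq.respectTransparency false
set_option maxHeartbeats 800000

universe u

open CategoryTheory CategoryTheory.Limits AlgebraicGeometry TopologicalSpace Scheme.Modules

namespace Groth.Agent.CMReg18

open Groth.Agent

variable {X S : Scheme.{u}}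

/-- On a reduced scheme a module with locally constant fibre rank is locally free. -/
theorem isFinLocFree_of_point_ranks [IsReduced S] {M : S.Modules} (hM : Coh.IsQCoh M) (hFT : CohB1.IsFT M)
    (h : ∀ s : S, ∃ (U : S.Opens) (r : ℕ), s ∈ U ∧ ∀ z : (U : Scheme.{u}),
      FlatMod.IsFinLocFreeOfRank r
        ((Scheme.Modules.pullback ((U : Scheme.{u}).fromSpecResidueField z ≫ U.ι)).obj M)) :
    FlatMod.IsFinLocFree M := by
  intro s
  obtain ⟨U, r, hsU, hU⟩ := h s
  let MU := (Scheme.Modules.pullback U.ι).obj M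
  obtain ⟨Z, i, hi, hZ⟩ := RankStratum13.exists_immersion (M1.isQCoh_pullback U.ι hM) (M1.isFT_pullback U.ι hFT) r
  haveI := hi
  have hsur : Function.Surjective i := fun z => by
    obtain ⟨g, hg⟩ := (hZ _ ((U : Scheme.{u}).fromSpecResidueField z)).2
      (M2.isFinLocFreeOfRank_of_iso ((pullbackComp _ U.ι).app M).symm (hU z))
    refine ⟨g (IsLocalRing.closedPoint _), ?_⟩
    rw [← Scheme.Hom.comp_apply, hg]
    exact (U : Scheme.{u}).fromSpecResidueField_apply z _
  haveI : Surjective i := ⟨hsur⟩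
  haveI : IsClosedImmersion i := IsClosedImmersion.of_isPreimmersion i
    (by rw [hsur.range_eq]; exact isClosed_univ)
  haveI : IsIso i := isIso_of_isClosedImmersion_of_surjective i
  have hr : FlatMod.IsFinLocFreeOfRank r MU :=
    M2.isFinLocFreeOfRank_of_iso ((pullbackId _).app MU) ((hZ _ (𝟙 _)).1 ⟨inv i, IsIso.inv_hom_id i⟩)
  obtain ⟨W, hW, ⟨e⟩⟩ := hr ⟨s, hsU⟩
  obtain ⟨V, n, hV, hn⟩ := M1.exists_freeMod_of_openImmersion (M := M) (W.ι ≫ U.ι)
    ((M1.restrictRestrictIso M U.ι W.ι _ rfl).symm ≪≫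
      (Scheme.Modules.restrictFunctor W.ι).mapIso ((Scheme.Modules.restrictFunctorIsoPullback U.ι).app M) ≪≫
      e ≪≫ M1.freeModFrIso _ r) ⟨⟨s, hsU⟩, hW⟩
  exact ⟨V, n, hV, hn⟩

/-- The Hilbert polynomial of a fibre. -/
theorem exists_poly (f : X ⟶ S) [IsProper f] {F : X.Modules} (hF : CohB1.IsFP F) {L : X.Modules}
    (hL : PicF.IsInvertible L) (s : S) :
    ∃ P : Polynomial ℚ, ∀ n : ℕ, P.eval (n : ℚ) = (fibChi f F 1 (fun _ => L) s (fun _ => n) : ℚ) := by
  obtain ⟨V, d', hsV, hV⟩ := exists_nhd_dim_fiber_le f s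
  obtain ⟨P, -, hP⟩ := exists_fibChi_poly f hF 1 (fun _ => L) (fun _ => hL) s d' (hV s hsV)
  refine ⟨MvPolynomial.eval₂ Polynomial.C (fun _ => Polynomial.X) P, fun n => ?_⟩
  rw [hP]
  show Polynomial.evalRingHom (n : ℚ) (MvPolynomial.eval₂ Polynomial.C (fun _ => Polynomial.X) P) = _
  rw [MvPolynomial.eval₂_comp_left]
  have h1 : (Polynomial.evalRingHom (n : ℚ)).comp Polynomial.C = RingHom.id ℚ := RingHom.ext fun a => by simp
  rw [h1]
  simp [MvPolynomial.eval₂_id, Function.comp_def]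

/-- Locally constant Hilbert functions force flatness over a reduced affine base. -/
theorem isFlatOver_of_locallyConstant_affine [IsAffine S] [IsNoetherian S] [IsReduced S] (f : X ⟶ S) [IsProper f]
    {L : X.Modules} (hL : RelAmple.IsRelAmple f L) {F : X.Modules} (hF : Coh.IsCoh F)
    (h : ∀ s : S, ∃ U : S.Opens, s ∈ U ∧ ∀ s' ∈ U, ∀ n : ℕ,
      fibChi f F 1 (fun _ => L) s' (fun _ => n) = fibChi f F 1 (fun _ => L) s (fun _ => n)) :
    FlatMod.IsFlatOver f F := by
  haveI : HasInjectiveResolutions X.Modules := CohFound.hasInjectiveResolutions_modules X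
  haveI : IsLocallyNoetherian X := LocallyOfFiniteType.isLocallyNoetherian f
  haveI : LocallyOfFinitePresentation f := inferInstance
  obtain ⟨d, m, i, hd, hi, hi', hif, ⟨e⟩⟩ := exists_closedImm_twist f hL
  haveI := hi
  haveI := hi'
  have hLi := RA.isInvertible_of_isRelAmple f hL
  let π := CohB1.ProjSpaceOver.toBase m S
  haveI : IsLocallyNoetherian (CohB1.ProjSpaceOver m S) := LocallyOfFiniteType.isLocallyNoetherian π
  let G := (Scheme.Modules.pushforward i).obj F
  have hG : Coh.IsCoh G := (M1.isCoh_iff_isFP G).2 ((PushFin12.isFP_iff i F hF.1).1 (M1.isFP_of_isCoh hF))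
  have hO := isRelAmple_O1 m S
  obtain ⟨N, hN⟩ := exists_goodTwist (f := π) hG hO
  have hLd : RelAmple.IsRelAmple f (CohB1.tensorPow L d) :=
    (RA.isRelAmple_iff_isAmple (f := f)).2
      ((Amp.isAmple_tensorPow_iff hLi hd).2 ((RA.isRelAmple_iff_isAmple (f := f)).1 hL))
  refine isFlatOver_of_push' f hF.1 hLd N fun x hx => ?_
  obtain ⟨k, rfl⟩ : ∃ k, x = N + k := ⟨x - N, by omega⟩
  have hc := isCoh_push π (isCoh_twist hG (RA.isInvertible_of_isRelAmple π hO) (N + k))
  have hfree : FlatMod.IsFinLocFree ((Scheme.Modules.pushforward π).obj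
      (CohB1.tensorMod G (CohB1.tensorPow (O1 m S) (N + k)))) := by
    refine isFinLocFree_of_point_ranks hc.1 hc.2 fun s => ?_
    obtain ⟨U, hsU, hU⟩ := h s
    refine ⟨U, hilbRk π G (O1 m S) N s k, hsU, fun z => ?_⟩
    have h1 : hilbRk π G (O1 m S) N (U.ι z) k = hilbRk π G (O1 m S) N s k := by
      refine Nat.cast_injective (R := ℤ) ?_
      rw [← euler_eq_hilbRk hN, ← euler_eq_hilbRk hN, fibChi_push hif e hF.1 hLi, fibChi_push hif e hF.1 hLi]
      exact hU _ z.2 _
    have := isFinLocFreeOfRank_point (φ := U.ι) hG hO hN (z := z) k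
    rw [h1] at this
    exact this
  obtain ⟨t⟩ := nonempty_push_twist e hF.1 (N + k)
  refine M2.isFinLocFree_of_iso ((Scheme.Modules.pushforward π).mapIso t.symm ≪≫
    (Scheme.Modules.pushforwardComp i π).app _ ≪≫ (Scheme.Modules.pushforwardCongr hif).app _ ≪≫
    (Scheme.Modules.pushforward f).mapIso (M2.tensorIso (Iso.refl F) (M2.tensorPowPow L d (N + k)).symm)) hfree

/-- Locally constant Hilbert functions force flatness over a reduced base. -/
theorem isFlatOver_of_locallyConstant [IsLocallyNoetherian S] [IsReduced S] (f : X ⟶ S) [IsProper f]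
    {L : X.Modules} (hL : RelAmple.IsRelAmple f L) {F : X.Modules} (hF : Coh.IsCoh F)
    (h : ∀ s : S, ∃ U : S.Opens, s ∈ U ∧ ∀ s' ∈ U, ∀ n : ℕ,
      fibChi f F 1 (fun _ => L) s' (fun _ => n) = fibChi f F 1 (fun _ => L) s (fun _ => n)) :
    FlatMod.IsFlatOver f F := by
  intro x
  obtain ⟨V, hV, hxV, -⟩ := exists_isAffineOpen_mem_and_subset (U := ⊤) (x := f x) trivial
  haveI : IsAffine (V : Scheme.{u}) := hV
  haveI : IsNoetherian (V : Scheme.{u}) := ⟨⟩
  haveI : IsLocallyNoetherian X := LocallyOfFiniteType.isLocallyNoetherian f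
  have hFp := M1.isFP_of_isCoh hF
  let j := pullback.fst f V.ι
  let fV := pullback.snd f V.ι
  haveI : IsLocallyNoetherian (pullback f V.ι) := LocallyOfFiniteType.isLocallyNoetherian fV
  have hFV : Coh.IsCoh ((Scheme.Modules.pullback j).obj F) := isCoh_pullback_coh j hF
  have hfl : FlatMod.IsFlatOver fV ((Scheme.Modules.pullback j).obj F) := by
    refine isFlatOver_of_locallyConstant_affine fV
      (RA.isRelAmple_of_isPullback (IsPullback.of_hasPullback f V.ι) hL) hFV fun v => ?_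
    obtain ⟨U, hvU, hU⟩ := h (V.ι v)
    refine ⟨V.ι ⁻¹ᵁ U, hvU, fun v' hv' n => ?_⟩
    rw [fibChi_baseChange f V.ι hFp 1 (fun _ => L) (fun _ => RA.isInvertible_of_isRelAmple f hL),
      fibChi_baseChange f V.ι hFp 1 (fun _ => L) (fun _ => RA.isInvertible_of_isRelAmple f hL)]
    exact hU _ hv' n
  have h2 : FlatMod.IsFlatOver (j ≫ f) ((Scheme.Modules.pullback j).obj F) := by
    rw [show j ≫ f = fV ≫ V.ι from pullback.condition]
    exact RelT.isFlatOver_comp_base fV V.ι hfl
  obtain ⟨y, rfl⟩ : x ∈ Set.range j := by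
    rw [show Set.range j = _ from IsOpenImmersion.range_pullbackFst V.ι f]
    exact ⟨⟨f x, hxV⟩, rfl⟩
  exact (QF.isFlatOverAt_pullback_iff j f F y).1 (h2 y)

/-- Over a local domain equality at the two extreme points suffices. -/
theorem fibChi_eq_of_two_points (f : X ⟶ S) [IsProper f] [LocallyOfFinitePresentation f] {L : X.Modules}
    (hL : RelAmple.IsRelAmple f L) {F : X.Modules} (hF : CohB1.IsFP F) {η c : S} (hη : ∀ s : S, η ⤳ s)
    (hc : ∀ s : S, s ⤳ c)
    (h : ∀ n : ℕ, fibChi f F 1 (fun _ => L) η (fun _ => n) = fibChi f F 1 (fun _ => L) c (fun _ => n))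
    (s : S) (n : ℕ) : fibChi f F 1 (fun _ => L) s (fun _ => n) = fibChi f F 1 (fun _ => L) η (fun _ => n) := by
  have hLi := RA.isInvertible_of_isRelAmple f hL
  obtain ⟨Pη, hPη⟩ := exists_poly f hF hLi η
  obtain ⟨Ps, hPs⟩ := exists_poly f hF hLi s
  obtain ⟨N₁, h₁⟩ : ∃ N : ℕ, ∀ n : ℕ, N ≤ n → Pη.eval (n : ℚ) ≤ (fibChi f F 1 (fun _ => L) s (fun _ => n) : ℚ) :=
    (hη s).mem_closed (isClosed_setOf_eventually_le f hL hF Pη) ⟨0, fun n _ => (hPη n).le⟩
  obtain ⟨N₂, h₂⟩ : ∃ N : ℕ, ∀ n : ℕ, N ≤ n → Ps.eval (n : ℚ) ≤ (fibChi f F 1 (fun _ => L) c (fun _ => n) : ℚ) :=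
    (hc s).mem_closed (isClosed_setOf_eventually_le f hL hF Ps) ⟨0, fun n _ => (hPs n).le⟩
  have he : Ps = Pη := by
    refine Polynomial.eq_of_infinite_eval_eq _ _ (Set.infinite_of_injective_forall_mem
      (f := fun a : ℕ => ((N₁ + N₂ + a : ℕ) : ℚ)) (fun a b hab => by simpa using hab) fun a => ?_)
    show Ps.eval _ = Pη.eval _
    refine le_antisymm ?_ ?_
    · rw [hPη, h]
      exact h₂ _ (by omega)
    · rw [hPs]
      exact h₁ _ (by omega)
  have := hPs n
  rw [he, hPη] at this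
  exact_mod_cast this.symm

end Groth.Agent.CMReg18
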