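import Groth.Agent.Lib.CMReg18.AnyBase
import Groth.Agent.Lib.CMReg18.FlatPush
import Groth.Agent.Lib.CMReg18.FlatReduced

/-!
# Morphisms over which a module becomes flat with a given Hilbert polynomial
-/

set_option autoImplicit false
set_option linter.style.haveILetI false
set_option backward.isDefEq.respectTransparency false
set_option maxHeartbeats 800000

universe u

open CategoryTheory CategoryTheory.Limits AlgebraicGeometry TopologicalSpace Scheme.Modules

namespace Groth.Agent.CMReg18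

open Groth.Agent

variable {X S : Scheme.{u}}

/-- The points at which the Hilbert polynomial is `Φ`. -/
def hilbLocus (f : X ⟶ S) (F L : X.Modules) (Φ : Polynomial ℚ) : Set S :=
  {s : S | ∀ n : ℕ, (fibChi f F 1 (fun _ => L) s (fun _ => n) : ℚ) = Φ.eval (n : ℚ)}

/-- The morphisms over which the module is flat with Hilbert polynomial `Φ`. -/
def HasFlatHilb (f : X ⟶ S) (F L : X.Modules) (Φ : Polynomial ℚ) (T : Scheme.{u}) (g : T ⟶ S) : Prop :=
  FlatMod.IsFlatOver (pullback.snd f g) ((Scheme.Modules.pullback (pullback.fst f g)).obj F) ∧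
    ∀ t : T, g t ∈ hilbLocus f F L Φ

variable {f : X ⟶ S} {F L : X.Modules} {Φ : Polynomial ℚ}

theorem isFlatOver_congr {X₁ T : Scheme.{u}} (a : X₁ ⟶ T) {M N : X₁.Modules} (e : M ≅ N)
    (h : FlatMod.IsFlatOver a M) : FlatMod.IsFlatOver a N :=
  fun x => SchDom.isFlatOverAt_of_iso a e x (h x)

/-- Flatness after base change does not depend on the chosen fibre product. -/
theorem isFlatOver_isPullback_iff (hF : Coh.IsQCoh F) {T X' : Scheme.{u}} {g : T ⟶ S} {g' : X' ⟶ X}
    {f' : X' ⟶ T} (h : IsPullback g' f' f g) :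
    FlatMod.IsFlatOver f' ((Scheme.Modules.pullback g').obj F) ↔
      FlatMod.IsFlatOver (pullback.snd f g) ((Scheme.Modules.pullback (pullback.fst f g)).obj F) := by
  let e := h.isoPullback
  have h₁ : IsPullback e.hom f' (pullback.snd f g) (𝟙 T) :=
    IsPullback.of_horiz_isIso ⟨by rw [Category.comp_id]; exact h.isoPullback_hom_snd⟩
  have h₂ : IsPullback e.inv (pullback.snd f g) f' (𝟙 T) :=
    IsPullback.of_horiz_isIso ⟨by rw [Category.comp_id]; exact h.isoPullback_inv_snd⟩
  haveI : Coh.IsQCoh ((Scheme.Modules.pullback (pullback.fst f g)).obj F) := M1.isQCoh_pullback _ hF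
  haveI : Coh.IsQCoh ((Scheme.Modules.pullback g').obj F) := M1.isQCoh_pullback _ hF
  constructor
  · intro hfl
    exact isFlatOver_congr _ ((pullbackComp e.inv g').app F ≪≫ (pullbackCongr h.isoPullback_inv_fst).app F)
      fun x => FlatH4.isFlatOverAt_baseChange h₂ _ x (hfl _)
  · intro hfl
    exact isFlatOver_congr _ ((pullbackComp e.hom (pullback.fst f g)).app F ≪≫
        (pullbackCongr h.isoPullback_hom_fst).app F)
      fun x => FlatH4.isFlatOverAt_baseChange h₁ _ x (hfl _)

theorem hasFlatHilb_comp (hF : Coh.IsQCoh F) {T T' : Scheme.{u}} (a : T' ⟶ T) (g : T ⟶ S)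
    (h : HasFlatHilb f F L Φ T g) : HasFlatHilb f F L Φ T' (a ≫ g) := by
  refine ⟨?_, fun t => h.2 (a t)⟩
  haveI : Coh.IsQCoh ((Scheme.Modules.pullback (pullback.fst f g)).obj F) := M1.isQCoh_pullback _ hF
  have hsq := IsPullback.of_hasPullback (pullback.snd f g) a
  exact (isFlatOver_isPullback_iff hF (hsq.paste_horiz (IsPullback.of_hasPullback f g))).1
    (isFlatOver_congr _ ((pullbackComp _ (pullback.fst f g)).app F)
      fun x => FlatH4.isFlatOverAt_baseChange hsq _ x (h.1 _))

theorem hasFlatHilb_of_local (hF : Coh.IsQCoh F) {T : Scheme.{u}} (g : T ⟶ S)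
    (h : ∀ t : T, ∃ U : T.Opens, t ∈ U ∧ HasFlatHilb f F L Φ U (U.ι ≫ g)) : HasFlatHilb f F L Φ T g := by
  refine ⟨fun x => ?_, fun t => ?_⟩
  · obtain ⟨U, hxU, hU⟩ := h (pullback.snd f g x)
    have hsq := IsPullback.of_hasPullback (pullback.snd f g) U.ι
    have hfl := (isFlatOver_isPullback_iff hF (hsq.paste_horiz (IsPullback.of_hasPullback f g))).2 hU.1
    obtain ⟨x', hx', -⟩ := Scheme.Pullback.exists_preimage_pullback (f := pullback.snd f g) (g := U.ι) x
      (⟨pullback.snd f g x, hxU⟩ : (U : Scheme.{u})) rfl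
    have := FlatH4.isFlatOverAt_of_baseChange_of_flat hsq ((Scheme.Modules.pullback (pullback.fst f g)).obj F) x'
      (Flat.stalkMap U.ι (pullback.snd (pullback.snd f g) U.ι x'))
      (SchDom.isFlatOverAt_of_iso _ ((pullbackComp _ (pullback.fst f g)).app F).symm x' (hfl x'))
    rw [← hx']
    exact this
  · obtain ⟨U, htU, hU⟩ := h t
    exact hU.2 ⟨t, htU⟩

theorem hilbLocus_baseChange [IsProper f] (hF : CohB1.IsFP F) (hL : PicF.IsInvertible L) {V : Scheme.{u}}
    (j : V ⟶ S) :
    hilbLocus (pullback.snd f j) ((Scheme.Modules.pullback (pullback.fst f j)).obj F)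
      ((Scheme.Modules.pullback (pullback.fst f j)).obj L) Φ = j ⁻¹' hilbLocus f F L Φ := by
  ext v
  exact forall_congr' fun n => by
    rw [congrFun (fibChi_baseChange f j hF 1 (fun _ => L) (fun _ => hL) v) (fun _ => n)]

/-- The functor of a base change. -/
theorem hasFlatHilb_baseChange_iff [IsProper f] (hF : CohB1.IsFP F) (hL : PicF.IsInvertible L) {V T : Scheme.{u}}
    (j : V ⟶ S) (a : T ⟶ V) :
    HasFlatHilb (pullback.snd f j) ((Scheme.Modules.pullback (pullback.fst f j)).obj F)
        ((Scheme.Modules.pullback (pullback.fst f j)).obj L) Φ T a ↔ HasFlatHilb f F L Φ T (a ≫ j) := by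
  have hq := M1.isFP_isQCoh hF
  have hsq := (IsPullback.of_hasPullback (pullback.snd f j) a).paste_horiz (IsPullback.of_hasPullback f j)
  refine and_congr ?_ ?_
  · rw [← isFlatOver_isPullback_iff hq hsq]
    exact ⟨isFlatOver_congr _ ((pullbackComp _ (pullback.fst f j)).app F),
      isFlatOver_congr _ ((pullbackComp _ (pullback.fst f j)).app F).symm⟩
  · rw [hilbLocus_baseChange hF hL]
    exact Iff.rfl

/-- The image of a morphism representing the functor. -/
theorem range_eq_of_univ {V W : Scheme.{u}} {j : V ⟶ S} {i : W ⟶ V}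
    (h : ∀ (T : Scheme.{u}) (a : T ⟶ V), (∃ b, b ≫ i = a) ↔ HasFlatHilb f F L Φ T (a ≫ j)) :
    Set.range i = j ⁻¹' hilbLocus f F L Φ := by
  refine Set.Subset.antisymm ?_ fun v hv => ?_
  · rintro _ ⟨w, rfl⟩
    exact ((h W i).1 ⟨𝟙 _, Category.id_comp _⟩).2 w
  · obtain ⟨b, hb⟩ := (h _ (V.fromSpecResidueField v)).2 ⟨NumPoly18.isFlatOver_field _ _, fun p => by
      rw [Scheme.Hom.comp_apply, V.fromSpecResidueField_apply]; exact hv⟩
    exact ⟨b (IsLocalRing.closedPoint _), by
      rw [← Scheme.Hom.comp_apply, hb]; exact V.fromSpecResidueField_apply v _⟩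

end Groth.Agent.CMReg18
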