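import Mathlib
import Groth.Agent.Lib.CartExt13.Rep

/-!
# A closed subscheme from closed subschemes of the affine opens with a universal property
-/

set_option autoImplicit false
set_option linter.style.haveILetI false
set_option backward.isDefEq.respectTransparency false

universe u

open CategoryTheory CategoryTheory.Limits AlgebraicGeometry TopologicalSpace Opposite

namespace Groth.Agent.CMReg18

open Groth.Agent

/-- Morphisms from the spectrum of a ring factor through a closed immersion into the spectrum of a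
ring exactly when they kill the corresponding ideal. -/
theorem exists_ideal_of_closedImmersion {R : CommRingCat.{u}} {Z : Scheme.{u}} (c : Z ⟶ Spec R)
    [IsClosedImmersion c] :
    ∃ I : Ideal R, ∀ (C : CommRingCat.{u}) (φ : R ⟶ C),
      (∃ h : Spec C ⟶ Z, h ≫ c = Spec.map φ) ↔ I ≤ RingHom.ker φ.hom := by
  obtain ⟨I, e, he⟩ := IsClosedImmersion.Spec_iff.1 ‹IsClosedImmersion c›
  refine ⟨I, fun C φ => ⟨?_, fun hI => ?_⟩⟩
  · rintro ⟨h, hh⟩ a ha
    obtain ⟨ψ, hψ⟩ : ∃ ψ, Spec.map ψ = h ≫ e.hom := Spec.map_surjective _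
    have hφ : φ = CommRingCat.ofHom (Ideal.Quotient.mk I) ≫ ψ := by
      apply Spec.map_injective
      rw [Spec.map_comp, hψ, Category.assoc, ← he, hh]
    rw [RingHom.mem_ker, hφ]
    show ψ (Ideal.Quotient.mk I a) = 0
    rw [Ideal.Quotient.eq_zero_iff_mem.2 ha, map_zero]
  · refine ⟨Spec.map (CommRingCat.ofHom (Ideal.Quotient.lift I φ.hom fun a ha => hI ha)) ≫ e.inv, ?_⟩
    rw [he, Category.assoc, Iso.inv_hom_id_assoc, ← Spec.map_comp]
    congr 1

/-- A property of morphisms to a scheme, stable under composition, local on the source and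
represented over each affine open by a closed immersion of finite presentation, is represented by a
closed immersion of finite presentation. -/
theorem exists_closedImmersion_of_local {S : Scheme.{u}} (P : ∀ T : Scheme.{u}, (T ⟶ S) → Prop)
    (hcomp : ∀ (T T' : Scheme.{u}) (a : T' ⟶ T) (g : T ⟶ S), P T g → P T' (a ≫ g))
    (hloc : ∀ (T : Scheme.{u}) (g : T ⟶ S), (∀ t : T, ∃ U : T.Opens, t ∈ U ∧ P _ (U.ι ≫ g)) → P T g)
    (hrep : ∀ V : S.affineOpens, ∃ (Z : Scheme.{u}) (c : Z ⟶ (V.1 : Scheme.{u})), IsClosedImmersion c ∧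
      LocallyOfFinitePresentation c ∧
      ∀ (T : Scheme.{u}) (a : T ⟶ (V.1 : Scheme.{u})), (∃ h, h ≫ c = a) ↔ P T (a ≫ V.1.ι)) :
    ∃ (W : Scheme.{u}) (i : W ⟶ S), IsClosedImmersion i ∧ LocallyOfFinitePresentation i ∧
      ∀ (T : Scheme.{u}) (g : T ⟶ S), (∃ h, h ≫ i = g) ↔ P T g := by
  choose Z c hc hcf huniv using hrep
  have hI : ∀ V : S.affineOpens, ∃ I : Ideal Γ(S, V.1), ∀ (C : CommRingCat.{u}) (φ : Γ(S, V.1) ⟶ C),
      P _ (Spec.map φ ≫ V.2.fromSpec) ↔ I ≤ RingHom.ker φ.hom := fun V => by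
    haveI := hc V
    obtain ⟨I, hI⟩ := exists_ideal_of_closedImmersion (c V ≫ V.2.isoSpec.hom)
    refine ⟨I, fun C φ => (Iff.trans ?_ (hI C φ))⟩
    rw [show Spec.map φ ≫ V.2.fromSpec = (Spec.map φ ≫ V.2.isoSpec.inv) ≫ V.1.ι by
      rw [Category.assoc, IsAffineOpen.isoSpec_inv_ι], ← huniv]
    refine exists_congr fun h => ?_
    rw [← Category.assoc h, Iso.eq_comp_inv]
  choose I hI using hI
  have hmap : ∀ (U : S.affineOpens) (r : Γ(S, U.1)),
      (I U).map (S.presheaf.map (homOfLE <| S.basicOpen_le r).op).hom = I (S.affineBasicOpen r) := by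
    intro U r
    let res : Γ(S, U.1) ⟶ Γ(S, (S.affineBasicOpen r).1) := S.presheaf.map (homOfLE <| S.basicOpen_le r).op
    have hres : Spec.map res ≫ U.2.fromSpec = (S.affineBasicOpen r).2.fromSpec :=
      IsAffineOpen.map_fromSpec U.2 (S.affineBasicOpen r).2 _
    have key : ∀ (C : CommRingCat.{u}) (φ : Γ(S, (S.affineBasicOpen r).1) ⟶ C),
        (I U).map res.hom ≤ RingHom.ker φ.hom ↔ I (S.affineBasicOpen r) ≤ RingHom.ker φ.hom := by
      intro C φ
      rw [Ideal.map_le_iff_le_comap, RingHom.comap_ker, ← CommRingCat.hom_comp,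
        ← hI, ← hI, Spec.map_comp, Category.assoc, hres]
    refine le_antisymm ?_ ?_
    · have := (key (CommRingCat.of (_ ⧸ I (S.affineBasicOpen r))) (CommRingCat.ofHom (Ideal.Quotient.mk _))).2
        Ideal.mk_ker.ge
      simpa [Ideal.mk_ker] using this
    · have := (key (CommRingCat.of (_ ⧸ (I U).map res.hom)) (CommRingCat.ofHom (Ideal.Quotient.mk _))).1
        Ideal.mk_ker.ge
      simpa [Ideal.mk_ker] using this
  let J : S.IdealSheafData := { ideal := I, map_ideal_basicOpen := hmap }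
  have hJ : ∀ (T : Scheme.{u}) (g : T ⟶ S), (∃ h, h ≫ J.subschemeι = g) ↔ P T g := fun T g => by
    rw [(CartExt13.factors_iff_le_ker J g).trans Scheme.IdealSheafData.le_ofIdeals_iff]
    constructor
    · intro h
      refine hloc T g fun t => ?_
      obtain ⟨U, hU, htU, -⟩ := exists_isAffineOpen_mem_and_subset (X := S) (x := g t) (U := ⊤) trivial
      obtain ⟨W, hW, htW, hWU⟩ := exists_isAffineOpen_mem_and_subset (X := T) (x := t) (U := g ⁻¹ᵁ U) htU
      refine ⟨W, htW, ?_⟩
      rw [← hW.isoSpec_hom_fromSpec, Category.assoc]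
      refine hcomp _ _ _ _ ?_
      rw [← IsAffineOpen.SpecMap_appLE_fromSpec g hU hW hWU]
      refine (hI ⟨U, hU⟩ _ _).2 fun a ha => ?_
      rw [RingHom.mem_ker, Scheme.Hom.appLE, CommRingCat.comp_apply, (h ⟨U, hU⟩ ha : g.app U a = 0), map_zero]
    · intro h U a ha
      rw [RingHom.mem_ker]
      refine T.sheaf.eq_of_locally_eq' (fun W : { W : T.affineOpens // W.1 ≤ g ⁻¹ᵁ U.1 } => W.1.1) (g ⁻¹ᵁ U.1)
        (fun W => homOfLE W.2) ?_ _ _ fun W => ?_
      · intro x hx
        obtain ⟨_, ⟨W, hW, rfl⟩, hxW, hWU⟩ :=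
          T.isBasis_affineOpens.exists_subset_of_mem_open (show x ∈ g ⁻¹ᵁ U.1 from hx) (g ⁻¹ᵁ U.1).isOpen
        exact Opens.mem_iSup.2 ⟨⟨⟨W, hW⟩, hWU⟩, hxW⟩
      · have h1 := (hI U _ (g.appLE U.1 W.1.1 W.2)).1 (by
          rw [IsAffineOpen.SpecMap_appLE_fromSpec g U.2 W.1.2 W.2]
          exact hcomp _ _ _ _ h) ha
        rw [RingHom.mem_ker, Scheme.Hom.appLE, CommRingCat.comp_apply] at h1
        rw [map_zero]
        exact h1
  refine ⟨J.subscheme, J.subschemeι, inferInstance, ?_, hJ⟩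
  rw [IsZariskiLocalAtTarget.iff_of_openCover (P := @LocallyOfFinitePresentation) S.directedAffineCover]
  intro V
  haveI := hc V
  haveI := hcf V
  let p₁ := pullback.fst J.subschemeι V.1.ι
  let p := pullback.snd J.subschemeι V.1.ι
  obtain ⟨a, ha⟩ := (huniv V _ p).2 ((hJ _ _).1 ⟨p₁, pullback.condition⟩)
  obtain ⟨b, hb⟩ := (hJ _ _).2 ((huniv V _ (c V)).1 ⟨𝟙 _, Category.id_comp _⟩)
  let b' : Z V ⟶ pullback J.subschemeι V.1.ι := pullback.lift b (c V) hb
  have hb' : b' ≫ p = c V := pullback.lift_snd _ _ _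
  haveI : IsIso a := ⟨⟨b', by rw [← cancel_mono p, Category.assoc, hb', Category.id_comp]; exact ha,
    by rw [← cancel_mono (c V), Category.assoc, ha, Category.id_comp]; exact hb'⟩⟩
  show LocallyOfFinitePresentation p
  rw [← ha]
  infer_instance

end Groth.Agent.CMReg18
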