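import Groth.Agent.Lib.CMReg18.FlatGood
import Groth.Agent.Lib.CMReg18.GlueClosed

/-!
# The flattening stratum of a Hilbert polynomial
-/

set_option autoImplicit false
set_option linter.style.haveILetI false
set_option backward.isDefEq.respectTransparency false
set_option maxHeartbeats 1600000

universe u

open CategoryTheory CategoryTheory.Limits AlgebraicGeometry TopologicalSpace Scheme.Modules

namespace Groth.Agent.CMReg18

open Groth.Agent

variable {X S : Scheme.{u}}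

/-- A projective embedding together with a Noetherian model of the module. -/
theorem exists_embedded_model [IsAffine S] (f : X ⟶ S) [IsProper f] [LocallyOfFinitePresentation f]
    {L : X.Modules} (hL : RelAmple.IsRelAmple f L) {F : X.Modules} (hF : CohB1.IsFP F) :
    ∃ (d m : ℕ) (i : X ⟶ CohB1.ProjSpaceOver m S) (V₀ P₀ : Scheme.{u}) (π₀ : P₀ ⟶ V₀) (ψ : S ⟶ V₀)
      (q : CohB1.ProjSpaceOver m S ⟶ P₀) (L₀ G₀ : P₀.Modules) (N : ℕ), 0 < d ∧ IsClosedImmersion i ∧
      i ≫ CohB1.ProjSpaceOver.toBase m S = f ∧ IsNoetherian V₀ ∧ IsProper π₀ ∧ Flat π₀ ∧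
      RelAmple.IsRelAmple π₀ L₀ ∧ Coh.IsCoh G₀ ∧ IsPullback q (CohB1.ProjSpaceOver.toBase m S) π₀ ψ ∧
      Nonempty ((Scheme.Modules.pullback q).obj G₀ ≅ (Scheme.Modules.pushforward i).obj F) ∧
      (∀ n, N ≤ n → GoodTwist π₀ G₀ L₀ n) ∧
      ∀ (s : S) (x : ℕ), fibChi π₀ G₀ 1 (fun _ => L₀) (ψ s) (fun _ => x) =
        fibChi f F 1 (fun _ => L) s (fun _ => d * x) := by
  obtain ⟨d, m, i, hd, hi, hi', hif, ⟨e⟩⟩ := exists_closedImm_twist f hL
  haveI := hi
  haveI := hi'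
  have hFq : Coh.IsQCoh F := M1.isFP_isQCoh hF
  let G := (Scheme.Modules.pushforward i).obj F
  have hG : CohB1.IsFP G := (PushFin12.isFP_iff i F hFq).1 hF
  obtain ⟨V₀, P₀, π₀, ψ, q, L₀, G₀, hV, hπ, hπf, hL₀, hG₀, hsq, ⟨eL⟩, ⟨eG⟩⟩ := exists_proj_model m hG
  haveI := hV
  haveI := hπ
  haveI := hπf
  obtain ⟨N, hN⟩ := exists_goodTwist (f := π₀) hG₀ hL₀
  refine ⟨d, m, i, V₀, P₀, π₀, ψ, q, L₀, G₀, N, hd, hi, hif, hV, hπ, hπf, hL₀, hG₀, hsq, ⟨eG⟩, hN,
    fun s x => ?_⟩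
  rw [← fibChi_push hif e hFq (RA.isInvertible_of_isRelAmple f hL) s x]
  haveI : IsLocallyNoetherian P₀ := LocallyOfFiniteType.isLocallyNoetherian π₀
  letI : ((CohB1.ProjSpaceOver.toBase m S).fiber s).Over (Spec (CommRingCat.of (S.residueField s))) :=
    ⟨(CohB1.ProjSpaceOver.toBase m S).fiberToSpecResidueField s⟩
  refine Eq.symm (Eq.trans (CurveCoh17.euler_iso (k := S.residueField s)
    ((Scheme.Modules.pullback ((CohB1.ProjSpaceOver.toBase m S).fiberι s)).mapIso
      (pullTwist q G₀ L₀ x ≪≫ M2.tensorIso eG (M2.tensorPowIso eL x)).symm)) ?_)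
  exact euler_fiber_isPullback hsq (M1.isFP_of_isCoh (isCoh_twist hG₀ (RA.isInvertible_of_isRelAmple π₀ hL₀) x)) s

/-- Where the eventually large Hilbert polynomial fails, over an affine base. -/
theorem isCompact_compl_eventually_le [IsAffine S] (f : X ⟶ S) [IsProper f] [LocallyOfFinitePresentation f]
    {L : X.Modules} (hL : RelAmple.IsRelAmple f L) {F : X.Modules} (hF : CohB1.IsFP F) (Φ : Polynomial ℚ) :
    IsCompact {s : S | ∃ N : ℕ, ∀ n : ℕ, N ≤ n →
      Φ.eval (n : ℚ) ≤ (fibChi f F 1 (fun _ => L) s (fun _ => n) : ℚ)}ᶜ := by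
  obtain ⟨d, m, i, V₀, P₀, π₀, ψ, q, L₀, G₀, N, hd, -, -, hV, hπ, hπf, hL₀, hG₀, -, -, -, heq⟩ :=
    exists_embedded_model f hL hF
  haveI := hV
  haveI := hπ
  haveI := hπf
  obtain ⟨N', hN'⟩ := exists_forall_isClosed_le_noeth (f := π₀) hG₀ hL₀
  obtain ⟨M, hM⟩ := exists_uniform_sign f hF (RA.isInvertible_of_isRelAmple f hL) Φ
  let c : ℤ := ⌈Φ.eval ((d * (M + N') : ℕ) : ℚ)⌉
  have hcl := hN' (M + N') (Nat.le_add_left _ _) c
  haveI : QuasiCompact ψ := inferInstance
  have hcp : IsCompact (ψ ⁻¹' {v : V₀ | c ≤ fibChi π₀ G₀ 1 (fun _ => L₀) v (fun _ => M + N')}ᶜ) :=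
    ψ.isCompact_preimage (U := ⟨_, hcl.isOpen_compl⟩) (TopologicalSpace.NoetherianSpace.isCompact _)
  convert hcp using 1
  ext s
  refine not_congr ?_
  show (∃ N : ℕ, _) ↔ c ≤ _
  rw [heq, hM s (d * (M + N')) (le_trans (Nat.le_add_right M N') (Nat.le_mul_of_pos_left _ hd)), Int.ceil_le]

/-- The stratum over an affine base, when it is closed and not empty. -/
theorem exists_stratum_local [IsAffine S] (f : X ⟶ S) [IsProper f] [LocallyOfFinitePresentation f]
    {L : X.Modules} (hL : RelAmple.IsRelAmple f L) {F : X.Modules} (hF : CohB1.IsFP F) (Φ : Polynomial ℚ)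
    (hcl : IsClosed (hilbLocus f F L Φ)) (hne : (hilbLocus f F L Φ).Nonempty) :
    ∃ (Z : Scheme.{u}) (c : Z ⟶ S), IsClosedImmersion c ∧ LocallyOfFinitePresentation c ∧
      ∀ (T : Scheme.{u}) (g : T ⟶ S), (∃ h, h ≫ c = g) ↔ HasFlatHilb f F L Φ T g := by
  obtain ⟨d, m, i, V₀, P₀, π₀, ψ, q, L₀, G₀, N, hd, hi, hif, hV, hπ, hπf, hL₀, hG₀, hsq, ⟨eG⟩, hN, heq⟩ :=
    exists_embedded_model f hL hF
  subst hif
  haveI := hi
  haveI := hV
  haveI := hπ
  haveI := hπf
  haveI : IsLocallyNoetherian P₀ := LocallyOfFiniteType.isLocallyNoetherian π₀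
  obtain ⟨s₀, hs₀⟩ := hne
  let r : ℕ → ℕ := hilbRk π₀ G₀ L₀ N (ψ s₀)
  let π := CohB1.ProjSpaceOver.toBase m S
  have hFq : Coh.IsQCoh F := M1.isFP_isQCoh hF
  have hLi := RA.isInvertible_of_isRelAmple (i ≫ π) hL
  have hchi : ∀ (s : S) (k : ℕ), (hilbRk π₀ G₀ L₀ N (ψ s) k : ℤ) =
      fibChi (i ≫ π) F 1 (fun _ => L) s (fun _ => d * (N + k)) := fun s k => by
    rw [← euler_eq_hilbRk hN, heq]
  have hrk : ∀ s : S, s ∈ hilbLocus (i ≫ π) F L Φ ↔ hilbRk π₀ G₀ L₀ N (ψ s) = r := fun s => by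
    constructor
    · intro hs
      refine funext fun k => Nat.cast_injective (R := ℚ) ?_
      have h1 := (congrArg (Int.cast (R := ℚ)) (hchi s k)).trans (hs (d * (N + k)))
      have h2 := (congrArg (Int.cast (R := ℚ)) (hchi s₀ k)).trans (hs₀ (d * (N + k)))
      rw [Int.cast_natCast] at h1 h2
      exact h1.trans h2.symm
    · intro hs
      obtain ⟨P, hP⟩ := exists_poly (i ≫ π) hF hLi s
      have hPΦ : P = Φ := Polynomial.eq_of_infinite_eval_eq _ _ (Set.infinite_of_injective_forall_mem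
        (f := fun k : ℕ => ((d * (N + k) : ℕ) : ℚ)) (fun a b hab => by
          have := Nat.eq_of_mul_eq_mul_left hd (Nat.cast_injective hab); omega) fun k => by
        show P.eval _ = Φ.eval _
        rw [hP, ← hs₀ (d * (N + k)), ← hchi, ← hchi, congrFun hs k])
      intro n
      rw [← hP, hPΦ]
  obtain ⟨Z₀, e₀, he₀, hrg₀, huniv₀⟩ := exists_stratum_scheme hG₀ hL₀ hN r ⟨ψ s₀, rfl⟩
  haveI := he₀
  -- the comparison of the two flatness conditions
  have hflat : ∀ (T : Scheme.{u}) (g : T ⟶ S),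
      FlatMod.IsFlatOver (pullback.snd (i ≫ π) g) ((Scheme.Modules.pullback (pullback.fst (i ≫ π) g)).obj F) ↔
        FlatMod.IsFlatOver (pullback.snd π g)
          ((Scheme.Modules.pullback (pullback.fst π g ≫ q)).obj G₀) := fun T g => by
    let j : pullback (i ≫ π) g ⟶ pullback π g :=
      pullback.lift (pullback.fst _ _ ≫ i) (pullback.snd _ _) (by rw [Category.assoc, pullback.condition])
    have hj₁ : j ≫ pullback.fst π g = pullback.fst (i ≫ π) g ≫ i := pullback.lift_fst _ _ _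
    have hj₂ : j ≫ pullback.snd π g = pullback.snd (i ≫ π) g := pullback.lift_snd _ _ _
    have hsqj : IsPullback (pullback.fst (i ≫ π) g) j i (pullback.fst π g) := by
      refine IsPullback.of_bot ?_ hj₁.symm (IsPullback.of_hasPullback π g)
      rw [hj₂]
      exact IsPullback.of_hasPullback (i ≫ π) g
    haveI : IsClosedImmersion j := MorphismProperty.of_isPullback (P := @IsClosedImmersion) hsqj inferInstance
    haveI := hFq
    obtain ⟨θ⟩ := S0017.result i (pullback.fst π g) (pullback.fst (i ≫ π) g) j hsqj F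
    let Θ : (Scheme.Modules.pullback (pullback.fst π g ≫ q)).obj G₀ ≅
        (Coh.push j).obj ((Scheme.Modules.pullback (pullback.fst (i ≫ π) g)).obj F) :=
      ((pullbackComp (pullback.fst π g) q).app G₀).symm ≪≫
        (Scheme.Modules.pullback (pullback.fst π g)).mapIso eG ≪≫ θ
    rw [← hj₂, ← isFlatOver_push_iff j (pullback.snd π g)]
    exact ⟨isFlatOver_congr _ Θ.symm, isFlatOver_congr _ Θ⟩
  let c : pullback e₀ ψ ⟶ S := pullback.snd e₀ ψ
  haveI : LocallyOfFinitePresentation e₀ := inferInstance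
  haveI : LocallyOfFinitePresentation c :=
    MorphismProperty.pullback_snd (P := @LocallyOfFinitePresentation) e₀ ψ inferInstance
  haveI : IsImmersion c := MorphismProperty.pullback_snd (P := @IsImmersion) e₀ ψ inferInstance
  have huniv : ∀ (T : Scheme.{u}) (g : T ⟶ S),
      (∃ h, h ≫ c = g) ↔ HasFlatHilb (i ≫ π) F L Φ T g := fun T g => by
    have hfac : (∃ h, h ≫ c = g) ↔ ∃ h₀, h₀ ≫ e₀ = g ≫ ψ := by
      constructor
      · rintro ⟨h, rfl⟩
        exact ⟨h ≫ pullback.fst e₀ ψ, by rw [Category.assoc, Category.assoc, pullback.condition]⟩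
      · rintro ⟨h₀, h0⟩
        exact ⟨pullback.lift h₀ g h0, pullback.lift_snd _ _ _⟩
    have hT : IsPullback (pullback.fst π g ≫ q) (pullback.snd π g) π₀ (g ≫ ψ) :=
      (IsPullback.of_hasPullback π g).paste_horiz hsq
    rw [hfac]
    constructor
    · rintro ⟨h₀, h0⟩
      have hmem : ∀ t : T, g t ∈ hilbLocus (i ≫ π) F L Φ := fun t =>
        (hrk _).2 ((hrg₀ _).1 ⟨h₀ t, by rw [← Scheme.Hom.comp_apply, h0]; rfl⟩)
      refine ⟨(hflat T g).2 ?_, hmem⟩
      haveI : IsLocallyNoetherian Z₀ := LocallyOfFiniteType.isLocallyNoetherian e₀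
      have hZ := flat_of_finLocFree hG₀ hL₀ (N := N) (IsPullback.of_hasPullback π₀ e₀) fun n hn => by
        obtain ⟨k, rfl⟩ := Nat.exists_eq_add_of_le hn
        exact fun z => (((huniv₀ _ e₀).1 ⟨𝟙 _, Category.id_comp _⟩) k z).imp fun U hU => ⟨_, hU⟩
      haveI : Coh.IsQCoh ((Scheme.Modules.pullback (pullback.fst π₀ e₀)).obj G₀) := M1.isQCoh_pullback _ hG₀.1
      have hsq₁ := IsPullback.of_hasPullback (pullback.snd π₀ e₀) h₀
      have h' := hsq₁.paste_horiz (IsPullback.of_hasPullback π₀ e₀)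
      rw [h0] at h'
      rw [isFlatOver_isPullback_iff hG₀.1 hT, ← isFlatOver_isPullback_iff hG₀.1 h']
      exact isFlatOver_congr _ ((pullbackComp _ (pullback.fst π₀ e₀)).app G₀)
        fun x => FlatH4.isFlatOverAt_baseChange hsq₁ _ x (hZ _)
    · rintro ⟨hfl, hmem⟩
      refine (huniv₀ T (g ≫ ψ)).2 fun k t => ?_
      obtain ⟨U, htU, ⟨e⟩⟩ := rankOn_of_flat' hG₀ hL₀ (hN _ (Nat.le_add_right N k)) hT ((hflat T g).1 hfl) t
      rw [show CohIII.fiberRank π₀ (CohB1.tensorMod G₀ (CohB1.tensorPow L₀ (N + k))) 0 ((g ≫ ψ) t) = r k from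
        congrFun ((hrk (g t)).1 (hmem t)) k] at e
      exact ⟨U, htU, ⟨e⟩⟩
  refine ⟨_, c, ?_, inferInstance, huniv⟩
  have hrange : Set.range c = hilbLocus (i ≫ π) F L Φ := by
    have := range_eq_of_univ (j := 𝟙 S) (i := c) (f := i ≫ π) (F := F) (L := L) (Φ := Φ) fun T a => by
      rw [Category.comp_id]; exact huniv T a
    simpa using this
  exact IsClosedImmersion.of_isPreimmersion c (by rw [hrange]; exact hcl)

/-- The flattening stratum of a Hilbert polynomial. -/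
theorem exists_flatteningStratum (f : X ⟶ S) [IsProper f] [LocallyOfFinitePresentation f]
    {L : X.Modules} (hL : RelAmple.IsRelAmple f L) {F : X.Modules} (hF : CohB1.IsFP F) (Φ : Polynomial ℚ) :
    ∃ (W : Scheme.{u}) (i : W ⟶ S), IsImmersion i ∧ QuasiCompact i ∧ LocallyOfFinitePresentation i ∧
      Set.range i = hilbLocus f F L Φ ∧
      ∀ (T : Scheme.{u}) (g : T ⟶ S), (∃ h, h ≫ i = g) ↔ HasFlatHilb f F L Φ T g := by
  have hFq : Coh.IsQCoh F := M1.isFP_isQCoh hF
  have hLi := RA.isInvertible_of_isRelAmple f hL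
  suffices h : ∃ (W : Scheme.{u}) (i : W ⟶ S), IsImmersion i ∧ QuasiCompact i ∧ LocallyOfFinitePresentation i ∧
      ∀ (T : Scheme.{u}) (g : T ⟶ S), (∃ h, h ≫ i = g) ↔ HasFlatHilb f F L Φ T g by
    obtain ⟨W, i, h₁, h₂, h₃, h₄⟩ := h
    refine ⟨W, i, h₁, h₂, h₃, ?_, h₄⟩
    have := range_eq_of_univ (j := 𝟙 S) (i := i) fun T a => by rw [Category.comp_id]; exact h₄ T a
    simpa using this
  by_cases hne : (hilbLocus f F L Φ).Nonempty
  swap
  · refine ⟨∅, Scheme.emptyTo S, inferInstance, inferInstance, inferInstance, fun T g => ?_⟩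
    constructor
    · rintro ⟨h, rfl⟩
      exact ⟨fun x => (h (pullback.snd f _ x)).elim, fun t => (h t).elim⟩
    · intro h
      haveI : IsEmpty T := ⟨fun t => hne ⟨_, h.2 t⟩⟩
      exact ⟨isInitialOfIsEmpty.to _, isInitialOfIsEmpty.hom_ext _ _⟩
  obtain ⟨s₀, hs₀⟩ := hne
  let C : Set S := {s : S | ∃ N : ℕ, ∀ n : ℕ, N ≤ n →
      Φ.eval (n : ℚ) ≤ (fibChi f F 1 (fun _ => L) s (fun _ => n) : ℚ)}
  let D : Set S := {s : S | ∃ N : ℕ, ∀ n : ℕ, N ≤ n →
      (Φ + 1).eval (n : ℚ) ≤ (fibChi f F 1 (fun _ => L) s (fun _ => n) : ℚ)}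
  have hCD : ∀ s, s ∈ hilbLocus f F L Φ ↔ s ∈ C ∧ s ∉ D := fun s => by
    constructor
    · intro hs
      refine ⟨⟨0, fun n _ => (hs n).ge⟩, ?_⟩
      rintro ⟨N, hN⟩
      have := hN N le_rfl
      rw [hs N, Polynomial.eval_add, Polynomial.eval_one] at this
      linarith
    · rintro ⟨⟨N, hN⟩, hD⟩ n
      obtain ⟨P, hP⟩ := exists_poly f hF hLi s
      have hz : ∀ M : ℕ, ∃ k, M ≤ k ∧ P.eval (k : ℚ) = Φ.eval (k : ℚ) := fun M => by
        by_contra hM
        push Not at hM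
        refine hD ⟨N + M, fun k hk => ?_⟩
        have h1 : Φ.eval (k : ℚ) < P.eval (k : ℚ) :=
          lt_of_le_of_ne ((hN k (by omega)).trans_eq (hP k).symm) (hM k (by omega)).symm
        rw [hP, ← hs₀ k, Int.cast_lt] at h1
        rw [Polynomial.eval_add, Polynomial.eval_one, ← hs₀ k]
        exact_mod_cast Int.add_one_le_iff.2 h1
      have hPΦ : P = Φ := Polynomial.eq_of_infinite_eval_eq _ _ (Set.infinite_of_forall_exists_gt fun a => by
        obtain ⟨M, hM⟩ := exists_nat_gt a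
        obtain ⟨k, hk, hk'⟩ := hz M
        exact ⟨(k : ℚ), hk', lt_of_lt_of_le hM (Nat.cast_le.2 hk)⟩)
      rw [← hP, hPΦ]
  have hCcl : IsClosed C := isClosed_setOf_eventually_le f hL hF Φ
  let U : S.Opens := ⟨Dᶜ, (isClosed_setOf_eventually_le f hL hF (Φ + 1)).isOpen_compl⟩
  have hsub : ∀ {s : S}, s ∈ hilbLocus f F L Φ → s ∈ U := fun hs => ((hCD _).1 hs).2
  haveI : QuasiCompact U.ι := by
    rw [quasiCompact_iff_forall_isAffineOpen]
    intro V hV
    rw [U.ι.isOpenEmbedding.isInducing.isCompact_iff]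
    show IsCompact (U.ι '' (U.ι ⁻¹' (V : Set S)))
    rw [Set.image_preimage_eq_inter_range, Scheme.Opens.range_ι]
    haveI : IsAffine (V : Scheme.{u}) := hV
    let fV := pullback.snd f V.ι
    let FV := (Scheme.Modules.pullback (pullback.fst f V.ι)).obj F
    let LV := (Scheme.Modules.pullback (pullback.fst f V.ι)).obj L
    have hk := isCompact_compl_eventually_le fV (RA.isRelAmple_of_isPullback (IsPullback.of_hasPullback _ _) hL :
      RelAmple.IsRelAmple fV LV) (M1.isFP_pullback _ hF : CohB1.IsFP FV) (Φ + 1)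
    convert hk.image V.ι.continuous using 1
    ext s
    constructor
    · rintro ⟨hsV, hsU⟩
      refine ⟨⟨s, hsV⟩, fun ⟨N, hN⟩ => hsU ⟨N, fun n hn => ?_⟩, rfl⟩
      have := hN n hn
      rwa [congrFun (fibChi_baseChange f V.ι hF 1 (fun _ => L) (fun _ => hLi) ⟨s, hsV⟩) (fun _ => n)] at this
    · rintro ⟨v, hv, rfl⟩
      refine ⟨v.2, fun ⟨N, hN⟩ => hv ⟨N, fun n hn => ?_⟩⟩
      rw [congrFun (fibChi_baseChange f V.ι hF 1 (fun _ => L) (fun _ => hLi) v) (fun _ => n)]
      exact hN n hn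
  obtain ⟨W, i, hi, hif, hW⟩ := exists_closedImmersion_of_local (S := (U : Scheme.{u}))
    (fun T g => HasFlatHilb f F L Φ T (g ≫ U.ι))
    (fun T T' a g h => by rw [Category.assoc]; exact hasFlatHilb_comp hFq a _ h)
    (fun T g h => hasFlatHilb_of_local hFq _ fun t => by
      obtain ⟨O, htO, hO⟩ := h t
      exact ⟨O, htO, by rw [← Category.assoc]; exact hO⟩)
    fun V => by
      haveI : IsAffine (V.1 : Scheme.{u}) := V.2
      let j := V.1.ι ≫ U.ι
      let fV := pullback.snd f j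
      let FV := (Scheme.Modules.pullback (pullback.fst f j)).obj F
      let LV := (Scheme.Modules.pullback (pullback.fst f j)).obj L
      by_cases hV : (hilbLocus fV FV LV Φ).Nonempty
      swap
      · refine ⟨∅, Scheme.emptyTo _, ?_, inferInstance, fun T a => ⟨?_, fun h => ?_⟩⟩
        · exact IsClosedImmersion.of_isPreimmersion _ (by rw [Set.range_eq_empty]; exact isClosed_empty)
        · rintro ⟨h, rfl⟩
          exact ⟨fun x => (h (pullback.snd f _ x)).elim, fun t => (h t).elim⟩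
        · haveI : IsEmpty T := ⟨fun t => hV ⟨a t, by
            have h' := h.2 t
            rw [hilbLocus_baseChange hF hLi]
            exact h'⟩⟩
          exact ⟨isInitialOfIsEmpty.to _, isInitialOfIsEmpty.hom_ext _ _⟩
      have hcl : IsClosed (hilbLocus fV FV LV Φ) := by
        rw [hilbLocus_baseChange hF hLi]
        convert hCcl.preimage j.continuous using 1
        ext v
        exact ⟨fun h => ((hCD _).1 h).1, fun h => (hCD _).2 ⟨h, (V.1.ι v).2⟩⟩
      obtain ⟨Z, c, hc, hcf, hu⟩ := exists_stratum_local fV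
        (RA.isRelAmple_of_isPullback (IsPullback.of_hasPullback _ _) hL : RelAmple.IsRelAmple fV LV)
        (M1.isFP_pullback _ hF : CohB1.IsFP FV) Φ hcl hV
      refine ⟨Z, c, hc, hcf, fun T a => ?_⟩
      rw [hu, hasFlatHilb_baseChange_iff hF hLi, Category.assoc]
  haveI := hi
  haveI := hif
  refine ⟨W, i ≫ U.ι, inferInstance, inferInstance, inferInstance, fun T g => ⟨?_, fun hg => ?_⟩⟩
  · rintro ⟨h, rfl⟩
    rw [← Category.assoc]
    exact (hW T _).1 ⟨h, rfl⟩
  · have hr : Set.range g ⊆ Set.range U.ι := by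
      rw [Scheme.Opens.range_ι]
      rintro _ ⟨t, rfl⟩
      exact hsub (hg.2 t)
    obtain ⟨h, hh⟩ := (hW T (IsOpenImmersion.lift U.ι g hr)).2 (by rw [IsOpenImmersion.lift_fac]; exact hg)
    exact ⟨h, by rw [← Category.assoc, hh, IsOpenImmersion.lift_fac]⟩

end Groth.Agent.CMReg18
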