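import Groth.Agent.Lib.CMReg18.Mult
import Groth.Agent.Lib.RelAmple18.Generated
import Groth.Agent.Lib.CohFound.ProjQuot

/-!
# Twisting data of a globally generated invertible module
-/

set_option autoImplicit false
set_option linter.style.haveILetI false
set_option backward.isDefEq.respectTransparency false

universe u

open CategoryTheory CategoryTheory.Limits AlgebraicGeometry TopologicalSpace Opposite

namespace Groth.Agent.CMReg18

open Groth.Agent

variable {X : Scheme.{u}} (L M : X.Modules)

/-- `L^a ⊗ M^b`. -/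
noncomputable abbrev powPair (a b : ℕ) : X.Modules :=
  CohB1.tensorMod (CohB1.tensorPow L a) (CohB1.tensorPow M b)

/-- The integral powers. -/
noncomputable def intPow (a : ℤ) : X.Modules := powPair L M a.toNat (-a).toNat

variable {L M} (e : CohB1.tensorMod L M ≅ Coh.structureModule X)

noncomputable def powPairZero : ∀ c : ℕ, powPair L M c c ≅ Coh.structureModule X
  | 0 => M2.tensorLUnit _
  | c + 1 => M2.tensorInterchange _ _ _ _ ≪≫ M2.tensorIso (powPairZero c) e ≪≫ M2.tensorLUnit _

noncomputable def powPairMul (a b a' b' : ℕ) :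
    CohB1.tensorMod (powPair L M a b) (powPair L M a' b') ≅ powPair L M (a + a') (b + b') :=
  M2.tensorInterchange _ _ _ _ ≪≫ M2.tensorIso (M2.tensorPowAdd L a a').symm (M2.tensorPowAdd M b b').symm

noncomputable def powPairCancel (a b c : ℕ) : powPair L M (a + c) (b + c) ≅ powPair L M a b :=
  (powPairMul a b c c).symm ≪≫ M2.tensorIso (Iso.refl _) (powPairZero e c) ≪≫ M2.tensorRUnit _

noncomputable def powPairEq {a b a' b' : ℕ} (h : a + b' = a' + b) : powPair L M a b ≅ powPair L M a' b' :=
  (powPairCancel e a b b').symm ≪≫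
    eqToIso (by rw [show a + b' = a' + b from h, show b + b' = b' + b from add_comm _ _]) ≪≫ powPairCancel e a' b' b

/-- The twisting data of an invertible module with sections without common zero. -/
noncomputable def ofInv (hL : PicF.IsInvertible L) (hM : PicF.IsInvertible M) {r : ℕ}
    (s : Fin r → (Coh.structureModule X ⟶ L)) (hs : ∀ x : X, ∃ j, x ∈ CohB1.genLocus L (s j)) : TwistData X where
  O := intPow L M
  inv a := M2.isInvertible_tensor (M2.isInvertible_tensorPow hL _) (M2.isInvertible_tensorPow hM _)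
  zero := powPairZero e 0
  add a b := powPairMul _ _ _ _ ≪≫ powPairEq e (by omega)
  num := r
  sec j := s j ≫ ((M2.tensorPowOne L).symm ≪≫ (M2.tensorRUnit _).symm : L ≅ intPow L M 1).hom
  gen x := by
    obtain ⟨j, hj⟩ := hs x
    refine ⟨j, ?_⟩
    let i : L ≅ intPow L M 1 := (M2.tensorPowOne L).symm ≪≫ (M2.tensorRUnit _).symm
    have hI : PicF.IsInvertible (intPow L M 1) :=
      M2.isInvertible_tensor (M2.isInvertible_tensorPow hL _) (M2.isInvertible_tensorPow hM _)
    rw [← Snapper.surjective_section_iff hI, Snapper.surjective_stalkLin_comp_iso,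
      Snapper.surjective_section_iff hL]
    exact hj

/-- `L^a` as an integral power. -/
noncomputable def intPowNat (a : ℕ) : intPow L M a ≅ CohB1.tensorPow L a :=
  M2.tensorIso (eqToIso (by simp)) (eqToIso (show CohB1.tensorPow M (-(a : ℤ)).toNat = CohB1.tensorPow M 0 by simp)) ≪≫ M2.tensorRUnit _

/-- `M^b` as an integral power. -/
noncomputable def intPowNeg (b : ℕ) : intPow L M (-(b : ℤ)) ≅ CohB1.tensorPow M b :=
  M2.tensorIso (eqToIso (show CohB1.tensorPow L (-(b : ℤ)).toNat = CohB1.tensorPow L 0 by simp)) (eqToIso (by simp)) ≪≫ M2.tensorLUnit _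

variable (k : Type u) [Field k] [X.Over (Spec (CommRingCat.of k))]

/-- A basis of sections of a globally generated invertible module has no common zero. -/
theorem exists_basis_gen [IsProper (X ↘ Spec (CommRingCat.of k))] (hL : PicF.IsInvertible L)
    (hgg : Curv2.IsGloballyGenerated L) :
    ∃ s : Fin (Module.finrank k (Coh.HH X L 0)) → (Coh.structureModule X ⟶ L),
      ∀ x : X, ∃ j, x ∈ CohB1.genLocus L (s j) := by
  haveI : IsNoetherian X := CohFound.isNoetherian_of_isProper (X ↘ Spec (CommRingCat.of k))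
  haveI : Module.Finite k (Coh.HH X L 0) :=
    CohFound.finite_HH_of_isProper (A := k) _ (Snapper.isCoh_of_isInvertible hL) 0
  let B := Module.finBasis k (Coh.HH X L 0)
  let v := fun j => CurveCoh17.hh0 L (B j)
  refine ⟨fun j => M1.secHom (v j), fun x => ?_⟩
  have hgen : _root_.ProjUP.GeneratedBy L v := fun y => by
    obtain ⟨t, ht⟩ := RA.exists_gen_of_isGloballyGenerated hL hgg y
    rw [Amp.mem_genLocus_iff hL] at ht
    refine eq_top_iff.2 fun a _ => ?_
    obtain ⟨c, rfl⟩ := ht.2 a
    refine Submodule.smul_mem _ _ ?_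
    have hsum : Amp.gval t = ∑ j, (show Γ(X, ⊤) from Coh.toGlobal (X ↘ Spec (CommRingCat.of k))
        (B.repr ((CurveCoh17.hh0 L).symm (Amp.gval t)) j)) • v j := by
      conv_lhs => rw [← (CurveCoh17.hh0 L).apply_symm_apply (Amp.gval t),
        ← B.sum_repr ((CurveCoh17.hh0 L).symm (Amp.gval t)), map_sum]
      exact Finset.sum_congr rfl fun j _ => CurveCoh17.hh0_smul _ _
    show L.presheaf.germ ⊤ y trivial (Amp.gval t) ∈ _
    rw [hsum, map_sum]
    refine Submodule.sum_mem _ fun j _ => ?_
    rw [M1.germ_smul]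
    exact Submodule.smul_mem _ _ (Submodule.subset_span ⟨j, rfl⟩)
  obtain ⟨j, U, hxU, hU⟩ := ProjUP.exists_isGen_of_generatedBy hL v hgen x
  refine ⟨j, ?_⟩
  rw [Amp.mem_genLocus_iff hL, Amp.gval_secHom]
  have h := hU.stalk hxU
  rw [M1.germ_mres] at h
  exact h

end Groth.Agent.CMReg18
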