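import Groth.Agent.Lib.CMReg18.BcTwist
import Groth.Agent.Lib.ParaFDesc27.QcqsBC
import Groth.Agent.Lib.NumPoly18.FamilyEuler

/-!
# The points of a base change
-/

set_option autoImplicit false
set_option linter.style.haveILetI false
set_option backward.isDefEq.respectTransparency false
set_option maxHeartbeats 1200000

universe u

open CategoryTheory CategoryTheory.Limits AlgebraicGeometry Scheme.Modules

namespace Groth.Agent.CMReg18

open Groth.Agent

variable {X S X' T : Scheme.{u}}

theorem finrank_fiberH_baseChange {f : X ⟶ S} [IsProper f] {φ : T ⟶ S} {f' : X' ⟶ T} {g' : X' ⟶ X}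
    (h : IsPullback g' f' f φ) {F : X.Modules} (hF : CohB1.IsFP F) (t : T) (p : ℕ) :
    CohIII.fiberRank f' ((Scheme.Modules.pullback g').obj F) p t = CohIII.fiberRank f F p (φ t) := by
  let s := φ t
  let fs := f.fiberToSpecResidueField s
  letI : (f.fiber s).Over (Spec (CommRingCat.of (S.residueField s))) := ⟨fs⟩
  letI : (f'.fiber t).Over (Spec (CommRingCat.of (T.residueField t))) := ⟨f'.fiberToSpecResidueField t⟩
  haveI : IsProper fs := inferInstanceAs (IsProper (pullback.snd f (S.fromSpecResidueField s)))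
  haveI : IsProper (f.fiber s ↘ Spec (CommRingCat.of (S.residueField s))) :=
    inferInstanceAs (IsProper (pullback.snd f (S.fromSpecResidueField s)))
  haveI : IsNoetherian (f.fiber s) :=
    CohFound.isNoetherian_of_isProper (f.fiber s ↘ Spec (CommRingCat.of (S.residueField s)))
  haveI : Subsingleton ↥(Spec (S.residueField s)) := inferInstanceAs (Subsingleton (PrimeSpectrum (S.residueField s)))
  haveI : IsLocallyNoetherian (Spec (S.residueField s)) := inferInstance
  let c : Spec (T.residueField t) ⟶ Spec (S.residueField s) := Spec.map (φ.residueFieldMap t)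
  have hc : c ≫ S.fromSpecResidueField s = T.fromSpecResidueField t ≫ φ :=
    φ.SpecMap_residueFieldMap_fromSpecResidueField t
  have h1 : IsPullback (f'.fiberι t ≫ g') (f'.fiberToSpecResidueField t) f (c ≫ S.fromSpecResidueField s) := by
    rw [hc]
    exact (IsPullback.of_hasPullback f' (T.fromSpecResidueField t)).paste_horiz h
  let b : f'.fiber t ⟶ f.fiber s :=
    pullback.lift (f'.fiberι t ≫ g') (f'.fiberToSpecResidueField t ≫ c) (by rw [h1.w, Category.assoc])
  have hb1 : b ≫ f.fiberι s = f'.fiberι t ≫ g' := pullback.lift_fst _ _ _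
  have hb : IsPullback b (f'.fiberToSpecResidueField t) fs c := by
    refine IsPullback.of_right (h₁₂ := f.fiberι s) ?_ (pullback.lift_snd _ _ _)
      (IsPullback.of_hasPullback f (S.fromSpecResidueField s))
    rw [hb1]; exact h1
  let Fs := (Scheme.Modules.pullback (f.fiberι s)).obj F
  have hFs : Coh.IsCoh Fs := (M1.isCoh_iff_isFP _).2 (M1.isFP_pullback _ hF)
  have e1 := NumPoly18.fiberRank_eq_finrank (k := ↑(T.residueField t)) fs hFs (NumPoly18.isFlatOver_field fs Fs) b c hb p
  have hid : IsPullback (𝟙 (f.fiber s)) ((f.fiber s) ↘ Spec (CommRingCat.of (S.residueField s))) fs (𝟙 _) :=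
    IsPullback.of_horiz_isIso ⟨by simp [fs]; rfl⟩
  have e2 := NumPoly18.fiberRank_eq_finrank (k := ↑(S.residueField s)) fs hFs (NumPoly18.isFlatOver_field fs Fs)
    (𝟙 _) (𝟙 _) hid p
  let i1 : (Scheme.Modules.pullback (f'.fiberι t)).obj ((Scheme.Modules.pullback g').obj F) ≅
      (Scheme.Modules.pullback b).obj Fs :=
    (pullbackComp (f'.fiberι t) g').app F ≪≫ (pullbackCongr hb1.symm).app F ≪≫
      ((pullbackComp b (f.fiberι s)).app F).symm
  refine ((CBC10.hmapLinEquiv (T.residueField t) i1 p).finrank_eq).trans ?_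
  rw [← e1]
  refine Eq.trans ?_ (e2.trans
    (CBC10.hmapLinEquiv (S.residueField s) ((pullbackId (f.fiber s)).app Fs) p).finrank_eq)
  congr 1
  exact Subsingleton.elim _ _

theorem subsingleton_fiberH_baseChange {f : X ⟶ S} [IsProper f] {φ : T ⟶ S} {f' : X' ⟶ T} {g' : X' ⟶ X}
    (h : IsPullback g' f' f φ) {F : X.Modules} (hF : CohB1.IsFP F) (t : T) (p : ℕ)
    (h0 : Subsingleton (CohIII.fiberH f F (φ t) p)) :
    Subsingleton (CohIII.fiberH f' ((Scheme.Modules.pullback g').obj F) t p) := by
  letI : (f'.fiber t).Over (Spec (CommRingCat.of (T.residueField t))) := ⟨f'.fiberToSpecResidueField t⟩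
  haveI : IsProper f' := MorphismProperty.of_isPullback (P := @IsProper) h inferInstance
  haveI : IsProper (f'.fiber t ↘ Spec (CommRingCat.of (T.residueField t))) :=
    inferInstanceAs (IsProper (pullback.snd f' (T.fromSpecResidueField t)))
  haveI : IsNoetherian (f'.fiber t) :=
    CohFound.isNoetherian_of_isProper (f'.fiber t ↘ Spec (CommRingCat.of (T.residueField t)))
  have hG : Coh.IsCoh ((Scheme.Modules.pullback (f'.fiberι t)).obj ((Scheme.Modules.pullback g').obj F)) :=
    (M1.isCoh_iff_isFP _).2 (M1.isFP_pullback _ (M1.isFP_pullback _ hF))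
  haveI : Module.Finite (T.residueField t)
      (CohIII.fiberH f' ((Scheme.Modules.pullback g').obj F) t p) :=
    CohFound.finite_HH_of_isProper (A := T.residueField t) _ hG p
  refine Module.finrank_zero_iff (R := T.residueField t).1 ?_
  haveI := h0
  exact (finrank_fiberH_baseChange h hF t p).trans Module.finrank_zero_of_subsingleton

/-- Base change holds at the points of a base change when it does at the points of the base. -/
theorem isIso_bc0_point_baseChange {f : X ⟶ S} [IsProper f] {φ : T ⟶ S} {f' : X' ⟶ T} {g' : X' ⟶ X}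
    (h : IsPullback g' f' f φ) (F : X.Modules) [Coh.IsQCoh F]
    {t : T} [IsIso (CohBC.bc0 f (S.fromSpecResidueField (φ t)) (f.fiberToSpecResidueField (φ t)) (f.fiberι (φ t))
      (f.fiber_fac (φ t)) F)]
    (w : (f'.fiberι t ≫ g') ≫ f = f'.fiberToSpecResidueField t ≫ T.fromSpecResidueField t ≫ φ) :
    IsIso (CohBC.bc0 f (T.fromSpecResidueField t ≫ φ) (f'.fiberToSpecResidueField t) (f'.fiberι t ≫ g') w F) := by
  let s := φ t
  let fs := f.fiberToSpecResidueField s
  haveI : IsProper fs := inferInstanceAs (IsProper (pullback.snd f (S.fromSpecResidueField s)))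
  let c : Spec (T.residueField t) ⟶ Spec (S.residueField s) := Spec.map (φ.residueFieldMap t)
  haveI : Flat c := inferInstance
  have hc : c ≫ S.fromSpecResidueField s = T.fromSpecResidueField t ≫ φ :=
    φ.SpecMap_residueFieldMap_fromSpecResidueField t
  have h1 : IsPullback (f'.fiberι t ≫ g') (f'.fiberToSpecResidueField t) f (c ≫ S.fromSpecResidueField s) := by
    rw [hc]
    exact (IsPullback.of_hasPullback f' (T.fromSpecResidueField t)).paste_horiz h
  let b : f'.fiber t ⟶ f.fiber s :=
    pullback.lift (f'.fiberι t ≫ g') (f'.fiberToSpecResidueField t ≫ c) (by rw [h1.w, Category.assoc])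
  have hb1 : b ≫ f.fiberι s = f'.fiberι t ≫ g' := pullback.lift_fst _ _ _
  have hb : IsPullback b (f'.fiberToSpecResidueField t) fs c := by
    refine IsPullback.of_right (h₁₂ := f.fiberι s) ?_ (pullback.lift_snd _ _ _)
      (IsPullback.of_hasPullback f (S.fromSpecResidueField s))
    rw [hb1]; exact h1
  haveI : Coh.IsQCoh ((Scheme.Modules.pullback (f.fiberι s)).obj F) := M1.isQCoh_pullback _ ‹_›
  haveI i1 : IsIso (CohBC.bc0 fs c (f'.fiberToSpecResidueField t) b hb.w
      ((Scheme.Modules.pullback (f.fiberι s)).obj F)) := ParaFDesc27.isIso_bc0_of_flat hb _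
  have w1 : (b ≫ f.fiberι s) ≫ f = f'.fiberToSpecResidueField t ≫ c ≫ S.fromSpecResidueField s := by
    rw [hb1]; exact h1.w
  haveI i2 : IsIso (CohBC.bc0 f (c ≫ S.fromSpecResidueField s) (f'.fiberToSpecResidueField t)
      (b ≫ f.fiberι s) w1 F) := by
    haveI : IsIso ((pullbackComp c (S.fromSpecResidueField s)).hom.app ((Scheme.Modules.pushforward f).obj F) ≫
        CohBC.bc0 f (c ≫ S.fromSpecResidueField s) (f'.fiberToSpecResidueField t) (b ≫ f.fiberι s) w1 F) := by
      rw [bc0_paste f (S.fromSpecResidueField s) fs (f.fiberι s) (f.fiber_fac s) c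
        (f'.fiberToSpecResidueField t) b hb.w w1 F]
      infer_instance
    exact IsIso.of_isIso_comp_left
      ((pullbackComp c (S.fromSpecResidueField s)).hom.app ((Scheme.Modules.pushforward f).obj F)) _
  exact bc0_congr f _ (f'.fiberToSpecResidueField t) _ w1 hc hb1 w F

end Groth.Agent.CMReg18
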