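import Groth.Agent.Lib.CMReg18.UnifVan
import Groth.Agent.Lib.CMReg18.OfInv
import Groth.Agent.Lib.CMReg18.PointBC
import Groth.Agent.Lib.FlatTwist13.Main
import Groth.Agent.Lib.Ample18.Ample
import Groth.Agent.Lib.TensorMod.Dual

/-!
# Flatness and the direct images of large twists, over any base
-/

set_option autoImplicit false
set_option linter.style.haveILetI false
set_option backward.isDefEq.respectTransparency false
set_option backward.isDefEq.respectTransparency.types false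
set_option maxHeartbeats 1600000

universe u

open CategoryTheory CategoryTheory.Limits AlgebraicGeometry TopologicalSpace Opposite

noncomputable section

namespace Groth.Agent.CMReg18

open Groth.Agent Groth.Agent.CBC10 Groth.Agent.CohFound Groth.Agent.FlatTwist13
open Groth.Agent.M2 (tsec res)

attribute [local instance] secA

variable {X Y : Scheme.{u}} (f : X ⟶ Y) [IsProper f] [HasInjectiveResolutions X.Modules]

/-- Locally free direct images of all large twists force flatness. -/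
theorem isFlatOver_of_push' {F L : X.Modules} (hF : Coh.IsQCoh F)
    (hL : RelAmple.IsRelAmple f L) (N : ℕ)
    (h : ∀ n, N ≤ n → FlatMod.IsFinLocFree ((Coh.push f).obj (CohB1.tensorMod F (CohB1.tensorPow L n)))) :
    FlatMod.IsFlatOver f F := by
  intro x
  have hLi := RA.isInvertible_of_isRelAmple f hL
  obtain ⟨W, hW, hxW, -⟩ := exists_isAffineOpen_mem_and_subset (U := ⊤) (x := f x) trivial
  letI := overU f hW
  haveI := isProper_overU f hW
  let Z : Scheme.{u} := (f ⁻¹ᵁ W : X.Opens)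
  haveI : CompactSpace Z := QuasiCompact.compactSpace_of_compactSpace (Z ↘ Spec (CommRingCat.of Γ(Y, W)))
  haveI : QuasiSeparatedSpace Z := quasiSeparatedSpace_of_quasiSeparated (Z ↘ Spec (CommRingCat.of Γ(Y, W)))
  let LW : Z.Modules := L.restrict (f ⁻¹ᵁ W).ι
  obtain ⟨k, G, ⟨s, hs⟩, hzG, -, hGa⟩ := Amp.exists_hasSec_le (hL.2 ⟨W, hW⟩ : CohB1.IsAmple LW)
    (x := (⟨x, hxW⟩ : Z)) (V := ⊤) trivial
  let M := CohB1.tensorPow LW (k + 1)
  have hM : PicF.IsInvertible M := Amp.isInvertible_tensorPow (M2.isInvertible_restrict hLi _) _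
  haveI : Coh.IsQCoh (resU f F W) := M1.isQCoh_restrict hF _
  have hflat : ∀ n m : ℕ, N ≤ n → Module.Flat Γ(Y, W)
      Γ(CohB1.tensorMod (CohB1.tensorMod (resU f F W) (CohB1.tensorPow M n)) (CohB1.tensorPow M m), ⊤) := by
    intro n m hn
    let G' := CohB1.tensorMod F (CohB1.tensorPow L ((k + 1) * (n + m)))
    have hG' : Coh.IsQCoh G' := (M2.isQCoh_tensor hF (Twist.isQCoh_of_isInvertible (Amp.isInvertible_tensorPow hLi _)) :
      Coh.IsQCoh (CohB1.tensorMod F _))
    have hle : N ≤ (k + 1) * (n + m) := by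
      have : n + m ≤ (k + 1) * (n + m) := Nat.le_mul_of_pos_left _ k.succ_pos
      omega
    haveI : Module.Flat Γ(Y, W) Γ((Coh.push f).obj G', W) := by
      refine PureClosed13.flat_sections (M1.isQCoh_push f hG') ?_ hW
      exact KFlat.Sch.isFlat_of_isFinLocFree (h _ hle)
    obtain ⟨θ⟩ := exists_sectionsEquiv f hG' hW
    haveI : Module.Flat Γ(Y, W) (Coh.HH Z (resU f G' W) 0) := Module.Flat.of_linearEquiv θ.symm
    haveI : Module.Flat Γ(Y, W) Γ(resU f G' W, (⊤ : Z.Opens)) := Module.Flat.of_linearEquiv (h0Equiv _).symm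
    let e : resU f G' W ≅ CohB1.tensorMod (CohB1.tensorMod (resU f F W) (CohB1.tensorPow M n)) (CohB1.tensorPow M m) :=
      M2.restrictTensorIso _ F _ ≪≫ M2.tensorIso (Iso.refl _) (M2.restrictTensorPowIso _ L _ ≪≫
        (M2.tensorPowPow LW (k + 1) (n + m)).symm ≪≫ M2.tensorPowAdd M n m) ≪≫ (M2.tensorAssoc _ _ _).symm
    exact Module.Flat.of_linearEquiv (LinearEquiv.ofBijective (appL Γ(Y, W) e.hom ⊤)
      (ConcreteCategory.bijective_of_isIso (e.hom.app ⊤))).symm
  have hfl := flat_genLocus (A := Γ(Y, W)) hM s (resU f F W) N hflat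
  rw [hs] at hfl
  haveI := hF
  let U' : X.Opens := (f ⁻¹ᵁ W).ι ''ᵁ G
  have hU' : IsAffineOpen U' := hGa.image_of_isOpenImmersion _
  have hle : U' ≤ f ⁻¹ᵁ W := ((f ⁻¹ᵁ W).ι.image_le_opensRange G).trans (Scheme.Opens.opensRange_ι _).le
  have hxU' : x ∈ U' := ⟨⟨x, hxW⟩, hzG, rfl⟩
  letI := (f.appLE W U' hle).hom.toAlgebra
  letI := FlatH4.secModuleOver f F W U' hle
  haveI : IsScalarTower Γ(Y, W) Γ(X, U') Γ(F, U') := IsScalarTower.of_algebraMap_smul fun _ _ => rfl
  let q : Γ(resU f F W, G) ≃ₗ[Γ(Y, W)] Γ(F, U') :=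
    { toFun := fun s => (F.restrictAppIso (f ⁻¹ᵁ W).ι G).hom s
      map_add' := map_add _
      map_smul' := fun a s => by
        rw [secA_smul, RingHom.id_apply, Scheme.Modules.smul_restrictAppIso_hom_apply]
        refine congrArg (· • (F.restrictAppIso (f ⁻¹ᵁ W).ι G).hom s) ?_
        rw [Scheme.Opens.ι_appIso]
        exact ρ_overU f hW G hle a
      invFun := fun s => (F.restrictAppIso (f ⁻¹ᵁ W).ι G).inv s
      left_inv := fun s => by simp
      right_inv := fun s => by simp }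
  haveI : Module.Flat Γ(Y, W) Γ(F, U') := Module.Flat.of_linearEquiv q.symm
  exact (FlatH4.isFlatOverAt_iff f F W hW U' hU' hle hxU').2 (flat_localized_of_flat' _)


/-- Finitely many sections of one power of an ample module without common zero. -/
theorem exists_gen_power {Z : Scheme.{u}} {L : Z.Modules} (hL : CohB1.IsAmple L) :
    ∃ (d : ℕ) (_ : 0 < d) (r : ℕ) (s : Fin r → (Coh.structureModule Z ⟶ CohB1.tensorPow L d)),
      ∀ z : Z, ∃ j, z ∈ CohB1.genLocus _ (s j) := by
  classical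
  haveI := hL.2.1
  choose k G hG hz hle hGa using fun z : Z => Amp.exists_hasSec_le hL (x := z) (V := ⊤) trivial
  obtain ⟨t, ht⟩ := isCompact_univ.elim_finite_subcover (fun z => (G z : Set Z)) (fun z => (G z).isOpen)
    fun z _ => Set.mem_iUnion.2 ⟨z, hz z⟩
  let d := ∏ z ∈ t, (k z + 1)
  have hd : 0 < d := Finset.prod_pos fun z _ => Nat.succ_pos _
  have hsec : ∀ z ∈ t, Amp.HasSec L d (G z) := fun z hzt => by
    obtain ⟨c, hc⟩ : (k z + 1) ∣ d := Finset.dvd_prod_of_mem _ hzt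
    obtain ⟨c', rfl⟩ : ∃ c', c = c' + 1 := ⟨c - 1, (Nat.succ_pred_eq_of_pos (Nat.pos_of_ne_zero (by
      rintro rfl; rw [mul_zero] at hc; omega))).symm⟩
    exact ((hG z).powPow hL.1 c').of_eq hc.symm
  choose σ hσ using hsec
  let e := t.equivFin
  refine ⟨d, hd, t.card, fun j => σ (e.symm j).1 (e.symm j).2, fun z => ?_⟩
  obtain ⟨z₀, hz₀, hmem⟩ := Set.mem_iUnion₂.1 (ht (Set.mem_univ z))
  refine ⟨e ⟨z₀, hz₀⟩, ?_⟩
  show z ∈ CohB1.genLocus _ (σ (e.symm (e ⟨z₀, hz₀⟩)).1 (e.symm (e ⟨z₀, hz₀⟩)).2)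
  rw [hσ]
  show z ∈ G (e.symm (e ⟨z₀, hz₀⟩)).1
  rw [Equiv.symm_apply_apply]
  exact hmem

variable {F L : X.Modules}

/-- Twists by powers of a power, on an open piece. -/
def twistCompare {U : Scheme.{u}} {j₀ : U ⟶ X} [IsOpenImmersion j₀] {M' : U.Modules} {d₀ : ℕ}
    (e : CohB1.tensorMod (CohB1.tensorPow (L.restrict j₀) d₀) M' ≅ Coh.structureModule U)
    (hM : PicF.IsInvertible (CohB1.tensorPow (L.restrict j₀) d₀)) (hM' : PicF.IsInvertible M') {r : ℕ}
    (σ : Fin r → (Coh.structureModule U ⟶ CohB1.tensorPow (L.restrict j₀) d₀))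
    (hσ : ∀ z : U, ∃ i, z ∈ CohB1.genLocus _ (σ i)) (n : ℕ) :
    (ofInv e hM hM' σ hσ).tw (CohB1.tensorMod (F.restrict j₀) (CohB1.tensorPow (L.restrict j₀) (n % d₀)))
      ((n / d₀ : ℕ) : ℤ) ≅ (Scheme.Modules.pullback j₀).obj (CohB1.tensorMod F (CohB1.tensorPow L n)) :=
  M2.tensorIso (Iso.refl _) (intPowNat (L := CohB1.tensorPow (L.restrict j₀) d₀) (M := M') (n / d₀) ≪≫
      M2.tensorPowPow (L.restrict j₀) d₀ (n / d₀)) ≪≫ M2.tensorAssoc _ _ _ ≪≫
    M2.tensorIso (Iso.refl _) ((M2.tensorPowAdd (L.restrict j₀) _ _).symm ≪≫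
      eqToIso (congrArg (CohB1.tensorPow (L.restrict j₀)) (Nat.mod_add_div n d₀)) ≪≫
      (M2.restrictTensorPowIso j₀ L n).symm) ≪≫
    (M2.restrictTensorIso j₀ F _).symm ≪≫
    (Scheme.Modules.restrictFunctorIsoPullback j₀).app _

variable {f} [LocallyOfFinitePresentation f]

omit [HasInjectiveResolutions X.Modules] in
/-- Near every point the large twists of a flat family have acyclic fibres. -/
theorem exists_nhd_vanishing_pow (hF : CohB1.IsFP F) (hfl : FlatMod.IsFlatOver f F)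
    (hL : RelAmple.IsRelAmple f L) (s : Y) :
    ∃ (V : Y.Opens) (N : ℕ), s ∈ V ∧ ∀ y ∈ V, ∀ n, N ≤ n → ∀ p : ℕ, 1 ≤ p →
      Subsingleton (CohIII.fiberH f (CohB1.tensorMod F (CohB1.tensorPow L n)) y p) := by
  classical
  obtain ⟨V, hV, hsV, -⟩ := exists_isAffineOpen_mem_and_subset (X := Y) (x := s) (U := ⊤) trivial
  have hLi := RA.isInvertible_of_isRelAmple f hL
  let j := (f ⁻¹ᵁ V).ι
  let π : (f ⁻¹ᵁ V : X.Opens).toScheme ⟶ Spec Γ(Y, V) := f ∣_ V ≫ hV.isoSpec.hom
  have h : IsPullback j π f hV.fromSpec := CBC10.isPullback_overU f hV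
  haveI : IsProper π := MorphismProperty.of_isPullback (P := @IsProper) h inferInstance
  haveI : LocallyOfFinitePresentation π :=
    MorphismProperty.of_isPullback (P := @LocallyOfFinitePresentation) h inferInstance
  let LV : (f ⁻¹ᵁ V : X.Opens).toScheme.Modules := L.restrict j
  let FV : (f ⁻¹ᵁ V : X.Opens).toScheme.Modules := F.restrict j
  have hA : CohB1.IsAmple LV := hL.2 ⟨V, hV⟩
  have hLVi : PicF.IsInvertible LV := hA.1
  obtain ⟨d, hd, r, σ, hσ⟩ := exists_gen_power hA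
  have hM : PicF.IsInvertible (CohB1.tensorPow LV d) := Amp.isInvertible_tensorPow hLVi d
  obtain ⟨M', hM', ⟨e⟩⟩ := M2.exists_inverse hM
  let D := ofInv e hM hM' σ hσ
  have hD : RelAmple.IsRelAmple π (D.O 1) := (RA.isRelAmple_iff_isAmple (f := π)).2
    (Amp.isAmple_of_iso (intPowNat (L := CohB1.tensorPow LV d) (M := M') 1 ≪≫ M2.tensorPowOne _).symm
      ((Amp.isAmple_tensorPow_iff hLVi hd).2 hA))
  have hFV : CohB1.IsFP FV := M1.isFP_restrict hF j
  have hflV : FlatMod.IsFlatOver π FV := CBC10.isFlatOver_resU (f := f) (U := V) (M1.isFP_isQCoh hF) hfl hV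
  choose N hN using fun i : Fin d => exists_forall_vanishing (f := π) (F := CohB1.tensorMod FV (CohB1.tensorPow LV i))
    (isFP_tensor_inv hFV (Amp.isInvertible_tensorPow hLVi _))
    (FlatTwist13.isFlatOver_tensor π hflV (Amp.isInvertible_tensorPow hLVi _)) D hD
  refine ⟨V, d * (Finset.univ.sup N + 1), hsV, fun y hy n hn p hp => ?_⟩
  obtain ⟨t, rfl⟩ : y ∈ Set.range hV.fromSpec := by rw [hV.range_fromSpec]; exact hy
  have hGp : CohB1.IsFP (CohB1.tensorMod F (CohB1.tensorPow L n)) :=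
    isFP_tensor_inv hF (Amp.isInvertible_tensorPow hLi n)
  let i : Fin d := ⟨n % d, Nat.mod_lt _ hd⟩
  have hq : N i ≤ n / d := le_trans (Finset.le_sup (Finset.mem_univ i)) (by
    rw [Nat.le_div_iff_mul_le hd]
    nlinarith [hn])
  have h0 := hN i t ((n / d : ℕ) : ℤ) (Int.ofNat_le.2 hq) p hp
  let c := twistCompare (F := F) (L := L) (j₀ := j) e hM hM' σ hσ n
  letI : (π.fiber t).Over (Spec (CommRingCat.of ((Spec Γ(Y, V)).residueField t))) :=
    ⟨π.fiberToSpecResidueField t⟩
  have h1 : Subsingleton (CohIII.fiberH π ((Scheme.Modules.pullback j).obj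
      (CohB1.tensorMod F (CohB1.tensorPow L n))) t p) :=
    van_iso ((Spec Γ(Y, V)).residueField t) ((Scheme.Modules.pullback (π.fiberι t)).mapIso c) h0
  let s' := hV.fromSpec t
  letI : (f.fiber s').Over (Spec (CommRingCat.of (Y.residueField s'))) := ⟨f.fiberToSpecResidueField s'⟩
  haveI : IsProper (f.fiber s' ↘ Spec (CommRingCat.of (Y.residueField s'))) :=
    inferInstanceAs (IsProper (pullback.snd f (Y.fromSpecResidueField s')))
  haveI : IsNoetherian (f.fiber s') :=
    CohFound.isNoetherian_of_isProper (f.fiber s' ↘ Spec (CommRingCat.of (Y.residueField s')))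
  haveI : Module.Finite (Y.residueField s')
      (CohIII.fiberH f (CohB1.tensorMod F (CohB1.tensorPow L n)) s' p) :=
    CohFound.finite_HH_of_isProper (A := Y.residueField s') _ ((M1.isCoh_iff_isFP _).2 (M1.isFP_pullback _ hGp)) p
  refine Module.finrank_zero_iff (R := Y.residueField s').1 ?_
  refine (finrank_fiberH_baseChange h hGp t p).symm.trans ?_
  haveI := h1
  exact Module.finrank_zero_of_subsingleton

/-- Over a quasi-compact base flatness is local freeness of the direct images of all large twists. -/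
theorem isFlatOver_iff_push [CompactSpace Y] (hF : CohB1.IsFP F)
    (hL : RelAmple.IsRelAmple f L) :
    FlatMod.IsFlatOver f F ↔ ∃ N : ℕ, ∀ n, N ≤ n →
      FlatMod.IsFinLocFree ((Coh.push f).obj (CohB1.tensorMod F (CohB1.tensorPow L n))) := by
  classical
  have hLi := RA.isInvertible_of_isRelAmple f hL
  refine ⟨fun hfl => ?_, fun ⟨N, hN⟩ => isFlatOver_of_push' f (M1.isFP_isQCoh hF) hL N hN⟩
  choose V N hsV hV using exists_nhd_vanishing_pow hF hfl hL
  obtain ⟨t, ht⟩ := isCompact_univ.elim_finite_subcover (fun s => (V s : Set Y)) (fun s => (V s).isOpen)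
    fun s _ => Set.mem_iUnion.2 ⟨s, hsV s⟩
  refine ⟨t.sup N, fun n hn => (isFinLocFree_push_of_vanishing (f := f)
    (isFP_tensor_inv hF (Amp.isInvertible_tensorPow hLi n))
    (FlatTwist13.isFlatOver_tensor f hfl (Amp.isInvertible_tensorPow hLi n)) fun y p hp => ?_).1⟩
  obtain ⟨s, hst, hy⟩ := Set.mem_iUnion₂.1 (ht (Set.mem_univ y))
  exact hV s y hy n (le_trans (Finset.le_sup hst) hn) p hp

end Groth.Agent.CMReg18
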