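import Groth.Agent.Lib.CBC10.Rows0
import Groth.Agent.Lib.CBC10.Near
import Groth.Agent.Lib.FlatTwist13.Main

/-!
# Vanishing on the base forces vanishing on the fibres in a flat family
-/

set_option autoImplicit false
set_option linter.style.haveILetI false
set_option maxHeartbeats 800000

universe u

open CategoryTheory CategoryTheory.Limits AlgebraicGeometry TopologicalSpace Opposite

namespace Groth.Agent.CMReg18

open Groth.Agent Groth.Agent.CBC10

variable {X S : Scheme.{u}} {f : X ⟶ S} [IsProper f] [IsLocallyNoetherian S] {F : X.Modules} {V : S.Opens}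

/-- If all higher cohomology of a flat family vanishes over an affine open, it vanishes on the fibres there. -/
theorem subsingleton_fiberH_of_vanishing (hF : Coh.IsCoh F) (hfl : FlatMod.IsFlatOver f F) (hV : IsAffineOpen V)
    (h : letI := overU f hV
      ∀ p : ℕ, 0 < p → Subsingleton (Coh.HH (f ⁻¹ᵁ V : X.Opens).toScheme (resU f F V) p))
    {s : S} (hs : s ∈ V) {p : ℕ} (hp : 0 < p) : Subsingleton (CohIII.fiberH f F s p) := by
  letI := overU f hV
  haveI := isProper_overU f hV
  haveI : CompactSpace (f ⁻¹ᵁ V : X.Opens).toScheme :=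
    QuasiCompact.compactSpace_of_compactSpace ((f ⁻¹ᵁ V : X.Opens).toScheme ↘ Spec (CommRingCat.of Γ(S, V)))
  haveI : ((f ⁻¹ᵁ V : X.Opens).toScheme).IsSeparated := ⟨by
    rw [← terminal.comp_from ((f ⁻¹ᵁ V : X.Opens).toScheme ↘ Spec (CommRingCat.of Γ(S, V)))]
    infer_instance⟩
  obtain ⟨P, hfin, hflat, ⟨i₀, hi₀⟩, -, hP⟩ := exists_complexOn (f := f) hF hfl hV
  haveI := hflat
  haveI := hfin
  haveI : IsNoetherianRing Γ(S, V) := IsLocallyNoetherian.component_noetherian ⟨V, hV⟩
  haveI : ∀ i, Module.Projective Γ(S, V) (P.X i) := fun i => by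
    haveI : Module.FinitePresentation Γ(S, V) (P.X i) := Module.finitePresentation_of_finite _ _
    exact Module.Flat.projective_of_finitePresentation
  have hH : ∀ q : ℕ, 0 < q → Subsingleton (FlatCxLib.H P (-(q : ℤ))) := fun q hq => by
    obtain ⟨e⟩ := Computes.exists_unit (A := Γ(S, V)) hP (M1.isQCoh_restrict hF.1 _) q
    haveI := h q hq
    exact e.toEquiv.subsingleton
  have hcok : ∀ m : ℕ, i₀ - 1 + (m : ℤ) ≤ -1 → Module.Flat Γ(S, V) (FlatCxLib.Cok P (i₀ - 1 + (m : ℤ))) := fun m => by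
    induction m with
    | zero =>
      intro _
      haveI : Subsingleton (P.X (i₀ - 1 + ((0 : ℕ) : ℤ))) :=
        ModuleCat.subsingleton_of_isZero (hi₀ _ (by omega))
      haveI : Subsingleton (FlatCxLib.Cok P (i₀ - 1 + ((0 : ℕ) : ℤ))) := inferInstance
      infer_instance
    | succ m ih =>
      intro hm
      obtain ⟨q, hq⟩ : ∃ q : ℕ, i₀ - 1 + ((m + 1 : ℕ) : ℤ) = -(q : ℤ) :=
        ⟨(-(i₀ - 1 + ((m + 1 : ℕ) : ℤ))).toNat, by omega⟩
      haveI := hH q (by omega)
      haveI : Module.Flat Γ(S, V) (FlatCxLib.H P (i₀ - 1 + ((m + 1 : ℕ) : ℤ))) := by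
        rw [hq]; infer_instance
      exact flat_cok_of_flat_H_step P (by push_cast; ring) inferInstance (ih (by omega))
  have hq : Module.Flat Γ(S, V) (FlatCxLib.Cok P (-(p : ℤ) - 1)) := by
    by_cases hlow : -(p : ℤ) - 1 < i₀
    · haveI : Subsingleton (P.X (-(p : ℤ) - 1)) := ModuleCat.subsingleton_of_isZero (hi₀ _ hlow)
      haveI : Subsingleton (FlatCxLib.Cok P (-(p : ℤ) - 1)) := inferInstance
      infer_instance
    · obtain ⟨m, hm⟩ : ∃ m : ℕ, i₀ - 1 + (m : ℤ) = -(p : ℤ) - 1 := ⟨(-(p : ℤ) - i₀).toNat, by omega⟩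
      rw [← hm]
      exact hcok m (by omega)
  letI := algEval (U := V) hs
  haveI := hH p hp
  exact (hP.subsingleton_fiberH_iff hs hF.1 p).2 (FlatCxLib.theta_surjective P _
    ((FlatCxLib.preservesEpi_iff P (sub_add_cancel (-(p : ℤ)) 1)).2 hq) (S.residueField s)).subsingleton

omit [IsLocallyNoetherian S] in
/-- Uniform vanishing on the fibres for a flat family and large twists. -/
theorem exists_forall_subsingleton_fiberH [IsNoetherian S] (hF : Coh.IsCoh F) (hfl : FlatMod.IsFlatOver f F)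
    {L : X.Modules} (hL : RelAmple.IsRelAmple f L) :
    ∃ N : ℕ, ∀ n, N ≤ n → ∀ (s : S) (p : ℕ), 1 ≤ p →
      Subsingleton (CohIII.fiberH f (CohB1.tensorMod F (CohB1.tensorPow L n)) s p) := by
  classical
  have hLi := RA.isInvertible_of_isRelAmple f hL
  obtain ⟨ι, hfin, W, hW, hWa⟩ := CBC10.exists_finite_affine_cover S
  have hP : ∀ i, ∃ N : ℕ, ∀ n, N ≤ n → ∀ p : ℕ, 0 < p →
      letI := overU f (hWa i)
      Subsingleton (Coh.HH (f ⁻¹ᵁ W i : X.Opens).toScheme
        (resU f (CohB1.tensorMod F (CohB1.tensorPow L n)) (W i)) p) := fun i => by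
    letI := overU f (hWa i)
    haveI := isProper_overU f (hWa i)
    haveI : IsNoetherianRing Γ(S, W i) := IsLocallyNoetherian.component_noetherian ⟨W i, hWa i⟩
    obtain ⟨N, hN⟩ := CohFound.exists_vanishing_all
      ((f ⁻¹ᵁ W i : X.Opens).toScheme ↘ Spec (CommRingCat.of Γ(S, W i)))
      (hL.2 ⟨W i, hWa i⟩) (isCoh_resU (f := f) (U := W i) hF)
    refine ⟨N, fun n hn p hp => ?_⟩
    haveI := (CohFound.subsingleton_HH_iff _ _).2 (hN n hn p hp)
    exact (hmapEquiv (M2.restrictTensorIso _ F _ ≪≫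
      M2.tensorIso (Iso.refl _) (M2.restrictTensorPowIso _ L n)) p).toEquiv.subsingleton
  choose N hN using hP
  haveI := Fintype.ofFinite ι
  refine ⟨Finset.univ.sup N, fun n hn s p hp => ?_⟩
  obtain ⟨i, hs⟩ := Opens.mem_iSup.1 (hW (show s ∈ (⊤ : S.Opens) from trivial))
  exact subsingleton_fiberH_of_vanishing
    (CohFound.isCoh_tensor hF (CohFound.isCoh_of_isFinLocFree
      (M2.isFinLocFree_of_isInvertible (Amp.isInvertible_tensorPow hLi n))))
    (FlatTwist13.isFlatOver_tensor f hfl (Amp.isInvertible_tensorPow hLi n)) (hWa i)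
    (hN i n ((Finset.le_sup (Finset.mem_univ i)).trans hn)) hs hp

end Groth.Agent.CMReg18
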