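import Groth.Agent.Lib.CMReg18.Twist

/-!
# Regular modules are generated by global sections
-/

set_option autoImplicit false
set_option linter.style.haveILetI false
set_option backward.isDefEq.respectTransparency false

universe u

open CategoryTheory CategoryTheory.Limits AlgebraicGeometry TopologicalSpace Opposite

namespace Groth.Agent.CMReg18

open Groth.Agent

variable {X : Scheme.{u}}

/-- A morphism kills all global sections. -/
def Kills {M N : X.Modules} (q : M ⟶ N) : Prop := ∀ t : Γ(M, (⊤ : X.Opens)), q.app ⊤ t = 0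

theorem Kills.of_iso {M N M' N' : X.Modules} {q : M ⟶ N} (h : Kills q) (a : M' ≅ M) (b : N ≅ N') :
    Kills (a.hom ≫ q ≫ b.hom) := fun t => by
  rw [Scheme.Modules.Hom.comp_app, Scheme.Modules.Hom.comp_app, CategoryTheory.comp_apply,
    CategoryTheory.comp_apply, h, map_zero]

theorem eq_zero_of_kills {M N : X.Modules} (hg : Curv2.IsGloballyGenerated M) {q : M ⟶ N} (h : Kills q) :
    q = 0 := by
  obtain ⟨ι, p, hp⟩ := hg
  haveI := hp
  rw [← cancel_epi p, comp_zero]
  refine M1.free_hom_ext fun i => ?_
  rw [comp_zero, ← Category.assoc, Scheme.Modules.Hom.comp_app, CategoryTheory.comp_apply, h]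
  rfl

theorem isGloballyGenerated_of_forall_kills {M : X.Modules}
    (h : ∀ (N : X.Modules) (q : M ⟶ N), Kills q → q = 0) : Curv2.IsGloballyGenerated M := by
  refine ⟨Γ(M, ⊤), M1.freeHom (fun t : Γ(M, ⊤) => t), Preadditive.epi_of_cokernel_zero ?_⟩
  refine h _ _ fun t => ?_
  have h1 := congrArg (fun f => M1.freeSec f t)
    (cokernel.condition (M1.freeHom (fun t : Γ(M, ⊤) => t)))
  rw [M1.freeHom_comp] at h1
  simp only [M1.freeSec, M1.ιF_freeHom, M1.secHom_app_one] at h1
  refine h1.trans ?_
  rw [comp_zero]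
  rfl

namespace TwistData

variable (D : TwistData X) (k : Type u) [CommRing k] [X.Over (Spec (CommRingCat.of k))]

noncomputable def invIso' : CohB1.tensorMod (D.O (-1)) (D.O 1) ≅ Coh.structureModule X :=
  M2.tensorComm _ _ ≪≫ D.invIso

theorem untwist_natural {A B : X.Modules} {D' L : X.Modules} (e : CohB1.tensorMod D' L ≅ Coh.structureModule X)
    (f : A ⟶ B) : (M2.tensorR L).map ((M2.tensorR D').map f) ≫ (M2.untwist e B).hom = (M2.untwist e A).hom ≫ f :=
  M2.untwist_natural e f

include k in
/-- Killing the sections propagates to the next twist. -/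
theorem kills_succ {F : X.Modules} {m : ℤ} (h : D.IsReg F m) {N : X.Modules} (q : D.tw F m ⟶ N) (hq : Kills q) :
    Kills ((M2.tensorR (D.O 1)).map q) := by
  let S := M2.tensorR (D.O 1)
  have hT : Kills (D.down.map (S.map q)) := by
    have e := untwist_natural D.invIso q
    rw [show D.down.map (S.map q) = (M2.untwist D.invIso (D.tw F m)).hom ≫ q ≫ (M2.untwist D.invIso N).symm.hom from by
      rw [Iso.symm_hom, ← Category.assoc, ← e, Category.assoc, Iso.hom_inv_id, Category.comp_id]]
    exact hq.of_iso _ _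
  have hx : ∀ x : Coh.HH X (S.obj (D.tw F m)) 0, CurveCoh17.hmap k (S.map q) 0 x = 0 := fun x => by
    have hmem := D.mem_iSup_mul k (S.obj (D.tw F m)) (fun l => ?_) x
    · induction hmem using Submodule.iSup_induction' with
      | mem j y hy =>
        obtain ⟨z, rfl⟩ := hy
        rw [← CurveCoh17.hmap_comp, ← ap_nat (D.mul j) (S.map q), CurveCoh17.hmap_comp,
          show CurveCoh17.hmap k (D.down.map (S.map q)) 0 z = 0 from
            (CurveCoh17.hh0 _).injective (by rw [CurveCoh17.hh0_hmap, hT, map_zero]), map_zero]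
      | zero => rw [map_zero]
      | add y z _ _ hy hz => rw [map_add, hy, hz, add_zero]
    · refine van_iso k (?_ : D.tw F (m - (1 + l : ℕ)) ≅ _) (h (1 + l) (by omega))
      refine D.twIso F (by push_cast; ring) ≪≫ (D.tpowIso F (m + 1) (2 + l)).symm ≪≫ ?_
      exact tpowMap D.down (D.twTwist F m 1).symm (2 + l)
  intro t
  have := hx ((CurveCoh17.hh0 _).symm t)
  have h2 := congrArg (CurveCoh17.hh0 _) this
  rwa [CurveCoh17.hh0_hmap, AddEquiv.apply_symm_apply, map_zero] at h2

include k in
/-- Regular modules are globally generated, if the large twists are. -/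
theorem IsReg.isGloballyGenerated {F : X.Modules} {m : ℤ} (h : D.IsReg F m)
    (hlarge : ∃ n₀ : ℤ, ∀ n, n₀ ≤ n → Curv2.IsGloballyGenerated (D.tw F n)) :
    Curv2.IsGloballyGenerated (D.tw F m) := by
  obtain ⟨n₀, hn₀⟩ := hlarge
  suffices h' : ∀ (d : ℕ) (a : ℤ), m ≤ a → n₀ ≤ a + d → Curv2.IsGloballyGenerated (D.tw F a) from
    h' (n₀ - m).toNat m le_rfl (by omega)
  intro d
  induction d with
  | zero => intro a _ ha; exact hn₀ a (by simpa using ha)
  | succ d ih =>
    intro a ham ha
    refine isGloballyGenerated_of_forall_kills fun N q hq => ?_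
    have hk := D.kills_succ k (h.of_le k ham) q hq
    let e := D.twTwist F a 1
    have h0 : e.symm.hom ≫ (M2.tensorR (D.O 1)).map q = 0 :=
      eq_zero_of_kills (ih (a + 1) (by omega) (by omega))
        (by simpa using hk.of_iso e.symm (Iso.refl _))
    have h1 : (M2.tensorR (D.O 1)).map q = 0 := by rwa [← cancel_epi e.symm.hom, comp_zero]
    have e' := untwist_natural D.invIso q
    rw [h1, Functor.map_zero, zero_comp] at e'
    rwa [← cancel_epi (M2.untwist D.invIso (D.tw F a)).hom, comp_zero, eq_comm]

end TwistData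

end Groth.Agent.CMReg18
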