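import Groth.Agent.Lib.CMReg18.TwistBC2
import Groth.Agent.Lib.ProjSpace.BaseChange
import Groth.Agent.Lib.AmpleImm18.Local
import Groth.Agent.S2427
import Groth.Prelude.Def_KRR
import Groth.Prelude.Def_FGA

/-!
# The twists on projective space over a base
-/

set_option autoImplicit false
set_option linter.style.haveILetI false
set_option backward.isDefEq.respectTransparency false
set_option maxHeartbeats 1200000

universe u

open CategoryTheory CategoryTheory.Limits AlgebraicGeometry Scheme.Modules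

namespace Groth.Agent.CMReg18

open Groth.Agent

variable (n : ℕ)

/-- `O(1)`. -/
noncomputable abbrev O1 (S : Scheme.{u}) : (CohB1.ProjSpaceOver n S).Modules := _root_.Twist.twistOver n S 1

theorem nonempty_twistPow (S : Scheme.{u}) (m : ℕ) :
    Nonempty (_root_.Twist.twistOver n S (m : ℤ) ≅ CohB1.tensorPow (O1 n S) m) := by
  obtain ⟨e⟩ := S2427.nonempty_twistPowIso n (𝟙 (CohB1.ProjSpaceOver n S)) m
  exact ⟨((pullbackId _).app _).symm ≪≫ e ≪≫ M2.tensorPowIso ((pullbackId _).app (O1 n S)) m⟩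

theorem isRelAmple_O1 (S : Scheme.{u}) :
    RelAmple.IsRelAmple (CohB1.ProjSpaceOver.toBase n S) (O1 n S) := by
  have h : RelAmple.IsRelAmple (CohB1.ProjSpaceOver.toBase n S)
      ((Scheme.Modules.pullback (𝟙 _)).obj (O1 n S)) :=
    ⟨inferInstance, fun V => AmpleImm18.isAmple_restrict_twistOver _ (𝟙 _) (Category.id_comp _) V.2⟩
  exact (RA.isRelAmple_def _).2 fun V hV =>
    Amp.isAmple_of_iso ((Scheme.Modules.restrictFunctor _).mapIso ((pullbackId _).app (O1 n S))) ((RA.isRelAmple_def _).1 h V hV)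

theorem isInvertible_O1 (S : Scheme.{u}) : PicF.IsInvertible (O1 n S) :=
  RA.isInvertible_of_isRelAmple _ (isRelAmple_O1 n S)

theorem isPullback_projMap {T S : Scheme.{u}} (φ : T ⟶ S) :
    IsPullback (FGA.projMap n φ) (CohB1.ProjSpaceOver.toBase n T) (CohB1.ProjSpaceOver.toBase n S) φ :=
  ProjSpace.isPullback_overMap n φ

theorem nonempty_pullback_twistOver {T S : Scheme.{u}} (φ : T ⟶ S) (d : ℤ) :
    Nonempty ((Scheme.Modules.pullback (FGA.projMap n φ)).obj (_root_.Twist.twistOver n S d) ≅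
      _root_.Twist.twistOver n T d) :=
  ⟨(pullbackComp (FGA.projMap n φ) _).app _ ≪≫
    (pullbackCongr ((pullback.lift_fst _ _ _).trans (Category.comp_id _))).app _⟩

theorem isRelAmple_pullback_O1 {T S : Scheme.{u}} (φ : T ⟶ S) :
    RelAmple.IsRelAmple (CohB1.ProjSpaceOver.toBase n T)
      ((Scheme.Modules.pullback (FGA.projMap n φ)).obj (O1 n S)) :=
  RA.isRelAmple_of_isPullback (isPullback_projMap n φ) (isRelAmple_O1 n S)

/-- KRR's base change map is the base change map. -/
theorem bcMap_eq_bc0 {Y Y₁ : Scheme.{u}} (φ : Y₁ ⟶ Y)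
    (hsq : KRR.projSpaceMap n φ ≫ KRR.pr n Y = KRR.pr n Y₁ ≫ φ) (F : (KRR.PY n Y).Modules) :
    KRR.bcMap n φ hsq F = CohBC.bc0 (KRR.pr n Y) φ (KRR.pr n Y₁) (KRR.projSpaceMap n φ) hsq F := by
  apply ((pullbackPushforwardAdjunction (KRR.pr n Y₁)).homEquiv _ _).symm.injective
  rw [KRR.bcMap, Equiv.symm_apply_apply, Adjunction.homEquiv_counit]
  refine Eq.trans ?_ (bc0_counit (KRR.pr n Y) φ (KRR.pr n Y₁) (KRR.projSpaceMap n φ) hsq F).symm
  simp only [squareIso, Iso.trans_hom, NatTrans.comp_app, Category.assoc, Iso.symm_hom]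

end Groth.Agent.CMReg18
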