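import Groth.Agent.Lib.CMReg18.PullVan
import Groth.Agent.Lib.CMReg18.GG
import Groth.Agent.Lib.CMReg18.Proj
import Groth.Agent.Lib.CMReg18.ProjTw
import Groth.Agent.Lib.CohFound.RelVan
import Groth.Agent.Lib.CohFound.SecAffine
import Groth.Agent.Lib.CohFound.ProperModel
import Groth.Agent.Lib.VeryAmple11.RelCrit
import Groth.Agent.Lib.CBC10.Local
import Groth.Prelude.Def_KRR

/-!
# Castelnuovo–Mumford regular modules on projective space over a Noetherian base
-/

set_option autoImplicit false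
set_option linter.style.haveILetI false
set_option backward.isDefEq.respectTransparency false
set_option maxHeartbeats 1600000

universe u

open CategoryTheory CategoryTheory.Limits AlgebraicGeometry TopologicalSpace Opposite Scheme.Modules

namespace Groth.Agent.CMReg18

open Groth.Agent

variable (n : ℕ) {Y : Scheme.{u}}

/-- Vanishing of a higher direct image, tested on affine opens. -/
theorem isZero_rpushAb_iff_affine {X : Scheme.{u}} (f : X ⟶ Y) [QuasiCompact f] [QuasiSeparated f] {M : X.Modules}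
    (hM : Coh.IsQCoh M) (p : ℕ) :
    IsZero ((Coh.RpushAb f p).obj (Coh.toAb M)) ↔
      ∀ W : Y.Opens, IsAffineOpen W →
        Subsingleton (Coh.HH (f ⁻¹ᵁ W : X.Opens).toScheme (M.restrict (f ⁻¹ᵁ W).ι) p) := by
  refine ⟨fun h W hW => ?_, fun h => CohFound.isZero_rpushAb_of_cover f M hM (fun W : Y.affineOpens => W.1)
    (fun W => W.2) (fun y => ?_) p fun W => (CohFound.subsingleton_HH_iff _ _).1 (h W.1 W.2)⟩
  · obtain ⟨e⟩ := CohFound.nonempty_sections_rpushAb f hM p hW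
    change IsZero ((CohTop.Rpush (f.base : CohFound.sp X ⟶ CohFound.sp Y) p).obj ((CohFound.abF X).obj M)) at h
    haveI : Subsingleton (((CohTop.Rpush (f.base : CohFound.sp X ⟶ CohFound.sp Y) p).obj
        ((CohFound.abF X).obj M)).obj.obj (op W)) :=
      AddCommGrpCat.subsingleton_of_isZero (((sheafToPresheaf _ _ ⋙ (evaluation _ _).obj (op W))).map_isZero h)
    have hs : Subsingleton (CohFound.Hc ((CohFound.abF X).obj M) p (f ⁻¹ᵁ W)) :=
      e.symm.toEquiv.subsingleton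
    refine (CohFound.subsingleton_HH_iff _ _).2 ?_
    obtain ⟨e'⟩ := CohFound.nonempty_hc_abF_restrict (f ⁻¹ᵁ W).ι M p ⊤
    rw [Scheme.Hom.image_top_eq_opensRange, Scheme.Opens.opensRange_ι] at e'
    exact @Equiv.subsingleton _ _ e'.toEquiv hs
  · obtain ⟨W, hW, hy, -⟩ := exists_isAffineOpen_mem_and_subset (X := Y) (x := y) (U := ⊤) trivial
    exact ⟨⟨W, hW⟩, hy⟩

/-- The twisting data over an open of the base. -/
noncomputable abbrev wdata (W : Y.Opens) :
    TwistData (CohB1.ProjSpaceOver.toBase n Y ⁻¹ᵁ W : (CohB1.ProjSpaceOver n Y).Opens).toScheme :=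
  ((projData (ULift.{u} ℤ) n).pullback
    (pullback.fst (CohB1.ProjSpace.toSpec n (ULift.{u} ℤ)) (specULiftZIsTerminal.from Y))).pullback
      (CohB1.ProjSpaceOver.toBase n Y ⁻¹ᵁ W).ι

variable {n}

/-- Restriction of a twist. -/
noncomputable def wTwIso (F : (KRR.PY n Y).Modules) (d : ℤ) (W : Y.Opens) :
    (KRR.twF n Y d F).restrict (CohB1.ProjSpaceOver.toBase n Y ⁻¹ᵁ W).ι ≅
      (wdata n W).tw (F.restrict (CohB1.ProjSpaceOver.toBase n Y ⁻¹ᵁ W).ι) d :=
  M2.restrictTensorIso _ (_root_.Twist.twistOver n Y d) F ≪≫ M2.tensorComm _ _ ≪≫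
    M2.tensorIso (Iso.refl _) ((Scheme.Modules.restrictFunctorIsoPullback _).app (_root_.Twist.twistOver n Y d))

theorem isQCoh_twF {F : (KRR.PY n Y).Modules} (hF : Coh.IsQCoh F) (d : ℤ) : Coh.IsQCoh (KRR.twF n Y d F) :=
  (M2.isQCoh_tensor (Twist.isQCoh_twistOver n Y d) hF :
    Coh.IsQCoh (CohB1.tensorMod (_root_.Twist.twistOver n Y d) F))

theorem isRegSheaf_iff {F : (KRR.PY n Y).Modules} (hF : Coh.IsQCoh F) :
    KRR.IsRegSheaf n Y F ↔ ∀ W : Y.Opens, IsAffineOpen W →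
      (wdata n W).IsReg (F.restrict (CohB1.ProjSpaceOver.toBase n Y ⁻¹ᵁ W).ι) 0 := by
  constructor
  · intro h W hW i hi
    letI := CBC10.overU (CohB1.ProjSpaceOver.toBase n Y) hW
    exact van_iso Γ(Y, W) (wTwIso F (-(i : ℤ)) W ≪≫ (wdata n W).twIso _ (by omega))
      ((isZero_rpushAb_iff_affine _ (isQCoh_twF hF _) i).1 (h i hi) W hW)
  · intro h i hi
    refine (isZero_rpushAb_iff_affine _ (isQCoh_twF hF _) i).2 fun W hW => ?_
    letI := CBC10.overU (CohB1.ProjSpaceOver.toBase n Y) hW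
    exact van_iso Γ(Y, W) (wTwIso F (-(i : ℤ)) W ≪≫ (wdata n W).twIso _ (by omega)).symm (h W hW i hi)

/-- Twists of regular modules are regular; the higher direct images vanish. -/
theorem regSheaf_twist {F : (KRR.PY n Y).Modules} (hF : Coh.IsQCoh F) (h : KRR.IsRegSheaf n Y F) :
    (∀ m : ℕ, KRR.IsRegSheaf n Y (KRR.twF n Y (m : ℤ) F)) ∧
      ∀ i : ℕ, 1 ≤ i → IsZero ((Coh.RpushAb (KRR.pr n Y) i).obj (Coh.toAb F)) := by
  refine ⟨fun m => (isRegSheaf_iff (isQCoh_twF hF m)).2 fun W hW i hi => ?_, fun i hi =>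
    (isZero_rpushAb_iff_affine _ hF i).2 fun W hW => ?_⟩
  · letI := CBC10.overU (CohB1.ProjSpaceOver.toBase n Y) hW
    exact van_iso Γ(Y, W) ((M2.tensorIso (wTwIso F (m : ℤ) W) (Iso.refl _)) ≪≫ (wdata n W).twTwist _ _ _).symm
      (((isRegSheaf_iff hF).1 h W hW).van Γ(Y, W) hi (r := (m : ℤ) + (0 - (i : ℤ))) (by omega))
  · letI := CBC10.overU (CohB1.ProjSpaceOver.toBase n Y) hW
    exact van_iso Γ(Y, W) ((wdata n W).twZero _) (((isRegSheaf_iff hF).1 h W hW).van Γ(Y, W) hi (r := 0) (by omega))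

variable [IsNoetherian Y]

/-- Regular coherent modules are generated relative to the base. -/
theorem epi_counit_of_reg {F : (KRR.PY n Y).Modules} (hF : Coh.IsCoh F) (h : KRR.IsRegSheaf n Y F) :
    Epi ((Scheme.Modules.pullbackPushforwardAdjunction (KRR.pr n Y)).counit.app F) := by
  let π := CohB1.ProjSpaceOver.toBase n Y
  refine VA11.epi_counit_of_cover π F (fun W : Y.affineOpens => W.1) (fun x => ?_) fun W => ?_
  · obtain ⟨W, hW, hy, -⟩ := exists_isAffineOpen_mem_and_subset (X := Y) (x := π x) (U := ⊤) trivial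
    exact ⟨⟨W, hW⟩, hy⟩
  · letI := CBC10.overU π W.2
    let D := wdata n W.1
    let FW := F.restrict (π ⁻¹ᵁ W.1).ι
    have hFW : Coh.IsCoh FW := CBC10.isCoh_resU hF
    have hA : CohB1.IsAmple (D.O 1) :=
      Amp.isAmple_of_iso ((Scheme.Modules.restrictFunctorIsoPullback _).app _) ((isRelAmple_O1 n Y).2 W)
    obtain ⟨n₀, hn₀⟩ := D.exists_gg_large hA hFW
    obtain ⟨κ, p, hp⟩ := TwistData.IsReg.isGloballyGenerated D Γ(Y, W.1)
      ((isRegSheaf_iff hF.1).1 h W.1 W.2) ⟨n₀, hn₀⟩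
    exact ⟨κ, p ≫ (D.twZero FW).hom, epi_comp _ _⟩

end Groth.Agent.CMReg18
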