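import Groth.Agent.Lib.CMReg18.UnifVan
import Groth.Agent.Lib.CMReg18.RegPn
import Groth.Agent.Lib.CBC10.NearG

/-!
# From vanishing higher direct images to acyclic fibres, over any base
-/

set_option autoImplicit false
set_option linter.style.haveILetI false
set_option backward.isDefEq.respectTransparency false
set_option maxHeartbeats 1600000

universe u

open CategoryTheory CategoryTheory.Limits AlgebraicGeometry TopologicalSpace Opposite Scheme.Modules

namespace Groth.Agent.CMReg18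

open Groth.Agent Groth.Agent.CBC10

variable {X S : Scheme.{u}} {f : X ⟶ S} [IsProper f] [LocallyOfFinitePresentation f] {F : X.Modules}

/-- If the higher direct images of a flat finitely presented family vanish in all degrees at least `p`,
the cohomology of its fibres vanishes in degree `p`. -/
theorem subsingleton_fiberH_of_rpush (hF : CohB1.IsFP F) (hfl : FlatMod.IsFlatOver f F) {p : ℕ} (hp : 0 < p)
    (h : ∀ q : ℕ, p ≤ q → IsZero ((Coh.RpushAb f q).obj (Coh.toAb F))) (s : S) :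
    Subsingleton (CohIII.fiberH f F s p) := by
  haveI hq : Coh.IsQCoh F := M1.isFP_isQCoh hF
  obtain ⟨V, -, M, hs⟩ := CBC10.exists_model_at f F hF hfl (U := ⊤) (s := s) trivial
  have hV := M.isAffine
  letI := overU f hV
  haveI := isProper_overU f hV
  haveI : CompactSpace (f ⁻¹ᵁ V : X.Opens).toScheme :=
    QuasiCompact.compactSpace_of_compactSpace ((f ⁻¹ᵁ V : X.Opens).toScheme ↘ Spec (CommRingCat.of Γ(S, V)))
  haveI : ((f ⁻¹ᵁ V : X.Opens).toScheme).IsSeparated := ⟨by
    rw [← terminal.comp_from ((f ⁻¹ᵁ V : X.Opens).toScheme ↘ Spec (CommRingCat.of Γ(S, V)))]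
    infer_instance⟩
  obtain ⟨i₀, hi₀⟩ := M.bounded
  have hP := M.computes
  have hH : ∀ q : ℕ, p ≤ q → Subsingleton (FlatCxLib.H M.P (-(q : ℤ))) := fun q hpq => by
    obtain ⟨e⟩ := Computes.exists_unit (A := Γ(S, V)) hP (M1.isQCoh_restrict hq _) q
    haveI := (isZero_rpushAb_iff_affine f hq q).1 (h q hpq) V hV
    exact e.toEquiv.subsingleton
  have hcok : ∀ m : ℕ, i₀ - 1 + (m : ℤ) ≤ -(p : ℤ) - 1 →
      Module.Flat Γ(S, V) (FlatCxLib.Cok M.P (i₀ - 1 + (m : ℤ))) := fun m => by
    induction m with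
    | zero =>
      intro _
      haveI : Subsingleton (M.P.X (i₀ - 1 + ((0 : ℕ) : ℤ))) :=
        ModuleCat.subsingleton_of_isZero (hi₀ _ (by omega))
      haveI : Subsingleton (FlatCxLib.Cok M.P (i₀ - 1 + ((0 : ℕ) : ℤ))) := inferInstance
      infer_instance
    | succ m ih =>
      intro hm
      obtain ⟨q, hq'⟩ : ∃ q : ℕ, i₀ - 1 + ((m + 1 : ℕ) : ℤ) = -(q : ℤ) :=
        ⟨(-(i₀ - 1 + ((m + 1 : ℕ) : ℤ))).toNat, by omega⟩
      haveI := hH q (by omega)
      haveI : Module.Flat Γ(S, V) (FlatCxLib.H M.P (i₀ - 1 + ((m + 1 : ℕ) : ℤ))) := by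
        rw [hq']; infer_instance
      exact flat_cok_of_flat_H_step M.P (by push_cast; ring) inferInstance (ih (by omega))
  haveI : ∀ i, Module.Flat Γ(S, V) (M.P.X i) := fun i => inferInstance
  have hq' : Module.Flat Γ(S, V) (FlatCxLib.Cok M.P (-(p : ℤ) - 1)) := by
    by_cases hlow : -(p : ℤ) - 1 < i₀
    · haveI : Subsingleton (M.P.X (-(p : ℤ) - 1)) := ModuleCat.subsingleton_of_isZero (hi₀ _ hlow)
      haveI : Subsingleton (FlatCxLib.Cok M.P (-(p : ℤ) - 1)) := inferInstance
      infer_instance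
    · obtain ⟨m, hm⟩ : ∃ m : ℕ, i₀ - 1 + (m : ℤ) = -(p : ℤ) - 1 := ⟨(-(p : ℤ) - i₀).toNat, by omega⟩
      rw [← hm]
      exact hcok m (by omega)
  letI := algEval (U := V) hs
  haveI := hH p le_rfl
  exact (hP.subsingleton_fiberH_iff hs hq p).2 (FlatCxLib.theta_surjective M.P _
    ((FlatCxLib.preservesEpi_iff M.P (sub_add_cancel (-(p : ℤ)) 1)).2 hq') (S.residueField s)).subsingleton

end Groth.Agent.CMReg18
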