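import Groth.Agent.Lib.CMReg18.StrataUniv
import Groth.Agent.Lib.CMReg18.ProjTw
import Groth.Agent.Lib.CMReg18.Bounded
import Groth.Agent.Lib.CohFound.ProjRelVan
import Groth.Prelude.Def_FGA

/-!
# Hilbert polynomials of the fibres of a module on relative projective space
-/

set_option autoImplicit false
set_option linter.style.haveILetI false
set_option backward.isDefEq.respectTransparency false
set_option maxHeartbeats 1600000

universe u

open CategoryTheory CategoryTheory.Limits AlgebraicGeometry TopologicalSpace Scheme.Modules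

namespace Groth.Agent.CMReg18

open Groth.Agent

variable (n : ℕ) {S : Scheme.{u}}

/-- `P^n_R ⟶ P^n_S` over a point. -/
noncomputable def pjMap {R : Type u} [CommRing R] (g : Spec (CommRingCat.of R) ⟶ S) :
    CohB1.ProjSpace n R ⟶ CohB1.ProjSpaceOver n S :=
  (ProjSpace.overSpecIso n R).hom ≫ ProjSpace.overMap n g

theorem isPullback_pjMap {R : Type u} [CommRing R] (g : Spec (CommRingCat.of R) ⟶ S) :
    IsPullback (pjMap n g) (CohB1.ProjSpace.toSpec n R) (CohB1.ProjSpaceOver.toBase n S) g := by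
  refine IsPullback.of_iso (ProjSpace.isPullback_overMap n g) (ProjSpace.overSpecIso n R).symm (Iso.refl _)
    (Iso.refl _) (Iso.refl _) ?_ ?_ (by simp) (by simp)
  · simp [pjMap]
  · simp only [Iso.refl_hom, Category.comp_id, Iso.symm_hom]
    rw [← ProjSpace.overSpecIso_hom_toBase, Iso.inv_hom_id_assoc]

theorem nonempty_pjMap_twistOver {R : Type u} [CommRing R] (g : Spec (CommRingCat.of R) ⟶ S) (d : ℤ) :
    Nonempty ((Scheme.Modules.pullback (pjMap n g)).obj (_root_.Twist.twistOver n S d) ≅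
      _root_.Twist.twistProjSpace n R d) := by
  obtain ⟨e'⟩ := CohFound.nonempty_pullback_twistProjSpace n (ProjSpace.fromZ R) d
  have hfst : pjMap n g ≫ pullback.fst (CohB1.ProjSpace.toSpec n (ULift.{u} ℤ)) (specULiftZIsTerminal.from S) =
      ProjSpace.map n (ProjSpace.fromZ R) := by
    rw [← ProjSpace.overSpecIso_hom_fst n R]
    exact (Category.assoc _ _ _).trans (congrArg _ ((pullback.lift_fst _ _ _).trans (Category.comp_id _)))
  exact ⟨(pullbackComp (pjMap n g) _).app _ ≪≫ (pullbackCongr hfst).app _ ≪≫ e'⟩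

variable [IsNoetherian S] {F : (CohB1.ProjSpaceOver n S).Modules} {N : ℕ}

/-- The Hilbert polynomial of a fibre. -/
theorem exists_hilbPoly (hF : Coh.IsCoh F)
    (hN : ∀ m, N ≤ m → GoodTwist (CohB1.ProjSpaceOver.toBase n S) F (O1 n S) m) (s : (Over.mk (𝟙 S)).left) :
    ∃ P : Polynomial ℚ,
      (∀ m : ℤ,
        (FGA.eulerCharLE ((Over.mk (𝟙 S)).left.residueField s)
          (FGA.fibreAt (CohB1.ProjSpaceOver.toBase n S) (Over.mk (𝟙 S)) s).left
          (CohB1.tensorMod
            (FGA.restrFibre (CohB1.ProjSpaceOver.toBase n S) (Over.mk (𝟙 S)) s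
              (FGA.ET (CohB1.ProjSpaceOver.toBase n S) F (Over.mk (𝟙 S))))
            (FGA.restrFibre (CohB1.ProjSpaceOver.toBase n S) (Over.mk (𝟙 S)) s
              (FGA.ET (CohB1.ProjSpaceOver.toBase n S) (_root_.Twist.twistOver n S m) (Over.mk (𝟙 S))))) n : ℚ) =
          P.eval (m : ℚ)) ∧
      ∀ k : ℕ, (hilbRk (CohB1.ProjSpaceOver.toBase n S) F (O1 n S) N s k : ℚ) =
        P.eval (((N + k : ℕ) : ℤ) : ℚ) := by
  change S at s
  let π := CohB1.ProjSpaceOver.toBase n S
  let κ : Type u := S.residueField s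
  let fT := pullback.snd π (Over.mk (𝟙 S)).hom
  let Z := (FGA.fibreAt π (Over.mk (𝟙 S)) s).left
  let zκ : Z ⟶ Spec (S.residueField s) := pullback.snd fT (S.fromSpecResidueField s)
  let g := pullback.fst fT (S.fromSpecResidueField s) ≫ pullback.fst π (Over.mk (𝟙 S)).hom
  have hZ : IsPullback g zκ π (S.fromSpecResidueField s) := by
    have h := (IsPullback.of_hasPullback fT (S.fromSpecResidueField s)).paste_horiz
      (IsPullback.of_hasPullback π (Over.mk (𝟙 S)).hom)
    have e : S.fromSpecResidueField s ≫ (Over.mk (𝟙 S)).hom = S.fromSpecResidueField s := Category.comp_id _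
    rw [e] at h
    exact h
  let hP := isPullback_pjMap n (R := κ) (S.fromSpecResidueField s)
  let e := hZ.isoIsPullback _ _ hP
  have he1 : e.hom ≫ pjMap n (R := κ) (S.fromSpecResidueField s) = g := hZ.isoIsPullback_hom_fst _ _ hP
  have he2 : e.hom ≫ CohB1.ProjSpace.toSpec n κ = zκ := hZ.isoIsPullback_hom_snd _ _ hP
  letI : Z.Over (Spec (CommRingCat.of κ)) := ⟨zκ⟩
  haveI : IsProper π := inferInstance
  haveI : IsProper (Z ↘ Spec (CommRingCat.of κ)) := MorphismProperty.of_isPullback (P := @IsProper) hZ inferInstance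
  haveI : IsNoetherian Z := CohFound.isNoetherian_of_isProper (Z ↘ Spec (CommRingCat.of κ))
  haveI : IsLocallyNoetherian (CohB1.ProjSpaceOver n S) := LocallyOfFiniteType.isLocallyNoetherian π
  haveI : IsClosedImmersion e.hom := inferInstance
  let M := (Scheme.Modules.pullback g).obj F
  have hM : Coh.IsCoh M := isCoh_pullback_coh g hF
  let D := (projData κ n).pullback e.hom
  have htw : ∀ m : ℤ, Nonempty ((Scheme.Modules.pullback g).obj (_root_.Twist.twistOver n S m) ≅ D.O m) := fun m => by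
    obtain ⟨i⟩ := nonempty_pjMap_twistOver n (R := κ) (S.fromSpecResidueField s) m
    exact ⟨(pullbackCongr he1.symm).app _ ≪≫ ((pullbackComp e.hom _).app _).symm ≪≫
      (Scheme.Modules.pullback e.hom).mapIso i⟩
  obtain ⟨a, ha⟩ := hasBinom (CohFound.isCoh_push_closedImm e.hom hM)
  have heul : ∀ m : ℤ, Curv2.euler κ Z (D.tw M m) = ∑ j, a j * Ring.choose m (j : ℕ) := fun m =>
    (euler_push_tw (X := Z) e.hom he2 hM.1 m).symm.trans (ha m)
  refine ⟨binomPoly a, fun m => ?_, fun k => ?_⟩
  · rw [binomPoly_eval, ← heul m]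
    refine congrArg (fun z : ℤ => (z : ℚ)) ?_
    obtain ⟨i⟩ := htw m
    let j : CohB1.tensorMod
        (FGA.restrFibre π (Over.mk (𝟙 S)) s (FGA.ET π F (Over.mk (𝟙 S))))
        (FGA.restrFibre π (Over.mk (𝟙 S)) s (FGA.ET π (_root_.Twist.twistOver n S m) (Over.mk (𝟙 S)))) ≅
          D.tw M m :=
      M2.tensorIso ((pullbackComp _ _).app F) ((pullbackComp _ _).app _ ≪≫ i)
    refine Eq.trans ?_ (finsum_eq_finsetSum_of_support_subset (s := Finset.range (n + 1)) _ fun q hq => ?_).symm
    · exact Finset.sum_congr rfl fun q _ => by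
        rw [← (CBC10.hmapLinEquiv κ j q).finrank_eq]
        rfl
    · rw [Finset.coe_range, Set.mem_Iio]
      by_contra hlt
      haveI := bdd_sub (X := Z) e.hom he2 hM m (i := q) (by omega)
      haveI : Subsingleton (Coh.HH Z (D.tw M m) q) := this
      simp [Module.finrank_zero_of_subsingleton] at hq
  · rw [binomPoly_eval, ← heul]
    show ((hilbRk π F (O1 n S) N s k : ℤ) : ℚ) = _
    rw [← euler_eq_hilbRk hN s k]
    refine congrArg (fun z : ℤ => (z : ℚ)) ?_
    obtain ⟨i⟩ := htw ((N + k : ℕ) : ℤ)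
    obtain ⟨i'⟩ := nonempty_twistPow n S (N + k)
    letI : (π.fiber s).Over (Spec (CommRingCat.of κ)) := ⟨π.fiberToSpecResidueField s⟩
    haveI : IsProper (π.fiber s ↘ Spec (CommRingCat.of κ)) :=
      inferInstanceAs (IsProper (pullback.snd π (S.fromSpecResidueField s)))
    haveI : IsNoetherian (π.fiber s) := CohFound.isNoetherian_of_isProper (π.fiber s ↘ Spec (CommRingCat.of κ))
    let G := CohB1.tensorMod F (CohB1.tensorPow (O1 n S) (N + k))
    let g₀ : Z ⟶ π.fiber s := pullback.lift g zκ hZ.w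
    have hg₀ : IsPullback g₀ zκ (π.fiber s ↘ Spec (CommRingCat.of κ)) (𝟙 _) := by
      refine IsPullback.of_right (h₁₂ := π.fiberι s) ?_ (by
        rw [Category.comp_id]; exact pullback.lift_snd _ _ _) (IsPullback.of_hasPullback π (S.fromSpecResidueField s))
      have e1 : g₀ ≫ π.fiberι s = g := pullback.lift_fst _ _ _
      rw [e1, Category.id_comp]
      exact hZ
    have hGs : Coh.IsCoh ((Scheme.Modules.pullback (π.fiberι s)).obj G) :=
      isCoh_pullback_coh _ (isCoh_twist hF (isInvertible_O1 n S) _)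
    refine ((euler_fieldExt (κ := κ) (Ω := κ) (𝟙 _) g₀ hg₀ hGs).symm).trans ?_
    exact CurveCoh17.euler_iso (k := κ) ((pullbackComp g₀ (π.fiberι s)).app G ≪≫
      (pullbackCongr (pullback.lift_fst _ _ _)).app G ≪≫ M2.pullTensorIso g F _ ≪≫
        M2.tensorIso (Iso.refl M) ((Scheme.Modules.pullback g).mapIso i'.symm ≪≫ i))

end Groth.Agent.CMReg18
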