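import Groth.Agent.Lib.CMReg18.FlatCrit
import Groth.Agent.Lib.CMReg18.FibHilb
import Groth.Agent.Lib.RankStratum13.Basic

/-!
# The flattening stratification of a proper flat ambient family
-/

set_option autoImplicit false
set_option linter.style.haveILetI false
set_option backward.isDefEq.respectTransparency false
set_option maxHeartbeats 1600000

universe u

open CategoryTheory CategoryTheory.Limits AlgebraicGeometry TopologicalSpace Scheme.Modules

namespace Groth.Agent.CMReg18

open Groth.Agent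

variable {X S X' T : Scheme.{u}} (f : X ⟶ S) (F L : X.Modules) (N : ℕ)

/-- The `k`-th twist past `N`. -/
noncomputable abbrev twG (k : ℕ) : X.Modules := CohB1.tensorMod F (CohB1.tensorPow L (N + k))

/-- The dimensions of the sections on the fibres past `N`. -/
noncomputable def hilbRk (s : S) : ℕ → ℕ := fun k => CohIII.fiberRank f (twG F L N k) 0 s

/-- The direct image of the `k`-th twist. -/
noncomputable abbrev pushG (k : ℕ) : S.Modules := (Scheme.Modules.pushforward f).obj (twG F L N k)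

variable {f F L N}

/-- The Euler characteristic of a fibre without higher cohomology. -/
theorem euler_eq_hilbRk (hN : ∀ n, N ≤ n → GoodTwist f F L n) (s : S) (k : ℕ) :
    fibChi f F 1 (fun _ => L) s (fun _ => N + k) = (hilbRk f F L N s k : ℤ) := by
  letI : (f.fiber s).Over (Spec (CommRingCat.of (S.residueField s))) := ⟨f.fiberToSpecResidueField s⟩
  show Curv2.euler (S.residueField s) (f.fiber s) _ = _
  rw [Curv2.euler, finsum_eq_single _ 0 fun p hp => ?_, pow_zero, one_mul]
  · rfl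
  · haveI : Subsingleton (Coh.HH (f.fiber s)
        ((Scheme.Modules.pullback (f.fiberι s)).obj (Curv2.tensorPows F 1 (fun _ => L) fun _ => N + k)) p) :=
      (hN (N + k) (Nat.le_add_right N k) s).1 p (Nat.one_le_iff_ne_zero.2 hp)
    rw [Module.finrank_zero_of_subsingleton, Nat.cast_zero, mul_zero]

theorem finite_range_hilbRk [IsProper f] [IsNoetherian S] (hF : Coh.IsCoh F) (hL : RelAmple.IsRelAmple f L)
    (hN : ∀ n, N ≤ n → GoodTwist f F L n) : (Set.range (hilbRk f F L N)).Finite := by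
  haveI : IsLocallyNoetherian X := LocallyOfFiniteType.isLocallyNoetherian f
  refine ((finite_range_fibChi f (M1.isFP_of_isCoh hF) 1 (fun _ => L)
    fun _ => RA.isInvertible_of_isRelAmple f hL).image fun c k => (c fun _ => N + k).toNat).subset ?_
  rintro _ ⟨s, rfl⟩
  refine ⟨_, ⟨s, rfl⟩, funext fun k => ?_⟩
  show (fibChi f F 1 (fun _ => L) s fun _ => N + k).toNat = _
  rw [euler_eq_hilbRk hN s k, Int.toNat_natCast]

/-- Finitely many values separate finitely many functions. -/
theorem exists_separating {β : Type*} {Φ : Set (ℕ → β)} (hΦ : Φ.Finite) :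
    ∃ K : Finset ℕ, ∀ a ∈ Φ, ∀ b ∈ Φ, (∀ k ∈ K, a k = b k) → a = b := by
  classical
  refine ⟨(hΦ.toFinset ×ˢ hΦ.toFinset).biUnion fun p =>
    if h : ∃ k, p.1 k ≠ p.2 k then {h.choose} else ∅, fun a ha b hb hK => ?_⟩
  by_contra hne
  have h : ∃ k, a k ≠ b k := by
    by_contra h'
    push Not at h'
    exact hne (funext h')
  refine h.choose_spec (hK _ (Finset.mem_biUnion.2 ⟨(a, b), ?_, ?_⟩))
  · exact Finset.mem_product.2 ⟨hΦ.mem_toFinset.2 ha, hΦ.mem_toFinset.2 hb⟩
  · rw [dif_pos h]; exact Finset.mem_singleton_self _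

variable [IsProper f] [IsNoetherian S] {φ : T ⟶ S} {f' : X' ⟶ T} {g' : X' ⟶ X}

/-- Any local rank of the direct image on a flat base change is the dimension on the fibre. -/
theorem rank_unique (hF : Coh.IsCoh F) (hL : RelAmple.IsRelAmple f L) (hN : ∀ n, N ≤ n → GoodTwist f F L n)
    [IsLocallyNoetherian T] (h : IsPullback g' f' f φ)
    (hfl : FlatMod.IsFlatOver f' ((Scheme.Modules.pullback g').obj F)) {k : ℕ} {U : T.Opens} {t : T} (ht : t ∈ U)
    {m : ℕ} (e : ((Scheme.Modules.pullback φ).obj (pushG f F L N k)).restrict U.ι ≅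
      FlatMod.freeMod (U : Scheme.{u}) m) : m = hilbRk f F L N (φ t) k := by
  haveI : IsLocallyNoetherian X := LocallyOfFiniteType.isLocallyNoetherian f
  obtain ⟨hiso, -, hpt⟩ := of_flat hF hL (hN _ (Nat.le_add_right N k)) h hfl
  haveI : IsProper f' := MorphismProperty.of_isPullback (P := @IsProper) h inferInstance
  haveI := hiso
  haveI := hpt t
  exact (rank_eq_fiberRank _ ht ((Scheme.Modules.restrictFunctor U.ι).mapIso
    (asIso (CohBC.bc0 f φ f' g' h.w (twG F L N k))).symm ≪≫ e)).symm.trans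
      (finrank_fiberH_baseChange h (M1.isFP_of_isCoh (isCoh_twist hF (RA.isInvertible_of_isRelAmple f hL) _)) t 0)

/-- Locally on a flat base change the dimensions are constant. -/
theorem isOpen_hilbRk_eq (hF : Coh.IsCoh F) (hL : RelAmple.IsRelAmple f L) (hN : ∀ n, N ≤ n → GoodTwist f F L n)
    [IsLocallyNoetherian T] (h : IsPullback g' f' f φ)
    (hfl : FlatMod.IsFlatOver f' ((Scheme.Modules.pullback g').obj F)) (r : ℕ → ℕ) :
    IsOpen {t : T | hilbRk f F L N (φ t) = r} := by
  obtain ⟨K, hK⟩ := exists_separating (finite_range_hilbRk hF hL hN)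
  refine isOpen_iff_forall_mem_open.2 fun t ht => ?_
  choose U htU e using fun k : K => rankOn_of_flat hF hL (hN _ (Nat.le_add_right N k.1)) h hfl t
  refine ⟨⋂ k, (U k : Set T), fun u hu => ?_, isOpen_iInter_of_finite fun k => (U k).isOpen,
    Set.mem_iInter.2 htU⟩
  refine (hK _ ⟨φ u, rfl⟩ _ ⟨φ t, rfl⟩ fun k hk => ?_).trans ht
  exact (rank_unique hF hL hN h hfl (Set.mem_iInter.1 hu ⟨k, hk⟩) (e ⟨k, hk⟩).some).symm

/-- Locally closed rank loci, for finitely many modules at once. -/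
theorem exists_rankLocus (hF : Coh.IsCoh F) (hL : RelAmple.IsRelAmple f L) (r : ℕ → ℕ) (K : Finset ℕ) :
    ∃ (Z : Scheme.{u}) (e : Z ⟶ S), IsImmersion e ∧ ∀ (T : Scheme.{u}) (φ : T ⟶ S),
      (∃ g, g ≫ e = φ) ↔
        ∀ k ∈ K, FlatMod.IsFinLocFreeOfRank (r k) ((Scheme.Modules.pullback φ).obj (pushG f F L N k)) := by
  classical
  induction K using Finset.induction_on with
  | empty => exact ⟨S, 𝟙 S, inferInstance, fun T φ => ⟨fun _ k hk => absurd hk (Finset.notMem_empty k),
      fun _ => ⟨φ, Category.comp_id φ⟩⟩⟩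
  | @insert a K ha ih =>
    obtain ⟨Z, e, he, hZ⟩ := ih
    have hc := isCoh_push f (isCoh_twist hF (RA.isInvertible_of_isRelAmple f hL) (N + a))
    obtain ⟨Z', e', he', hZ'⟩ := RankStratum13.exists_immersion
      (M1.isQCoh_pullback e hc.1) (M1.isFT_pullback e hc.2) (r a)
    refine ⟨Z', e' ≫ e, inferInstance, fun T φ => ⟨?_, fun hall => ?_⟩⟩
    · rintro ⟨g, rfl⟩ k hk
      rcases Finset.mem_insert.1 hk with rfl | hk
      · have := (hZ' T (g ≫ e')).1 ⟨g, rfl⟩
        have hg : (g ≫ e') ≫ e = g ≫ e' ≫ e := Category.assoc _ _ _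
        exact M2.isFinLocFreeOfRank_of_iso
          ((pullbackComp (g ≫ e') e).app _ ≪≫ (pullbackCongr hg).app _) this
      · exact (hZ T _).1 ⟨g ≫ e', Category.assoc _ _ _⟩ k hk
    · obtain ⟨g, hg⟩ := (hZ T φ).2 fun k hk => hall k (Finset.mem_insert_of_mem hk)
      subst hg
      obtain ⟨g₁, hg₁⟩ := (hZ' T g).2
        (M2.isFinLocFreeOfRank_of_iso ((pullbackComp g e).app _).symm (hall a (Finset.mem_insert_self a K)))
      exact ⟨g₁, by rw [← Category.assoc, hg₁]⟩

/-- The fibre over a point, as a flat base change. -/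
theorem isFinLocFreeOfRank_point [Flat f] (hF : Coh.IsCoh F) (hL : RelAmple.IsRelAmple f L)
    (hN : ∀ n, N ≤ n → GoodTwist f F L n) {z : T} (k : ℕ) :
    FlatMod.IsFinLocFreeOfRank (hilbRk f F L N (φ z) k)
      ((Scheme.Modules.pullback (T.fromSpecResidueField z ≫ φ)).obj (pushG f F L N k)) := fun p => by
  let τ := T.fromSpecResidueField z ≫ φ
  obtain ⟨U, hp, ⟨e⟩⟩ := rankOn_of_flat hF hL (hN _ (Nat.le_add_right N k)) (IsPullback.of_hasPullback f τ)
    (NumPoly18.isFlatOver_field _ _) p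
  have hτ : τ p = φ z := congrArg φ (T.fromSpecResidueField_apply z p)
  rw [hτ] at e
  exact ⟨U, hp, ⟨e⟩⟩

/-- The stratum of a function. -/
theorem exists_stratum_scheme [Flat f] (hF : Coh.IsCoh F) (hL : RelAmple.IsRelAmple f L)
    (hN : ∀ n, N ≤ n → GoodTwist f F L n) (r : ℕ → ℕ) (hr : r ∈ Set.range (hilbRk f F L N)) :
    ∃ (Z : Scheme.{u}) (e : Z ⟶ S), IsImmersion e ∧
      (∀ s, s ∈ Set.range e ↔ hilbRk f F L N s = r) ∧
      ∀ (T : Scheme.{u}) (φ : T ⟶ S), (∃ g, g ≫ e = φ) ↔
        ∀ k, FlatMod.IsFinLocFreeOfRank (r k) ((Scheme.Modules.pullback φ).obj (pushG f F L N k)) := by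
  classical
  obtain ⟨K, hK⟩ := exists_separating (finite_range_hilbRk hF hL hN)
  obtain ⟨Z₀, e₀, he₀, hZ₀⟩ := exists_rankLocus (N := N) hF hL r K
  have hpt : ∀ z : Z₀, hilbRk f F L N (e₀ z) = r := fun z => hK _ ⟨_, rfl⟩ _ hr fun k hk => by
    have h0 := (hZ₀ _ (Z₀.fromSpecResidueField z ≫ e₀)).1 ⟨_, rfl⟩ k hk (IsLocalRing.closedPoint _)
    obtain ⟨U, hp, ⟨e⟩⟩ := h0
    have := rank_unique hF hL hN (IsPullback.of_hasPullback f (Z₀.fromSpecResidueField z ≫ e₀))
      (NumPoly18.isFlatOver_field _ _) hp e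
    rw [this]
    exact congrArg (fun s => hilbRk f F L N s k) (congrArg e₀ (Z₀.fromSpecResidueField_apply z _)).symm
  have hk : ∀ k, ∃ (W : Scheme.{u}) (i : W ⟶ Z₀), IsClosedImmersion i ∧ Function.Surjective i ∧
      ∀ (T : Scheme.{u}) (ψ : T ⟶ Z₀), (∃ g, g ≫ i = ψ) ↔
        FlatMod.IsFinLocFreeOfRank (r k) ((Scheme.Modules.pullback ψ).obj
          ((Scheme.Modules.pullback e₀).obj (pushG f F L N k))) := fun k => by
    have hc := isCoh_push f (isCoh_twist hF (RA.isInvertible_of_isRelAmple f hL) (N + k))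
    obtain ⟨W, i, hi, hW⟩ := RankStratum13.exists_immersion
      (M1.isQCoh_pullback e₀ hc.1) (M1.isFT_pullback e₀ hc.2) (r k)
    have hsurj : Function.Surjective i := fun z => by
      have := isFinLocFreeOfRank_point (φ := e₀) hF hL hN (z := z) k
      rw [hpt z] at this
      obtain ⟨g, hg⟩ := (hW _ (Z₀.fromSpecResidueField z)).2
        (M2.isFinLocFreeOfRank_of_iso ((pullbackComp _ e₀).app _).symm this)
      exact ⟨g (IsLocalRing.closedPoint _), by
        rw [← Scheme.Hom.comp_apply, hg]; exact Z₀.fromSpecResidueField_apply z _⟩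
    haveI : IsClosedImmersion i := .of_isPreimmersion i (by rw [hsurj.range_eq]; exact isClosed_univ)
    exact ⟨W, i, inferInstance, hsurj, hW⟩
  choose W i hi hsurj hW using hk
  let J : Z₀.IdealSheafData := ⨆ k, (i k).ker
  haveI := he₀
  have huniv : ∀ (T : Scheme.{u}) (φ : T ⟶ S), (∃ g, g ≫ J.subschemeι ≫ e₀ = φ) ↔
      ∀ k, FlatMod.IsFinLocFreeOfRank (r k) ((Scheme.Modules.pullback φ).obj (pushG f F L N k)) := fun T φ => by
    constructor
    · rintro ⟨g, rfl⟩ k
      haveI := hi k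
      let ψ := g ≫ J.subschemeι
      have hle : (i k).ker ≤ ψ.ker := by
        refine le_trans (le_iSup (fun k => (i k).ker) k) ?_
        calc J = J.subschemeι.ker := (Scheme.IdealSheafData.ker_subschemeι _).symm
          _ ≤ _ := Scheme.Hom.le_ker_comp _ _
      exact M2.isFinLocFreeOfRank_of_iso ((pullbackComp ψ e₀).app _ ≪≫
          (pullbackCongr (Category.assoc g J.subschemeι e₀)).app _)
        ((hW k T ψ).1 ⟨IsClosedImmersion.lift (i k) ψ hle, IsClosedImmersion.lift_fac _ _ _⟩)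
    · intro hall
      obtain ⟨g, hg⟩ := (hZ₀ T φ).2 fun k _ => hall k
      have hle : J.subschemeι.ker ≤ g.ker := by
        rw [Scheme.IdealSheafData.ker_subschemeι]
        refine iSup_le fun k => ?_
        obtain ⟨g₁, hg₁⟩ := (hW k T g).2 (M2.isFinLocFreeOfRank_of_iso
          (((pullbackComp g e₀).app _ ≪≫ (pullbackCongr hg).app _).symm) (hall k))
        rw [← hg₁]
        exact Scheme.Hom.le_ker_comp _ _
      exact ⟨IsClosedImmersion.lift J.subschemeι g hle, by rw [IsClosedImmersion.lift_fac_assoc, hg]⟩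
  refine ⟨J.subscheme, J.subschemeι ≫ e₀, inferInstance, fun s => ⟨?_, fun hs => ?_⟩, huniv⟩
  · rintro ⟨z, rfl⟩
    exact hpt (J.subschemeι z)
  · obtain ⟨g, hg⟩ := (huniv _ (S.fromSpecResidueField s)).2 fun k => by
      have := isFinLocFreeOfRank_point (φ := 𝟙 S) hF hL hN (z := s) k
      rw [Category.comp_id] at this
      rw [← hs]
      exact this
    exact ⟨g (IsLocalRing.closedPoint _), by
      rw [← Scheme.Hom.comp_apply, hg]; exact S.fromSpecResidueField_apply s _⟩

end Groth.Agent.CMReg18
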