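import Groth.Agent.Lib.CMReg18.Strata

/-!
# The universal property of the flattening stratification
-/

set_option autoImplicit false
set_option linter.style.haveILetI false
set_option backward.isDefEq.respectTransparency false
set_option maxHeartbeats 1600000

universe u

open CategoryTheory CategoryTheory.Limits AlgebraicGeometry TopologicalSpace Scheme.Modules

namespace Groth.Agent.CMReg18

open Groth.Agent

variable {X S : Scheme.{u}} {f : X ⟶ S} [IsProper f] [IsNoetherian S] {F L : X.Modules} {N : ℕ}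

/-- The fibre dimensions are upper semicontinuous. -/
theorem isClosed_lt_hilbRk [Flat f] (hF : Coh.IsCoh F) (hL : RelAmple.IsRelAmple f L)
    (hN : ∀ n, N ≤ n → GoodTwist f F L n) (k m : ℕ) : IsClosed {s : S | m < hilbRk f F L N s k} := by
  have hc := isCoh_push f (isCoh_twist hF (RA.isInvertible_of_isRelAmple f hL) (N + k))
  let K := Fitt.sheafIdeal (pushG f F L N k) m
  have key : ∀ s : S, m < hilbRk f F L N s k ↔ s ∈ K.support := fun s => by
    let τ := S.fromSpecResidueField s
    have hr := isFinLocFreeOfRank_point (φ := 𝟙 S) hF hL hN (z := s) k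
    rw [Category.comp_id] at hr
    have h' := RankStratum13.eq_of_freeMod (M1.isQCoh_pullback τ hc.1) (M1.isFT_pullback τ hc.2) _ hr m
    have hcomap := Fitting26.comap_eq τ hc.1 hc.2 m
    have hsupp : s ∈ K.support ↔ IsLocalRing.closedPoint _ ∈ (K.comap τ).support := by
      rw [Scheme.IdealSheafData.support_comap]
      show s ∈ (K.support : Set S) ↔ τ (IsLocalRing.closedPoint _) ∈ (K.support : Set S)
      rw [S.fromSpecResidueField_apply]
    rw [hsupp, hcomap]
    constructor
    · intro hlt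
      rw [h'.1 hlt, Scheme.IdealSheafData.support_bot]
      trivial
    · intro hmem
      by_contra hle
      rw [h'.2 (not_lt.1 hle), Scheme.IdealSheafData.support_top] at hmem
      exact hmem
  convert K.support.isClosed using 1
  exact Set.ext key

/-- The flattening stratification by the dimensions of the sections of high twists. -/
theorem exists_flattening [Flat f] (hF : Coh.IsCoh F) (hL : RelAmple.IsRelAmple f L)
    (hN : ∀ n, N ≤ n → GoodTwist f F L n) {ι : Type} [Finite ι] (c : ι → (ℕ → ℕ)) (hc : Function.Injective c)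
    (hrange : Set.range c = Set.range (hilbRk f F L N)) :
    ∃ (St : ι → Scheme.{u}) (e : ∀ i, St i ⟶ S), (∀ i, IsImmersion (e i)) ∧
      (∀ i s, s ∈ Set.range (e i) ↔ hilbRk f F L N s = c i) ∧
      ∀ ⦃X' T : Scheme.{u}⦄ [IsLocallyNoetherian T] (φ : T ⟶ S) (f' : X' ⟶ T) (g' : X' ⟶ X),
        IsPullback g' f' f φ → (FlatMod.IsFlatOver f' ((Scheme.Modules.pullback g').obj F) ↔
          ∃ g : T ⟶ ∐ St, g ≫ Sigma.desc e = φ) := by
  classical
  haveI : IsLocallyNoetherian X := LocallyOfFiniteType.isLocallyNoetherian f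
  choose St e he hrg huniv using fun i => exists_stratum_scheme hF hL hN (c i) (hrange ▸ ⟨i, rfl⟩)
  refine ⟨St, e, he, hrg, fun X' T _ φ f' g' h => ⟨fun hfl => ?_, ?_⟩⟩
  · let A : ι → T.Opens := fun i => ⟨{t | hilbRk f F L N (φ t) = c i}, isOpen_hilbRk_eq hF hL hN h hfl _⟩
    have hA : ∀ i, ∃ g : (A i : Scheme.{u}) ⟶ St i, g ≫ e i = (A i).ι ≫ φ := fun i =>
      (huniv i _ _).2 fun k u => by
        obtain ⟨U, hU, ⟨θ⟩⟩ := rankOn_of_flat hF hL (hN _ (Nat.le_add_right N k))
          ((IsPullback.of_hasPullback f' (A i).ι).paste_horiz h)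
          (fun x => SchDom.isFlatOverAt_of_iso _ ((pullbackComp _ g').app F) x
            (haveI : Coh.IsQCoh ((Scheme.Modules.pullback g').obj F) := M1.isQCoh_pullback g' hF.1;
              FlatH4.isFlatOverAt_baseChange
              (IsPullback.of_hasPullback f' (A i).ι) ((Scheme.Modules.pullback g').obj F) x (hfl _))) u
        rw [show CohIII.fiberRank f (CohB1.tensorMod F (CohB1.tensorPow L (N + k))) 0 (((A i).ι ≫ φ) u) =
          c i k from congrFun (show hilbRk f F L N (φ u.1) = c i from u.2) k] at θ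
        exact ⟨U, hU, ⟨θ⟩⟩
    choose g hg using hA
    obtain ⟨hcol⟩ := nonempty_isColimit_cofanMk_of (fun i => (A i).ι) (eq_top_iff.2 fun t _ => by
        obtain ⟨i, hi⟩ : hilbRk f F L N (φ t) ∈ Set.range c := hrange ▸ ⟨φ t, rfl⟩
        exact Opens.mem_iSup.2 ⟨i, ⟨⟨t, hi.symm⟩, rfl⟩⟩) (fun i j hij => by
        rw [Function.onFun, disjoint_iff]
        refine eq_bot_iff.2 fun t ht => ?_
        obtain ⟨⟨u, hu⟩, ⟨v, hv⟩⟩ := ht
        subst hu
        exact absurd (hc ((u.2).symm.trans ((congrArg (fun t => hilbRk f F L N (φ t)) hv.symm).trans v.2))) hij)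
    refine ⟨Cofan.IsColimit.desc hcol fun i => g i ≫ Sigma.ι St i, Cofan.IsColimit.hom_ext hcol _ _ fun i => ?_⟩
    rw [← Category.assoc, Cofan.IsColimit.fac, Category.assoc, Sigma.ι_desc, hg]
    rfl
  · rintro ⟨g, rfl⟩ x
    haveI : IsProper f' := MorphismProperty.of_isPullback (P := @IsProper) h inferInstance
    haveI : IsLocallyNoetherian X' := LocallyOfFiniteType.isLocallyNoetherian f'
    obtain ⟨i, y, hy⟩ := (sigmaOpenCover St).exists_eq (g (f' x))
    let A : T.Opens := g ⁻¹ᵁ (Sigma.ι St i).opensRange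
    have hxA : f' x ∈ A := ⟨y, hy⟩
    let gA : (A : Scheme.{u}) ⟶ St i := IsOpenImmersion.lift (Sigma.ι St i) (A.ι ≫ g) (by
      rintro _ ⟨u, rfl⟩; exact u.2)
    have hgA : gA ≫ e i = A.ι ≫ g ≫ Sigma.desc e := by
      rw [← Category.assoc A.ι g, ← IsOpenImmersion.lift_fac (Sigma.ι St i) (A.ι ≫ g) _, Category.assoc,
        Sigma.ι_desc]
    have hA := IsPullback.of_hasPullback f' A.ι
    obtain ⟨x', hx', -⟩ := Scheme.Pullback.exists_preimage_pullback (f := f') (g := A.ι) x
      (⟨f' x, hxA⟩ : (A : Scheme.{u})) rfl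
    have hflA := flat_of_finLocFree hF hL (N := N) (hA.paste_horiz h) fun n hn => by
      obtain ⟨k, rfl⟩ := Nat.exists_eq_add_of_le hn
      exact fun z => (((huniv i _ _).1 ⟨gA, hgA⟩ k) z).imp fun U hU => ⟨_, hU⟩
    have := FlatH4.isFlatOverAt_of_baseChange_of_flat hA ((Scheme.Modules.pullback g').obj F) x'
      (Flat.stalkMap A.ι (pullback.snd f' A.ι x'))
      (SchDom.isFlatOverAt_of_iso _ ((pullbackComp (pullback.fst f' A.ι) g').app F).symm x' (hflA x'))
    rw [← hx']
    exact this

end Groth.Agent.CMReg18
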