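import Groth.Agent.Lib.CMReg18.TwistBC2
import Groth.Agent.Lib.CMReg18.PointBC
import Groth.Agent.S1455

/-!
# Uniform vanishing and base change on all fibres
-/

set_option autoImplicit false
set_option linter.style.haveILetI false
set_option backward.isDefEq.respectTransparency false
set_option maxHeartbeats 1600000

universe u

open CategoryTheory CategoryTheory.Limits AlgebraicGeometry Scheme.Modules

namespace Groth.Agent.CMReg18

open Groth.Agent

variable {X S : Scheme.{u}}

/-- A chain of closed subsets covers the space by its differences. -/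
theorem exists_stratum {α : Type*} {t : ℕ} (Z : Fin (t + 1) → Set α) (h0 : Z 0 = Set.univ)
    (hl : Z (Fin.last t) = ∅) (x : α) : ∃ i : Fin t, x ∈ Z i.castSucc ∧ x ∉ Z i.succ := by
  by_contra hne
  push Not at hne
  have h : ∀ i : Fin (t + 1), x ∈ Z i := Fin.induction (by rw [h0]; trivial) fun i hi => hne i hi
  have := h (Fin.last t)
  rw [hl] at this
  exact this

theorem isNoetherian_of_immersion {Z S : Scheme.{u}} (e : Z ⟶ S) [IsImmersion e] [IsNoetherian S] :
    IsNoetherian Z :=
  haveI : TopologicalSpace.NoetherianSpace Z :=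
    Topology.IsInducing.noetherianSpace e.isEmbedding.isInducing
  { toIsLocallyNoetherian := LocallyOfFiniteType.isLocallyNoetherian e
    toCompactSpace := inferInstance }

theorem exists_uniform_fibres (f : X ⟶ S) [IsProper f] [Flat f] [IsNoetherian S] {F L : X.Modules}
    (hF : Coh.IsCoh F) (hL : RelAmple.IsRelAmple f L) :
    ∃ N : ℕ, ∀ n, N ≤ n → ∀ s : S,
      (∀ p, 1 ≤ p → Subsingleton (CohIII.fiberH f (CohB1.tensorMod F (CohB1.tensorPow L n)) s p)) ∧
      IsIso (CohBC.bc0 f (S.fromSpecResidueField s) (f.fiberToSpecResidueField s) (f.fiberι s) (f.fiber_fac s)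
        (CohB1.tensorMod F (CohB1.tensorPow L n))) := by
  classical
  haveI : IsLocallyNoetherian X := LocallyOfFiniteType.isLocallyNoetherian f
  have hLi := RA.isInvertible_of_isRelAmple f hL
  obtain ⟨m, I, -, hlast, h0, -, hflat⟩ := S1455.result f F hF.1 (M1.isFP_of_isCoh hF)
  let U : ∀ i : Fin m, (I i.castSucc).subscheme.Opens := fun i =>
    (I i.castSucc).subschemeι ⁻¹ᵁ (I i.succ).support.compl
  let e : ∀ i : Fin m, (U i : Scheme.{u}) ⟶ S := fun i => (U i).ι ≫ (I i.castSucc).subschemeι
  have key : ∀ i : Fin m, ∃ N : ℕ, ∀ n, N ≤ n → ∀ v : (U i : Scheme.{u}),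
      (∀ p, 1 ≤ p → Subsingleton (CohIII.fiberH f (CohB1.tensorMod F (CohB1.tensorPow L n)) (e i v) p)) ∧
      IsIso (CohBC.bc0 f (S.fromSpecResidueField (e i v)) (f.fiberToSpecResidueField (e i v)) (f.fiberι (e i v))
        (f.fiber_fac (e i v)) (CohB1.tensorMod F (CohB1.tensorPow L n))) := fun i => by
    haveI : IsNoetherian (U i : Scheme.{u}) := isNoetherian_of_immersion (e i)
    let fV := pullback.snd f (e i)
    let aV := pullback.fst f (e i)
    have hV : IsPullback aV fV f (e i) := IsPullback.of_hasPullback _ _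
    haveI : IsProper fV := inferInstanceAs (IsProper (pullback.snd f (e i)))
    haveI : IsLocallyNoetherian (pullback f (e i)) := LocallyOfFiniteType.isLocallyNoetherian fV
    have hFV : Coh.IsCoh ((Scheme.Modules.pullback aV).obj F) := isCoh_pullback_coh aV hF
    have hLV := RA.isRelAmple_of_isPullback hV hL
    have hflV : FlatMod.IsFlatOver fV ((Scheme.Modules.pullback aV).obj F) := hflat i
    obtain ⟨N₁, hN₁⟩ := exists_forall_subsingleton_fiberH hFV hflV hLV
    obtain ⟨N₂, hN₂⟩ := exists_forall_isIso_bc0_of_flat fV hFV hflV hLV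
    obtain ⟨N₃, hN₃⟩ := exists_forall_isIso_bc0 f hV hF hL
    refine ⟨N₁ + N₂ + N₃, fun n hn v => ?_⟩
    let G := CohB1.tensorMod F (CohB1.tensorPow L n)
    have hG : Coh.IsCoh G := isCoh_twist hF hLi n
    haveI : Coh.IsQCoh G := hG.1
    let s := e i v
    letI : (f.fiber s).Over (Spec (CommRingCat.of (S.residueField s))) := ⟨f.fiberToSpecResidueField s⟩
    haveI : IsProper (f.fiber s ↘ Spec (CommRingCat.of (S.residueField s))) :=
      inferInstanceAs (IsProper (pullback.snd f (S.fromSpecResidueField s)))
    haveI : IsNoetherian (f.fiber s) :=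
      CohFound.isNoetherian_of_isProper (f.fiber s ↘ Spec (CommRingCat.of (S.residueField s)))
    let iG : (Scheme.Modules.pullback aV).obj G ≅ CohB1.tensorMod ((Scheme.Modules.pullback aV).obj F)
        (CohB1.tensorPow ((Scheme.Modules.pullback aV).obj L) n) := pullTwist aV F L n
    constructor
    · intro p hp
      haveI hs := hN₁ n (by omega) v p hp
      haveI : Module.Finite (S.residueField s) (CohIII.fiberH f G s p) :=
        CohFound.finite_HH_of_isProper (A := S.residueField s) _
          ((M1.isCoh_iff_isFP _).2 (M1.isFP_pullback _ (M1.isFP_of_isCoh hG))) p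
      refine Module.finrank_zero_iff (R := S.residueField s).1 ?_
      refine (finrank_fiberH_baseChange hV (M1.isFP_of_isCoh hG) v p).symm.trans ?_
      letI : (fV.fiber v).Over (Spec (CommRingCat.of ((U i : Scheme.{u}).residueField v))) :=
        ⟨fV.fiberToSpecResidueField v⟩
      exact ((CBC10.hmapLinEquiv ((U i : Scheme.{u}).residueField v)
        ((Scheme.Modules.pullback (fV.fiberι v)).mapIso iG) p).finrank_eq).trans Module.finrank_zero_of_subsingleton
    · let fs := f.fiberToSpecResidueField s
      haveI : IsProper fs := inferInstanceAs (IsProper (pullback.snd f (S.fromSpecResidueField s)))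
      let fv := fV.fiberToSpecResidueField v
      let c : Spec ((U i : Scheme.{u}).residueField v) ⟶ Spec (S.residueField s) :=
        Spec.map ((e i).residueFieldMap v)
      haveI : Flat c := inferInstance
      have hc : c ≫ S.fromSpecResidueField s = (U i : Scheme.{u}).fromSpecResidueField v ≫ e i :=
        (e i).SpecMap_residueFieldMap_fromSpecResidueField v
      have hv : IsPullback (fV.fiberι v) fv fV ((U i : Scheme.{u}).fromSpecResidueField v) :=
        IsPullback.of_hasPullback _ _
      have w : (fV.fiberι v ≫ aV) ≫ f = fv ≫ (U i : Scheme.{u}).fromSpecResidueField v ≫ e i :=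
        (hv.paste_horiz hV).w
      haveI := hN₃ n (by omega)
      haveI := hN₂ n (by omega) _ fv _ hv
      haveI : IsIso (CohBC.bc0 fV ((U i : Scheme.{u}).fromSpecResidueField v) fv (fV.fiberι v) hv.w
          ((Scheme.Modules.pullback aV).obj G)) := isIso_bc0_of_iso _ _ _ _ hv.w iG.symm
      haveI i1 : IsIso (CohBC.bc0 f ((U i : Scheme.{u}).fromSpecResidueField v ≫ e i) fv
          (fV.fiberι v ≫ aV) w G) := by
        haveI : IsIso ((pullbackComp ((U i : Scheme.{u}).fromSpecResidueField v) (e i)).hom.app
            ((Scheme.Modules.pushforward f).obj G) ≫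
              CohBC.bc0 f ((U i : Scheme.{u}).fromSpecResidueField v ≫ e i) fv (fV.fiberι v ≫ aV) w G) := by
          rw [bc0_paste f (e i) fV aV hV.w ((U i : Scheme.{u}).fromSpecResidueField v) fv (fV.fiberι v) hv.w w G]
          infer_instance
        exact IsIso.of_isIso_comp_left ((pullbackComp ((U i : Scheme.{u}).fromSpecResidueField v) (e i)).hom.app
            ((Scheme.Modules.pushforward f).obj G)) _
      have h1 : IsPullback (fV.fiberι v ≫ aV) fv f (c ≫ S.fromSpecResidueField s) := by
        rw [hc]; exact hv.paste_horiz hV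
      let b : fV.fiber v ⟶ f.fiber s := pullback.lift (fV.fiberι v ≫ aV) (fv ≫ c) (by rw [h1.w, Category.assoc])
      have hb1 : b ≫ f.fiberι s = fV.fiberι v ≫ aV := pullback.lift_fst _ _ _
      have hb : IsPullback b fv fs c := by
        refine IsPullback.of_right (h₁₂ := f.fiberι s) ?_ (pullback.lift_snd _ _ _)
          (IsPullback.of_hasPullback f (S.fromSpecResidueField s))
        rw [hb1]; exact h1
      have w1 : (b ≫ f.fiberι s) ≫ f = fv ≫ c ≫ S.fromSpecResidueField s := by rw [hb1]; exact h1.w
      haveI i2 : IsIso (CohBC.bc0 f (c ≫ S.fromSpecResidueField s) fv (b ≫ f.fiberι s) w1 G) :=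
        bc0_congr f _ fv _ w hc.symm hb1.symm w1 G
      haveI : Coh.IsQCoh ((Scheme.Modules.pullback (f.fiberι s)).obj G) := M1.isQCoh_pullback _ hG.1
      haveI i3 : IsIso (CohBC.bc0 fs c fv b hb.w ((Scheme.Modules.pullback (f.fiberι s)).obj G)) :=
        ParaFDesc27.isIso_bc0_of_flat hb _
      let β := CohBC.bc0 f (S.fromSpecResidueField s) fs (f.fiberι s) (f.fiber_fac s) G
      haveI : IsIso ((Scheme.Modules.pullback c).map β ≫ (CohBC.bc0 fs c fv b hb.w
          ((Scheme.Modules.pullback (f.fiberι s)).obj G) ≫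
            (Scheme.Modules.pushforward fv).map ((pullbackComp b (f.fiberι s)).hom.app G))) := by
        rw [← bc0_paste f (S.fromSpecResidueField s) fs (f.fiberι s) (f.fiber_fac s) c fv b hb.w w1 G]
        infer_instance
      haveI hiso : IsIso ((Scheme.Modules.pullback c).map β) :=
        IsIso.of_isIso_comp_right _ (CohBC.bc0 fs c fv b hb.w ((Scheme.Modules.pullback (f.fiberι s)).obj G) ≫
            (Scheme.Modules.pushforward fv).map ((pullbackComp b (f.fiberι s)).hom.app G))
      refine FpqcFun14.isIso_of_cover _ fun z => ⟨_, c, inferInstance, ⟨IsLocalRing.closedPoint _, ?_⟩, hiso⟩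
      haveI : Subsingleton ↥(Spec (S.residueField s)) := inferInstanceAs (Subsingleton (PrimeSpectrum (S.residueField s)))
      exact Subsingleton.elim _ _
  choose N hN using key
  refine ⟨Finset.univ.sup N, fun n hn s => ?_⟩
  obtain ⟨i, hi, hi'⟩ := exists_stratum (fun j => ((I j).support : Set S)) h0
    (by rw [hlast, Scheme.IdealSheafData.support_top]; rfl) s
  obtain ⟨y, hy⟩ : s ∈ Set.range (I i.castSucc).subschemeι := by
    rw [Scheme.IdealSheafData.range_subschemeι]; exact hi
  have hyU : y ∈ U i := by
    show (I i.castSucc).subschemeι y ∈ (I i.succ).support.compl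
    rw [hy]; exact hi'
  have hv : e i ⟨y, hyU⟩ = s := hy
  rw [← hv]
  exact hN i n ((Finset.le_sup (Finset.mem_univ i)).trans hn) ⟨y, hyU⟩

end Groth.Agent.CMReg18
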