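import Groth.Agent.Lib.CMReg18.ProjModel
import Groth.Agent.Lib.CMReg18.Strata
import Groth.Agent.Lib.CMReg18.StrataUniv
import Groth.Agent.Lib.CMReg18.UniformFib
import Groth.Agent.Lib.CMReg18.FlatTwistGen
import Groth.Agent.Lib.AmpleImm18.Over
import Groth.Agent.Lib.AmpleFin18.PushEuler
import Groth.Agent.Lib.CohFound.ClosedImmPush
import Groth.Agent.Lib.PushFin12.Basic
import Groth.Agent.S0017

/-!
# Semicontinuity of the Hilbert polynomial; flatness over a reduced base
-/

set_option autoImplicit false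
set_option linter.style.haveILetI false
set_option backward.isDefEq.respectTransparency false
set_option maxHeartbeats 800000

universe u

open CategoryTheory CategoryTheory.Limits AlgebraicGeometry TopologicalSpace Scheme.Modules

namespace Groth.Agent.CMReg18

open Groth.Agent

variable {X S : Scheme.{u}}

/-- A proper morphism with an ample module over an affine base embeds in a projective space. -/
theorem exists_closedImm_twist [IsAffine S] (f : X ⟶ S) [IsProper f] [LocallyOfFinitePresentation f]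
    {L : X.Modules} (hL : RelAmple.IsRelAmple f L) :
    ∃ (d m : ℕ) (i : X ⟶ CohB1.ProjSpaceOver m S), 0 < d ∧ IsClosedImmersion i ∧
      LocallyOfFinitePresentation i ∧ i ≫ CohB1.ProjSpaceOver.toBase m S = f ∧
      Nonempty (CohB1.tensorPow L d ≅ (Scheme.Modules.pullback i).obj (O1 m S)) := by
  obtain ⟨m₀, hm₀⟩ := AmpleImm18.exists_veryAmple_of_isAmple f ((RA.isRelAmple_iff_isAmple (f := f)).1 hL)
  obtain ⟨m, i, hi, hif, ⟨e⟩⟩ := hm₀ (m₀ + 1) (Nat.le_succ _)
  subst hif
  haveI := hi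
  haveI : IsProper i := IsProper.of_comp i (CohB1.ProjSpaceOver.toBase m S)
  exact ⟨m₀ + 1, m, i, Nat.succ_pos _,
    IsClosedImmersion.of_isPreimmersion i i.isClosedMap.isClosed_range,
    SchBasic.locallyOfFinitePresentation_of_comp i (CohB1.ProjSpaceOver.toBase m S), rfl, ⟨e⟩⟩

section Embedded

variable {f : X ⟶ S} {m d : ℕ} {i : X ⟶ CohB1.ProjSpaceOver m S} [IsClosedImmersion i] {L : X.Modules}

theorem nonempty_push_twist (e : CohB1.tensorPow L d ≅ (Scheme.Modules.pullback i).obj (O1 m S))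
    {F : X.Modules} (hF : Coh.IsQCoh F) (x : ℕ) :
    Nonempty ((Scheme.Modules.pushforward i).obj (CohB1.tensorMod F (CohB1.tensorPow L (d * x))) ≅
      CohB1.tensorMod ((Scheme.Modules.pushforward i).obj F) (CohB1.tensorPow (O1 m S) x)) := by
  obtain ⟨p⟩ := CohFound.nonempty_push_tensor_iso i F hF (CohB1.tensorPow (O1 m S) x)
    (Twist.isQCoh_of_isInvertible (Amp.isInvertible_tensorPow (isInvertible_O1 m S) x))
  exact ⟨(Scheme.Modules.pushforward i).mapIso (M2.tensorIso (Iso.refl F)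
    ((M2.tensorPowPow L d x).symm ≪≫ M2.tensorPowIso e x ≪≫ (M2.pullTensorPowIso i (O1 m S) x).symm)) ≪≫ p⟩

/-- Fibrewise Euler characteristics do not change under a closed immersion. -/
theorem euler_fiber_push (hif : i ≫ CohB1.ProjSpaceOver.toBase m S = f) {N : X.Modules} (hN : Coh.IsQCoh N)
    (s : S) :
    @Curv2.euler (S.residueField s) _ ((CohB1.ProjSpaceOver.toBase m S).fiber s)
        ⟨(CohB1.ProjSpaceOver.toBase m S).fiberToSpecResidueField s⟩
        ((Scheme.Modules.pullback ((CohB1.ProjSpaceOver.toBase m S).fiberι s)).obj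
          ((Scheme.Modules.pushforward i).obj N)) =
      @Curv2.euler (S.residueField s) _ (f.fiber s) ⟨f.fiberToSpecResidueField s⟩
        ((Scheme.Modules.pullback (f.fiberι s)).obj N) := by
  subst hif
  let π := CohB1.ProjSpaceOver.toBase m S
  let f := i ≫ π
  letI : (π.fiber s).Over (Spec (CommRingCat.of (S.residueField s))) := ⟨π.fiberToSpecResidueField s⟩
  letI : (f.fiber s).Over (Spec (CommRingCat.of (S.residueField s))) := ⟨f.fiberToSpecResidueField s⟩
  let a : f.fiber s ⟶ π.fiber s := pullback.lift (f.fiberι s ≫ i) (f.fiberToSpecResidueField s)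
    (by rw [Category.assoc]; exact f.fiber_fac s)
  have ha1 : a ≫ π.fiberι s = f.fiberι s ≫ i := pullback.lift_fst _ _ _
  have ha2 : a ≫ π.fiberToSpecResidueField s = f.fiberToSpecResidueField s := pullback.lift_snd _ _ _
  have h : IsPullback (f.fiberι s) a i (π.fiberι s) := by
    refine IsPullback.of_bot ?_ ha1.symm (IsPullback.of_hasPullback π (S.fromSpecResidueField s))
    erw [ha2]
    exact IsPullback.of_hasPullback f (S.fromSpecResidueField s)
  haveI : IsClosedImmersion a := MorphismProperty.of_isPullback (P := @IsClosedImmersion) h inferInstance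
  haveI := hN
  obtain ⟨e⟩ := S0017.result i (π.fiberι s) (f.fiberι s) a h N
  refine (CurveCoh17.euler_iso (k := S.residueField s) e).trans ?_
  exact AmpleFin18.euler_push (k := S.residueField s) a ha2 _ (M1.isQCoh_pullback _ hN)

theorem fibChi_push (hif : i ≫ CohB1.ProjSpaceOver.toBase m S = f)
    (e : CohB1.tensorPow L d ≅ (Scheme.Modules.pullback i).obj (O1 m S))
    {F : X.Modules} (hF : Coh.IsQCoh F) (hL : PicF.IsInvertible L) (s : S) (x : ℕ) :
    fibChi (CohB1.ProjSpaceOver.toBase m S) ((Scheme.Modules.pushforward i).obj F) 1 (fun _ => O1 m S) s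
        (fun _ => x) = fibChi f F 1 (fun _ => L) s (fun _ => d * x) := by
  letI : ((CohB1.ProjSpaceOver.toBase m S).fiber s).Over (Spec (CommRingCat.of (S.residueField s))) :=
    ⟨(CohB1.ProjSpaceOver.toBase m S).fiberToSpecResidueField s⟩
  obtain ⟨t⟩ := nonempty_push_twist e hF x
  refine (CurveCoh17.euler_iso (k := S.residueField s)
    ((Scheme.Modules.pullback ((CohB1.ProjSpaceOver.toBase m S).fiberι s)).mapIso t.symm)).trans ?_
  exact euler_fiber_push hif (M2.isQCoh_tensor hF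
    (Twist.isQCoh_of_isInvertible (Amp.isInvertible_tensorPow hL _)) :
      Coh.IsQCoh (CohB1.tensorMod F (CohB1.tensorPow L (d * x)))) s

end Embedded

theorem exists_goodTwist {f : X ⟶ S} [IsProper f] [Flat f] [IsNoetherian S] {F L : X.Modules}
    (hF : Coh.IsCoh F) (hL : RelAmple.IsRelAmple f L) : ∃ N : ℕ, ∀ n, N ≤ n → GoodTwist f F L n :=
  exists_uniform_fibres f hF hL

/-- Upper semicontinuity for the large twists in a flat ambient family over a Noetherian base. -/
theorem exists_forall_isClosed_le_noeth {f : X ⟶ S} [IsProper f] [Flat f] [IsNoetherian S] {F L : X.Modules}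
    (hF : Coh.IsCoh F) (hL : RelAmple.IsRelAmple f L) :
    ∃ N : ℕ, ∀ x, N ≤ x → ∀ c : ℤ, IsClosed {s : S | c ≤ fibChi f F 1 (fun _ => L) s (fun _ => x)} := by
  obtain ⟨N, hN⟩ := exists_goodTwist hF hL
  refine ⟨N, fun x hx c => ?_⟩
  obtain ⟨k, rfl⟩ : ∃ k, x = N + k := ⟨x - N, by omega⟩
  by_cases hc : c ≤ 0
  · convert isClosed_univ (X := S) using 1
    exact Set.eq_univ_of_forall fun s => by
      show c ≤ _
      rw [euler_eq_hilbRk hN s k]
      omega
  · convert isClosed_lt_hilbRk hF hL hN k (c.toNat - 1) using 1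
    ext s
    show c ≤ _ ↔ c.toNat - 1 < hilbRk f F L N s k
    rw [euler_eq_hilbRk hN s k]
    omega

/-- The same over an affine base, with a projective embedding and no further hypotheses. -/
theorem exists_forall_isClosed_le [IsAffine S] (f : X ⟶ S) [IsProper f] [LocallyOfFinitePresentation f]
    {L : X.Modules} (hL : RelAmple.IsRelAmple f L) {F : X.Modules} (hF : CohB1.IsFP F) :
    ∃ d : ℕ, 0 < d ∧ ∃ N : ℕ, ∀ x, N ≤ x → ∀ c : ℤ,
      IsClosed {s : S | c ≤ fibChi f F 1 (fun _ => L) s (fun _ => d * x)} := by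
  obtain ⟨d, m, i, hd, hi, hi', hif, ⟨e⟩⟩ := exists_closedImm_twist f hL
  haveI := hi
  haveI := hi'
  have hFq : Coh.IsQCoh F := M1.isFP_isQCoh hF
  let G := (Scheme.Modules.pushforward i).obj F
  have hG : CohB1.IsFP G := (PushFin12.isFP_iff i F hFq).1 hF
  obtain ⟨V₀, P₀, π₀, ψ, q, L₀, G₀, hV, hπ, hπf, hL₀, hG₀, hsq, ⟨eL⟩, ⟨eG⟩⟩ := exists_proj_model m hG
  haveI := hV
  haveI := hπ
  haveI := hπf
  obtain ⟨N, hN⟩ := exists_forall_isClosed_le_noeth hG₀ hL₀
  refine ⟨d, hd, N, fun x hx c => ?_⟩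
  convert (hN x hx c).preimage ψ.continuous using 1
  ext s
  show c ≤ _ ↔ c ≤ _
  rw [← fibChi_push hif e hFq (RA.isInvertible_of_isRelAmple f hL) s x]
  suffices h : fibChi (CohB1.ProjSpaceOver.toBase m S) G 1 (fun _ => O1 m S) s (fun _ => x) =
      fibChi π₀ G₀ 1 (fun _ => L₀) (ψ s) (fun _ => x) by rw [h]
  haveI : IsLocallyNoetherian P₀ := LocallyOfFiniteType.isLocallyNoetherian π₀
  letI : ((CohB1.ProjSpaceOver.toBase m S).fiber s).Over (Spec (CommRingCat.of (S.residueField s))) :=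
    ⟨(CohB1.ProjSpaceOver.toBase m S).fiberToSpecResidueField s⟩
  refine Eq.trans (CurveCoh17.euler_iso (k := S.residueField s)
    ((Scheme.Modules.pullback ((CohB1.ProjSpaceOver.toBase m S).fiberι s)).mapIso
      (pullTwist q G₀ L₀ x ≪≫ M2.tensorIso eG (M2.tensorPowIso eL x)).symm)) ?_
  exact euler_fiber_isPullback hsq (M1.isFP_of_isCoh (isCoh_twist hG₀ (RA.isInvertible_of_isRelAmple π₀ hL₀) x)) s

section Eventual

theorem eventually_sign (Q : Polynomial ℚ) :
    ∃ N : ℕ, (∀ n : ℕ, N ≤ n → 0 ≤ Q.eval (n : ℚ)) ∨ (∀ n : ℕ, N ≤ n → Q.eval (n : ℚ) < 0) := by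
  rcases lt_trichotomy Q.leadingCoeff 0 with h | h | h
  · by_cases hd : 0 < Q.degree
    · obtain ⟨N, hN⟩ := Filter.eventually_atTop.1
        (((Polynomial.tendsto_atBot_of_leadingCoeff_nonpos Q hd h.le).comp tendsto_natCast_atTop_atTop).eventually
          (Filter.eventually_lt_atBot (0 : ℚ)))
      exact ⟨N, Or.inr hN⟩
    · obtain ⟨a, rfl⟩ : ∃ a, Q = Polynomial.C a := ⟨_, Polynomial.eq_C_of_degree_le_zero (not_lt.1 hd)⟩
      rw [Polynomial.leadingCoeff_C] at h
      exact ⟨0, Or.inr fun n _ => by simpa using h⟩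
  · rw [Polynomial.leadingCoeff_eq_zero] at h
    exact ⟨0, Or.inl fun n _ => by simp [h]⟩
  · by_cases hd : 0 < Q.degree
    · obtain ⟨N, hN⟩ := Filter.eventually_atTop.1
        (((Polynomial.tendsto_atTop_of_leadingCoeff_nonneg Q hd h.le).comp tendsto_natCast_atTop_atTop).eventually
          (Filter.eventually_ge_atTop (0 : ℚ)))
      exact ⟨N, Or.inl hN⟩
    · obtain ⟨a, rfl⟩ : ∃ a, Q = Polynomial.C a := ⟨_, Polynomial.eq_C_of_degree_le_zero (not_lt.1 hd)⟩
      rw [Polynomial.leadingCoeff_C] at h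
      exact ⟨0, Or.inl fun n _ => by simpa using h.le⟩

theorem exists_uniform_sign (f : X ⟶ S) [IsProper f] [LocallyOfFinitePresentation f] [CompactSpace S]
    {F : X.Modules} (hF : CohB1.IsFP F) {L : X.Modules} (hL : PicF.IsInvertible L) (Φ : Polynomial ℚ) :
    ∃ M : ℕ, ∀ (s : S) (x : ℕ), M ≤ x →
      ((∃ N : ℕ, ∀ n : ℕ, N ≤ n → Φ.eval (n : ℚ) ≤ (fibChi f F 1 (fun _ => L) s (fun _ => n) : ℚ)) ↔
        Φ.eval (x : ℚ) ≤ (fibChi f F 1 (fun _ => L) s (fun _ => x) : ℚ)) := by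
  have hfin := finite_range_fibChi f hF 1 (fun _ => L) (fun _ => hL)
  have key : ∀ φ ∈ Set.range (fibChi f F 1 fun _ => L), ∃ M : ℕ, ∀ x : ℕ, M ≤ x →
      ((∃ N : ℕ, ∀ n : ℕ, N ≤ n → Φ.eval (n : ℚ) ≤ (φ (fun _ => n) : ℚ)) ↔
        Φ.eval (x : ℚ) ≤ (φ (fun _ => x) : ℚ)) := by
    rintro _ ⟨s, rfl⟩
    obtain ⟨V, d', hsV, hV⟩ := exists_nhd_dim_fiber_le f s
    obtain ⟨P, -, hP⟩ := exists_fibChi_poly f hF 1 (fun _ => L) (fun _ => hL) s d' (hV s hsV)
    let Q : Polynomial ℚ := MvPolynomial.eval₂ Polynomial.C (fun _ => Polynomial.X) P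
    have hQ : ∀ n : ℕ, Q.eval (n : ℚ) = (fibChi f F 1 (fun _ => L) s (fun _ => n) : ℚ) := fun n => by
      rw [hP]
      show Polynomial.evalRingHom (n : ℚ) (MvPolynomial.eval₂ Polynomial.C (fun _ => Polynomial.X) P) = _
      rw [MvPolynomial.eval₂_comp_left]
      have h1 : (Polynomial.evalRingHom (n : ℚ)).comp Polynomial.C = RingHom.id ℚ := RingHom.ext fun a => by simp
      rw [h1]
      simp [MvPolynomial.eval₂_id, Function.comp_def]
    obtain ⟨N₀, hN₀⟩ := eventually_sign (Q - Φ)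
    refine ⟨N₀, fun x hx => ?_⟩
    simp only [← hQ]
    rcases hN₀ with h | h <;> simp only [Polynomial.eval_sub, sub_nonneg, sub_neg] at h
    · exact iff_of_true ⟨N₀, h⟩ (h x hx)
    · exact iff_of_false (fun ⟨N, hN⟩ => (h (N + N₀) (by omega)).not_ge (hN _ (by omega))) (h x hx).not_ge
  choose M hM using key
  haveI := hfin.fintype
  refine ⟨Finset.univ.sup fun φ : Set.range (fibChi f F 1 fun _ => L) => M φ.1 φ.2, fun s x hx => ?_⟩
  exact hM _ ⟨s, rfl⟩ x (le_trans
    (Finset.le_sup (f := fun φ : Set.range (fibChi f F 1 fun _ => L) => M φ.1 φ.2)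
      (Finset.mem_univ ⟨_, ⟨s, rfl⟩⟩)) hx)

end Eventual

/-- Closedness of the loci of large Hilbert polynomial. -/
theorem isClosed_setOf_eventually_le (f : X ⟶ S) [IsProper f] [LocallyOfFinitePresentation f]
    {L : X.Modules} (hL : RelAmple.IsRelAmple f L) {F : X.Modules} (hF : CohB1.IsFP F) (Φ : Polynomial ℚ) :
    IsClosed {s : S | ∃ N : ℕ, ∀ n : ℕ, N ≤ n →
      Φ.eval (n : ℚ) ≤ (fibChi f F 1 (fun _ => L) s (fun _ => n) : ℚ)} := by
  have hcov : TopologicalSpace.IsOpenCover fun V : S.affineOpens => V.1 := iSup_affineOpens_eq_top S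
  refine hcov.isClosed_iff_coe_preimage.2 fun V => ?_
  haveI : IsAffine (V.1 : Scheme.{u}) := V.2
  let fV := pullback.snd f V.1.ι
  let LV := (Scheme.Modules.pullback (pullback.fst f V.1.ι)).obj L
  let FV := (Scheme.Modules.pullback (pullback.fst f V.1.ι)).obj F
  have hLV : RelAmple.IsRelAmple fV LV := RA.isRelAmple_of_isPullback (IsPullback.of_hasPullback _ _) hL
  have hFV : CohB1.IsFP FV := M1.isFP_pullback _ hF
  obtain ⟨d, hd, N, hN⟩ := exists_forall_isClosed_le fV hLV hFV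
  obtain ⟨M, hM⟩ := exists_uniform_sign fV hFV (RA.isInvertible_of_isRelAmple fV hLV) Φ
  suffices h : IsClosed {v : (V.1 : Scheme.{u}) | ∃ N : ℕ, ∀ n : ℕ, N ≤ n →
      Φ.eval (n : ℚ) ≤ (fibChi f F 1 (fun _ => L) (V.1.ι v) (fun _ => n) : ℚ)} from h
  convert hN (M + N) (Nat.le_add_left N M) ⌈Φ.eval ((d * (M + N) : ℕ) : ℚ)⌉ using 1
  ext v
  have hv : fibChi fV FV 1 (fun _ => LV) v = fibChi f F 1 (fun _ => L) (V.1.ι v) :=
    fibChi_baseChange f V.1.ι hF 1 (fun _ => L) (fun _ => RA.isInvertible_of_isRelAmple f hL) v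
  show (∃ N : ℕ, ∀ n : ℕ, N ≤ n → Φ.eval (n : ℚ) ≤ (fibChi f F 1 (fun _ => L) (V.1.ι v) (fun _ => n) : ℚ)) ↔ (_ : ℤ) ≤ _
  rw [← hv, hM v (d * (M + N)) (le_trans (Nat.le_add_right M N) (Nat.le_mul_of_pos_left _ hd)), Int.ceil_le]

end Groth.Agent.CMReg18
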