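import Groth.Agent.Lib.CMReg18.Proj

/-!
# Regularity and an exact sequence `0 → F(-1) → F → G → 0`
-/

set_option autoImplicit false
set_option linter.style.haveILetI false
set_option backward.isDefEq.respectTransparency false

universe u

open CategoryTheory CategoryTheory.Limits AlgebraicGeometry TopologicalSpace Opposite

namespace Groth.Agent.CMReg18

open Groth.Agent

namespace TwistData

variable {X : Scheme.{u}} (D : TwistData X)

theorem shortExact_tw {S : ShortComplex X.Modules} (hS : S.ShortExact) (a : ℤ) :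
    (S.map (M2.tensorR (D.O a))).ShortExact :=
  CurveCoh17.shortExact_tensorR hS (D.O a) fun x => Module.Flat.of_linearEquiv
    (CurveCoh17.nonempty_stalk_equiv ((M2.isInvertible_iff_isFinLocFreeOfRank_one _).1 (D.inv a)) x).some

theorem twIso_eq_map {F : X.Modules} {a b : ℤ} (h : a = b) :
    (D.twIso F h).hom = M2.tensorMap (𝟙 F) (eqToHom (congrArg D.O h)) := by
  subst h
  simp [twIso, M2.tensorMap_id]

theorem twTwist_natural {A B : X.Modules} (g : A ⟶ B) (a b : ℤ) :
    (M2.tensorR (D.O b)).map ((M2.tensorR (D.O a)).map g) ≫ (D.twTwist B a b).hom =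
      (D.twTwist A a b).hom ≫ (M2.tensorR (D.O (a + b))).map g := by
  show M2.tensorMap (M2.tensorMap g (𝟙 _)) (𝟙 _) ≫ (D.twTwist B a b).hom = _
  simp only [twTwist, Iso.trans_hom]
  rw [← Category.assoc, M2.tensorAssoc_natural, M2.tensorMap_id, Category.assoc, Category.assoc]
  refine congrArg ((M2.tensorAssoc A (D.O a) (D.O b)).hom ≫ ·) ?_
  show M2.tensorMap g (𝟙 _) ≫ M2.tensorMap (𝟙 B) (D.add a b).hom =
    M2.tensorMap (𝟙 A) (D.add a b).hom ≫ M2.tensorMap g (𝟙 _)
  rw [← M2.tensorMap_comp, ← M2.tensorMap_comp, Category.id_comp, Category.comp_id, Category.id_comp,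
    Category.comp_id]

variable (k : Type u) [CommRing k] [X.Over (Spec (CommRingCat.of k))]
include k

/-- Surjectivity on sections of the twist of a map, moved along the twists. -/
theorem surjective_tw_congr {A B : X.Modules} (g : A ⟶ B) (a b c : ℤ) (h : a + b = c) :
    Function.Surjective (CurveCoh17.hmap k ((M2.tensorR (D.O b)).map ((M2.tensorR (D.O a)).map g)) 0) ↔
      Function.Surjective (CurveCoh17.hmap k ((M2.tensorR (D.O c)).map g) 0) := by
  subst h
  have e := D.twTwist_natural g a b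
  have h1 : ∀ y, CurveCoh17.hmap k (D.twTwist B a b).hom 0
      (CurveCoh17.hmap k ((M2.tensorR (D.O b)).map ((M2.tensorR (D.O a)).map g)) 0 y) =
      CurveCoh17.hmap k ((M2.tensorR (D.O (a + b))).map g) 0 (CurveCoh17.hmap k (D.twTwist A a b).hom 0 y) := fun y =>
    (CurveCoh17.hmap_comp k _ _ 0 y).symm.trans ((congrArg (fun φ => CurveCoh17.hmap k φ 0 y) e).trans
      (CurveCoh17.hmap_comp k _ _ 0 y))
  constructor
  · intro hs x
    obtain ⟨x', hx'⟩ := (CurveCoh17.hequiv k (D.twTwist B a b) 0).surjective x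
    obtain ⟨y, rfl⟩ := hs x'
    exact ⟨_, (h1 y).symm.trans hx'⟩
  · intro hs x
    obtain ⟨y, hy⟩ := hs (CurveCoh17.hequiv k (D.twTwist B a b) 0 x)
    obtain ⟨y', rfl⟩ := (CurveCoh17.hequiv k (D.twTwist A a b) 0).surjective y
    exact ⟨y', (CurveCoh17.hequiv k (D.twTwist B a b) 0).injective ((h1 y').trans hy)⟩

variable {S : ShortComplex X.Modules} (hS : S.ShortExact) (e : S.X₁ ≅ D.tw S.X₂ (-1))

omit k in
/-- The first term of the twisted sequence. -/
noncomputable def firstIso (a : ℤ) {b : ℤ} (h : b = a - 1) : (S.map (M2.tensorR (D.O a))).X₁ ≅ D.tw S.X₂ b :=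
  (M2.tensorR (D.O a)).mapIso e ≪≫ D.twTwist S.X₂ (-1) a ≪≫ D.twIso S.X₂ (by rw [h]; ring)

include hS e

theorem IsReg.coker {m : ℤ} (h : D.IsReg S.X₂ m) : D.IsReg S.X₃ m := fun i hi =>
  van₃ k (D.shortExact_tw hS (m - i)) (h i hi)
    (van_iso k (D.firstIso e (m - i) (show m - ((i + 1 : ℕ) : ℤ) = m - i - 1 by push_cast; ring)).symm
      (h (i + 1) (by omega)))

/-- Vanishing of the higher cohomology. -/
theorem van_high {m : ℤ} (hG : D.IsReg S.X₃ m)
    (hlarge : ∃ a₀ : ℤ, ∀ (i : ℕ) (a : ℤ), 1 ≤ i → a₀ ≤ a → Subsingleton (Coh.HH X (D.tw S.X₂ a) i))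
    {q : ℕ} (hq : 2 ≤ q) {j : ℤ} (hj : m - q ≤ j) : Subsingleton (Coh.HH X (D.tw S.X₂ j) q) := by
  obtain ⟨a₀, ha₀⟩ := hlarge
  suffices h : ∀ (d : ℕ) (j : ℤ), m - q ≤ j → a₀ ≤ j + d → Subsingleton (Coh.HH X (D.tw S.X₂ j) q) from
    h (a₀ - j).toNat j hj (by omega)
  intro d
  induction d with
  | zero => intro j _ hja; exact ha₀ q j (by omega) (by simpa using hja)
  | succ d ih =>
    intro j hj hja
    obtain ⟨p, rfl⟩ : ∃ p, q = p + 1 := ⟨q - 1, by omega⟩
    refine van_iso k (D.firstIso e (j + 1) (by ring)) ?_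
    exact van₁ k (D.shortExact_tw hS (j + 1)) (hG.van k (by omega) (by push_cast at hj ⊢; omega))
      (ih (j + 1) (by omega) (by omega))

/-- Once the sections surject, they keep surjecting. -/
theorem surjective_succ {m : ℤ} (hG : D.IsReg S.X₃ m) {j : ℤ} (hj : m ≤ j)
    (h : Function.Surjective (CurveCoh17.hmap k ((M2.tensorR (D.O j)).map S.g) 0)) :
    Function.Surjective (CurveCoh17.hmap k ((M2.tensorR (D.O (j + 1))).map S.g) 0) := by
  have h' := (D.surjective_tw_congr k S.g (j + 1) (-1) j (by ring)).2 h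
  intro x
  have hx := hG.mem_iSup_mul k (show m + 1 ≤ j + 1 by omega) x
  induction hx using Submodule.iSup_induction' with
  | mem l y hy =>
    obtain ⟨z, rfl⟩ := hy
    obtain ⟨w, rfl⟩ := h' z
    refine ⟨CurveCoh17.hmap k (ap (D.mul l) (D.tw S.X₂ (j + 1))) 0 w, ?_⟩
    exact (CurveCoh17.hmap_comp k _ _ 0 w).symm.trans ((congrArg (fun φ => CurveCoh17.hmap k φ 0 w)
      (ap_nat (D.mul l) ((M2.tensorR (D.O (j + 1))).map S.g)).symm).trans (CurveCoh17.hmap_comp k _ _ 0 w))
  | zero => exact ⟨0, map_zero _⟩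
  | add y z _ _ hy hz =>
    obtain ⟨a, ha⟩ := hy
    obtain ⟨b, hb⟩ := hz
    exact ⟨a + b, by rw [map_add, ha, hb]⟩

end TwistData

namespace TwistData

variable {X : Scheme.{u}} (D : TwistData X) (k : Type u) [Field k] [X.Over (Spec (CommRingCat.of k))]
variable {S : ShortComplex X.Modules} (hS : S.ShortExact) (e : S.X₁ ≅ D.tw S.X₂ (-1))

/-- The dimension of the first cohomology. -/
noncomputable abbrev h1 (F : X.Modules) (a : ℤ) : ℕ := Module.finrank k (Coh.HH X (D.tw F a) 1)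

include hS e

theorem h1_bounds {m : ℤ} (hG : D.IsReg S.X₃ m)
    (hlarge : ∃ a₀ : ℤ, ∀ (i : ℕ) (a : ℤ), 1 ≤ i → a₀ ≤ a → Subsingleton (Coh.HH X (D.tw S.X₂ a) i))
    (hfin : ∀ a, Module.Finite k (Coh.HH X (D.tw S.X₂ a) 1)) :
    (∀ j : ℤ, m - 1 ≤ j → D.h1 k S.X₂ j ≤ D.h1 k S.X₂ (j - 1)) ∧
    (∀ j : ℤ, m - 1 + (D.h1 k S.X₂ (m - 1) : ℤ) ≤ j → Subsingleton (Coh.HH X (D.tw S.X₂ j) 1)) ∧
    D.IsReg S.X₂ (m + D.h1 k S.X₂ (m - 1)) := by
  haveI := hfin
  -- the map `H¹(F(j - 1)) → H¹(F(j))`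
  let t : ∀ j : ℤ, Coh.HH X (D.tw S.X₂ (j - 1)) 1 →ₗ[k] Coh.HH X (D.tw S.X₂ j) 1 := fun j =>
    (CurveCoh17.hmap k ((M2.tensorR (D.O j)).map S.f) 1).comp
      (CurveCoh17.hequiv k (D.firstIso e j rfl) 1).symm.toLinearMap
  have hsurj : ∀ j : ℤ, m - 1 ≤ j → Function.Surjective (t j) := fun j hj => by
    intro x
    haveI : Subsingleton (Coh.HH X (S.map (M2.tensorR (D.O j))).X₃ 1) := hG.van k le_rfl (by push_cast; omega)
    obtain ⟨w, hw⟩ := (CurveCoh17.exact_hmap_hmap k (D.shortExact_tw hS j) 1 x).1 (Subsingleton.elim _ _)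
    exact ⟨CurveCoh17.hequiv k (D.firstIso e j rfl) 1 w,
      (congrArg (CurveCoh17.hmap k ((M2.tensorR (D.O j)).map S.f) 1) (LinearEquiv.symm_apply_apply _ w)).trans hw⟩
  have hle : ∀ j : ℤ, m - 1 ≤ j → D.h1 k S.X₂ j ≤ D.h1 k S.X₂ (j - 1) := fun j hj =>
    LinearMap.finrank_le_finrank_of_surjective (hsurj j hj)
  have hinj : ∀ j : ℤ, Function.Injective (t j) ↔
      Function.Surjective (CurveCoh17.hmap k ((M2.tensorR (D.O j)).map S.g) 0) := fun j => by
    have hS' := D.shortExact_tw hS j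
    constructor
    · intro hi z
      refine (CurveCoh17.exact_hmap_hdelta k hS' 0 z).1 ?_
      have hi' : Function.Injective (CurveCoh17.hmap k ((M2.tensorR (D.O j)).map S.f) 1) :=
        fun a b hab => by
          refine (CurveCoh17.hequiv k (D.firstIso e j rfl) 1).injective (hi ?_)
          exact (congrArg (CurveCoh17.hmap k ((M2.tensorR (D.O j)).map S.f) 1) (LinearEquiv.symm_apply_apply _ a)).trans
            (hab.trans (congrArg (CurveCoh17.hmap k ((M2.tensorR (D.O j)).map S.f) 1)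
              (LinearEquiv.symm_apply_apply _ b)).symm)
      refine hi' ?_
      rw [map_zero]
      exact (CurveCoh17.exact_hdelta_hmap k hS' 0 _).2 ⟨z, rfl⟩
    · intro hs
      refine Function.Injective.comp (g := CurveCoh17.hmap k ((M2.tensorR (D.O j)).map S.f) 1)
        (f := (CurveCoh17.hequiv k (D.firstIso e j rfl) 1).symm) ?_ (LinearEquiv.injective _)
      refine (injective_iff_map_eq_zero _).2 fun w hw => ?_
      obtain ⟨z, rfl⟩ := (CurveCoh17.exact_hdelta_hmap k hS' 0 w).1 hw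
      exact (CurveCoh17.exact_hmap_hdelta k hS' 0 z).2 (hs z)
  have hstrict : ∀ j : ℤ, m ≤ j → D.h1 k S.X₂ j = D.h1 k S.X₂ (j - 1) → D.h1 k S.X₂ (j - 1) = 0 := by
    intro j hj heq
    have hi : Function.Injective (t j) :=
      (LinearMap.injective_iff_surjective_of_finrank_eq_finrank heq.symm).2 (hsurj j (by omega))
    have hs : ∀ d : ℕ, Function.Surjective (CurveCoh17.hmap k ((M2.tensorR (D.O (j + d))).map S.g) 0) := by
      intro d
      induction d with
      | zero => rw [Nat.cast_zero, add_zero]; exact (hinj j).1 hi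
      | succ d ih =>
        rw [show j + ((d + 1 : ℕ) : ℤ) = j + d + 1 by push_cast; ring]
        exact D.surjective_succ k hS e hG (by omega) ih
    have hconst : ∀ d : ℕ, D.h1 k S.X₂ (j + d - 1) = D.h1 k S.X₂ (j - 1) := by
      intro d
      induction d with
      | zero => simp
      | succ d ih =>
        rw [← ih, show j + ((d + 1 : ℕ) : ℤ) - 1 = j + d by push_cast; ring]
        exact (LinearEquiv.ofBijective (t (j + d)) ⟨(hinj _).2 (hs d), hsurj _ (by omega)⟩).finrank_eq.symm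
    obtain ⟨a₀, ha₀⟩ := hlarge
    haveI := ha₀ 1 (j + ((a₀ - j + 1).toNat : ℤ) - 1) le_rfl (by omega)
    rw [← hconst (a₀ - j + 1).toNat]
    exact Module.finrank_zero_of_subsingleton
  have hdec : ∀ d : ℕ, D.h1 k S.X₂ (m - 1 + d) ≤ D.h1 k S.X₂ (m - 1) - d := by
    intro d
    induction d with
    | zero => simp
    | succ d ih =>
      have h1 := hle (m + d) (by omega)
      have h2 := hstrict (m + d) (by omega)
      rw [show m + (d : ℤ) - 1 = m - 1 + d by ring] at h1 h2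
      rw [show m - 1 + ((d + 1 : ℕ) : ℤ) = m + d by push_cast; ring]
      omega
  have h3 : ∀ j : ℤ, m - 1 + (D.h1 k S.X₂ (m - 1) : ℤ) ≤ j → Subsingleton (Coh.HH X (D.tw S.X₂ j) 1) := by
    intro j hj
    obtain ⟨d, rfl⟩ : ∃ d : ℕ, j = m - 1 + d := ⟨(j - (m - 1)).toNat, by omega⟩
    exact Module.finrank_zero_iff.1 (Nat.le_zero.1 ((hdec d).trans (Nat.sub_eq_zero_of_le (by omega)).le))
  refine ⟨hle, h3, fun i hi => ?_⟩
  rcases eq_or_lt_of_le hi with rfl | h2
  · exact h3 _ (by push_cast; omega)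
  · exact D.van_high k hS e hG hlarge h2 (by omega)

end TwistData

/-- Large twists have no higher cohomology. -/
theorem TwistData.exists_van_large {X : Scheme.{u}} (D : TwistData X) (k : Type u) [Field k]
    [X.Over (Spec (CommRingCat.of k))] [IsProper (X ↘ Spec (CommRingCat.of k))] (hA : CohB1.IsAmple (D.O 1))
    {F : X.Modules} (hF : Coh.IsCoh F) :
    ∃ a₀ : ℤ, ∀ (i : ℕ) (a : ℤ), 1 ≤ i → a₀ ≤ a → Subsingleton (Coh.HH X (D.tw F a) i) := by
  obtain ⟨n₀, hn₀⟩ := CohFound.exists_vanishing_all (X ↘ Spec (CommRingCat.of k)) hA hF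
  refine ⟨n₀, fun i a hi ha => ?_⟩
  obtain ⟨d, rfl⟩ : ∃ d : ℕ, a = d := ⟨a.toNat, by omega⟩
  exact van_iso k (M2.tensorIso (Iso.refl F) (D.powIso d))
    ((CohFound.subsingleton_HH_iff _ i).2 (hn₀ d (by omega) i hi))

theorem TwistData.finite_HH {X : Scheme.{u}} (D : TwistData X) (k : Type u) [Field k]
    [X.Over (Spec (CommRingCat.of k))] [IsProper (X ↘ Spec (CommRingCat.of k))]
    {F : X.Modules} (hF : Coh.IsCoh F) (a : ℤ) (i : ℕ) : Module.Finite k (Coh.HH X (D.tw F a) i) := by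
  haveI : IsNoetherian X := CohFound.isNoetherian_of_isProper (X ↘ Spec (CommRingCat.of k))
  exact CohFound.finite_HH_of_isProper (A := k) _
    (CurveCoh17.isCoh_tensor hF (Snapper.isCoh_of_isInvertible (D.inv a))) i

end Groth.Agent.CMReg18
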