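import Groth.Agent.Lib.CMReg18.Resolution
import Groth.Agent.Lib.NumPoly18.HodgeIndex
import Groth.Agent.Lib.TensorMod.IdealMod
import Groth.Agent.S0845
import Groth.Agent.S4466
import Groth.Agent.Lib.RegExt.P1

/-!
# Cohomology of twists of a hypersurface
-/

set_option autoImplicit false
set_option linter.style.haveILetI false
set_option backward.isDefEq.respectTransparency false

universe u

open CategoryTheory CategoryTheory.Limits AlgebraicGeometry TopologicalSpace Opposite

namespace Groth.Agent.CMReg18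

open Groth.Agent

theorem finrank_five_term {k A B C A' B' : Type*} [Field k] [AddCommGroup A] [AddCommGroup B] [AddCommGroup C]
    [AddCommGroup A'] [AddCommGroup B'] [Module k A] [Module k B] [Module k C] [Module k A'] [Module k B']
    [FiniteDimensional k B] [FiniteDimensional k C] [FiniteDimensional k A']
    (f : A →ₗ[k] B) (g : B →ₗ[k] C) (δ : C →ₗ[k] A') (f' : A' →ₗ[k] B') (hf : Function.Injective f)
    (hfg : Function.Exact f g) (hgδ : Function.Exact g δ) (hδf : Function.Exact δ f') (hf' : Function.Surjective f') :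
    Module.finrank k C + Module.finrank k A + Module.finrank k B' = Module.finrank k B + Module.finrank k A' := by
  have h1 := g.finrank_range_add_finrank_ker
  have h2 := δ.finrank_range_add_finrank_ker
  have h3 := f'.finrank_range_add_finrank_ker
  rw [hfg.linearMap_ker_eq, LinearMap.finrank_range_of_inj hf] at h1
  rw [hgδ.linearMap_ker_eq] at h2
  rw [hδf.linearMap_ker_eq, LinearMap.range_eq_top.2 hf', finrank_top] at h3
  omega

section sequence

variable (k : Type u) [Field k] {X : Scheme.{u}} [X.Over (Spec (CommRingCat.of k))]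
  [IsProper (X ↘ Spec (CommRingCat.of k))] {S : ShortComplex X.Modules} (hS : S.ShortExact)

include hS in
theorem finrank_sequence (h2 : Coh.IsCoh S.X₂) (h1 : Coh.IsCoh S.X₁) (h3 : Coh.IsCoh S.X₃) (q : ℕ)
    (hinj : q = 0 ∨ Subsingleton (Coh.HH X S.X₁ q)) (hQ : Subsingleton (Coh.HH X S.X₃ (q + 1)) ∨ Subsingleton (Coh.HH X S.X₂ (q + 1))) :
    Module.finrank k (Coh.HH X S.X₃ q) + Module.finrank k (Coh.HH X S.X₁ q) +
        Module.finrank k (Coh.HH X S.X₂ (q + 1)) =
      Module.finrank k (Coh.HH X S.X₂ q) + Module.finrank k (Coh.HH X S.X₁ (q + 1)) := by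
  haveI : IsNoetherian X := CohFound.isNoetherian_of_isProper (X ↘ Spec (CommRingCat.of k))
  haveI := CohFound.finite_HH_of_isProper (A := k) _ h2 q
  haveI := CohFound.finite_HH_of_isProper (A := k) _ h3 q
  haveI := CohFound.finite_HH_of_isProper (A := k) _ h1 (q + 1)
  refine finrank_five_term (CurveCoh17.hmap k S.f q) (CurveCoh17.hmap k S.g q) (CurveCoh17.hdelta k hS q)
    (CurveCoh17.hmap k S.f (q + 1)) ?_ (CurveCoh17.exact_hmap_hmap k hS q)
    (CurveCoh17.exact_hmap_hdelta k hS q) (CurveCoh17.exact_hdelta_hmap k hS q) fun x => ?_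
  · rcases hinj with rfl | h
    · exact CurveCoh17.hmap_f_injective k hS
    · exact fun x y _ => Subsingleton.elim x y
  · rcases hQ with h | h
    · obtain ⟨y, rfl⟩ := (CurveCoh17.exact_hmap_hmap k hS (q + 1) x).1 (Subsingleton.elim _ _)
      exact ⟨y, rfl⟩
    · exact ⟨0, Subsingleton.elim _ _⟩

end sequence

section projective

variable (k : Type u) [Field k] (m : ℕ)

theorem finrank_twist_h0 (a : ℤ) :
    Module.finrank k (Coh.HH (CohB1.ProjSpace m k) (_root_.Twist.twistProjSpace m k a) 0) =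
      if 0 < m ∨ 0 ≤ a then Nat.choose (a + m).toNat m else
        Module.finrank k (Coh.HH (CohB1.ProjSpace m k) (_root_.Twist.twistProjSpace m k a) 0) := by
  split_ifs with h
  · by_cases ha : 0 ≤ a
    · obtain ⟨d, rfl⟩ := Int.eq_ofNat_of_zero_le ha
      obtain ⟨e⟩ := S0843.result k m d
      rw [e.finrank_eq, S4466.finrank_forms, show ((d : ℤ) + m).toNat = m + d by omega]
    · haveI := S0844.result k m a 0 (fun h => ha h.2) (by omega)
      rw [Module.finrank_zero_of_subsingleton, Nat.choose_eq_zero_of_lt (by omega)]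
  · rfl

theorem finrank_twist_top (hm : 0 < m) (a : ℤ) :
    Module.finrank k (Coh.HH (CohB1.ProjSpace m k) (_root_.Twist.twistProjSpace m k a) m) =
      Nat.choose (-a - 1).toNat m := by
  by_cases ha : a ≤ -((m : ℤ) + 1)
  · obtain ⟨j, rfl⟩ : ∃ j : ℕ, a = -((m : ℤ) + 1 + j) := ⟨(-((m : ℤ) + 1) - a).toNat, by omega⟩
    obtain ⟨e⟩ := S0845.result k m j
    rw [e.finrank_eq, S4466.finrank_forms]
    congr 1
    omega
  · haveI := S0844.result k m a m (by omega) (fun h => ha h.2)
    rw [Module.finrank_zero_of_subsingleton, Nat.choose_eq_zero_of_lt (by omega)]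

/-- The cohomology of the twists of a hypersurface. -/
theorem hypersurface_cohomology (d c : ℕ) {m : ℕ} (hm : m = d + 1) (I : (CohB1.ProjSpace m k).IdealSheafData)
    (hI : Nonempty (ClSub.idealMod I ≅ _root_.Twist.twistProjSpace m k (-(c : ℤ)))) (a : ℤ) :
    let Q := CohB1.tensorMod (ClSub.quotMod I) (_root_.Twist.twistProjSpace m k a)
    (∀ p, d < p → Subsingleton (Coh.HH (CohB1.ProjSpace m k) Q p)) ∧
    (∀ p, p ≠ 0 → p < d → Subsingleton (Coh.HH (CohB1.ProjSpace m k) Q p)) ∧
    (∀ q, Module.Finite k (Coh.HH (CohB1.ProjSpace m k) Q q)) ∧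
    (0 < d → Module.finrank k (Coh.HH (CohB1.ProjSpace m k) Q 0) =
        Nat.choose (a + (m : ℕ)).toNat m - Nat.choose (a - c + (m : ℕ)).toNat m) ∧
    (0 < d → Module.finrank k (Coh.HH (CohB1.ProjSpace m k) Q d) =
        Nat.choose (-(a - c) - 1).toNat m - Nat.choose (-a - 1).toNat m) ∧
    (d = 0 → Module.finrank k (Coh.HH (CohB1.ProjSpace m k) Q 0) =
        (Nat.choose (a + (m : ℕ)).toNat m - Nat.choose (a - c + (m : ℕ)).toNat m) +
        (Nat.choose (-(a - c) - 1).toNat m - Nat.choose (-a - 1).toNat m)) := by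
  subst hm
  intro Q
  let D := projData k (d + 1)
  let P := CohB1.ProjSpace (d + 1) k
  haveI := isProper_projSpace k (n := d + 1)
  haveI : IsNoetherian P := CohFound.isNoetherian_of_isProper (P ↘ Spec (CommRingCat.of k))
  haveI : IsIntegral P := RegExt.isIntegral_projSpace (d + 1) k
  obtain ⟨i⟩ := hI
  have hS := D.shortExact_tw (M2.shortExact_idealMod I) a
  let S := (ShortComplex.mk (ClSub.idealModι I) (ClSub.toSubscheme I) (kernel.condition _)).map (M2.tensorR (D.O a))
  change S.ShortExact at hS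
  let e1 : S.X₁ ≅ D.O (a - c) :=
    M2.tensorIso i (Iso.refl _) ≪≫ D.add (-(c : ℤ)) a ≪≫ eqToIso (congrArg D.O (by ring))
  let e2 : S.X₂ ≅ D.O a := M2.tensorLUnit _
  have hi1 : PicF.IsInvertible S.X₁ := M2.isInvertible_of_iso e1.symm (D.inv _)
  have hi2 : PicF.IsInvertible S.X₂ := M2.isInvertible_of_iso e2.symm (D.inv _)
  haveI : Mono S.f := hS.mono_f
  obtain ⟨hQc, hQd⟩ := NumPoly18.dim_support_coker_of_mono (k := k) (X := P) (d := d)
    ((S10829.result k (d + 1)).le) hi1 hi2 S.f
  haveI : Epi S.g := hS.epi_g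
  let e3 : cokernel S.f ≅ S.X₃ := (cokernelIsCokernel S.f).coconePointUniqueUpToIso hS.gIsCokernel
  have h3 : Coh.IsCoh S.X₃ := CohFound.isCoh_of_iso e3 hQc
  have hbig : ∀ p, d < p → Subsingleton (Coh.HH P S.X₃ p) := fun p hp =>
    van_iso k e3 (NumPoly18.subsingleton_HH_of_support (k := k) hQc hQd hp)
  have hmid : ∀ (b : ℤ) p, p ≠ 0 → p < d + 1 → Subsingleton (Coh.HH P (D.O b) p) := fun b p h0 h1 =>
    S0844.result k (d + 1) b p (fun h => h0 h.1) (by omega)
  have h1 := Snapper.isCoh_of_isInvertible hi1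
  have h2 := Snapper.isCoh_of_isInvertible hi2
  have hA : ∀ p, Module.finrank k (Coh.HH P S.X₁ p) = Module.finrank k (Coh.HH P (D.O (a - c)) p) :=
    fun p => (CurveCoh17.hequiv k e1 p).finrank_eq
  have hB : ∀ p, Module.finrank k (Coh.HH P S.X₂ p) = Module.finrank k (Coh.HH P (D.O a) p) :=
    fun p => (CurveCoh17.hequiv k e2 p).finrank_eq
  have h00 := fun b => finrank_twist_h0 k (d + 1) b
  simp only [Nat.succ_pos, true_or, if_true] at h00
  have htop := fun b => finrank_twist_top k (d + 1) (Nat.succ_pos d) b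
  have z : ∀ (b : ℤ) p, p ≠ 0 → p < d + 1 → Module.finrank k (Coh.HH P (D.O b) p) = 0 := fun b p h0 h1 => by
    haveI := hmid b p h0 h1
    exact Module.finrank_zero_of_subsingleton
  refine ⟨hbig, fun p h0 hpd => ?_, fun q => CohFound.finite_HH_of_isProper (A := k) _ h3 q,
    fun hd => ?_, fun hd => ?_, fun hd => ?_⟩
  · exact van₃ k hS (van_iso k e2.symm (hmid a p h0 (by omega)))
      (van_iso k e1.symm (hmid (a - c) (p + 1) (by omega) (by omega)))
  · have := finrank_sequence k hS h2 h1 h3 0 (Or.inl rfl)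
      (Or.inr (van_iso k e2.symm (hmid a 1 (by omega) (by omega))))
    rw [hA, hA, hB, hB, z _ 1 one_ne_zero (by omega), z _ 1 one_ne_zero (by omega)] at this
    change Module.finrank k (Coh.HH P S.X₃ 0) = _
    rw [← h00, ← h00]
    have key : Module.finrank k (Coh.HH P (S.X₃) 0) + Module.finrank k (Coh.HH P (D.O (a - c)) 0) + 0 = Module.finrank k (Coh.HH P (D.O a) 0) + 0 := this
    show Module.finrank k (Coh.HH P (S.X₃) 0) = Module.finrank k (Coh.HH P (D.O a) 0) - Module.finrank k (Coh.HH P (D.O (a - c)) 0)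
    omega
  · have := finrank_sequence k hS h2 h1 h3 d (Or.inr (van_iso k e1.symm (hmid _ d (by omega) (by omega))))
      (Or.inl (hbig (d + 1) (by omega)))
    rw [hA, hA, hB, hB, z _ d (by omega) (by omega), z _ d (by omega) (by omega)] at this
    change Module.finrank k (Coh.HH P S.X₃ d) = _
    rw [← htop, ← htop]
    have key : Module.finrank k (Coh.HH P (S.X₃) d) + 0 + Module.finrank k (Coh.HH P (D.O a) (d + 1)) = 0 + Module.finrank k (Coh.HH P (D.O (a - c)) (d + 1)) := this
    show Module.finrank k (Coh.HH P (S.X₃) d) = Module.finrank k (Coh.HH P (D.O (a - c)) (d + 1)) - Module.finrank k (Coh.HH P (D.O a) (d + 1))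
    omega
  · subst hd
    have := finrank_sequence k hS h2 h1 h3 0 (Or.inl rfl) (Or.inl (hbig 1 Nat.one_pos))
    rw [hA, hA, hB, hB] at this
    change Module.finrank k (Coh.HH P S.X₃ 0) = _
    rw [← h00, ← h00, ← htop, ← htop]
    change _ = (Module.finrank k (Coh.HH P (D.O a) 0) - Module.finrank k (Coh.HH P (D.O (a - c)) 0)) +
      (Module.finrank k (Coh.HH P (D.O (a - c)) 1) - Module.finrank k (Coh.HH P (D.O a) 1))
    have e00 := Nat.choose_le_choose (0 + 1) (show (a - c + (0 + 1 : ℕ)).toNat ≤ (a + (0 + 1 : ℕ)).toNat by omega)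
    have e11 := Nat.choose_le_choose (0 + 1) (show (-a - 1).toNat ≤ (-(a - c) - 1).toNat by omega)
    rw [← h00, ← h00] at e00
    rw [← htop, ← htop] at e11
    have key : Module.finrank k (Coh.HH P (S.X₃) 0) + Module.finrank k (Coh.HH P (D.O (a - c)) 0) + Module.finrank k (Coh.HH P (D.O a) 1) = Module.finrank k (Coh.HH P (D.O a) 0) + Module.finrank k (Coh.HH P (D.O (a - c)) 1) := this
    show Module.finrank k (Coh.HH P (S.X₃) 0) = (Module.finrank k (Coh.HH P (D.O a) 0) - Module.finrank k (Coh.HH P (D.O (a - c)) 0)) + (Module.finrank k (Coh.HH P (D.O (a - c)) 1) - Module.finrank k (Coh.HH P (D.O a) 1))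
    change Module.finrank k (Coh.HH P (D.O (a - c)) 0) ≤ Module.finrank k (Coh.HH P (D.O a) 0) at e00
    change Module.finrank k (Coh.HH P (D.O a) 1) ≤ Module.finrank k (Coh.HH P (D.O (a - c)) 1) at e11
    omega

end projective

end Groth.Agent.CMReg18
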