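import Groth.Agent.Lib.CMReg18.Mumford
import Groth.Agent.Lib.CMReg18.EulerBinom
import Groth.Agent.Lib.CohBC18.Field
import Groth.Agent.Lib.CurveCoh17.AffPush
import Groth.Agent.Lib.CohFound.ProjRelVan
import Groth.Agent.Lib.ModLimH13.Flat
import Mathlib.FieldTheory.IsAlgClosed.AlgebraicClosure

/-!
# The uniform bound over every field
-/

set_option autoImplicit false
set_option linter.style.haveILetI false
set_option backward.isDefEq.respectTransparency false

universe u

open CategoryTheory CategoryTheory.Limits AlgebraicGeometry TopologicalSpace Opposite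

namespace Groth.Agent.CMReg18

open Groth.Agent

variable (k : Type u) [Field k] (K : Type u) [Field K] [Algebra k K] (n : ℕ)

/-- The projection from the larger field. -/
noncomputable abbrev bcMap : CohB1.ProjSpace n K ⟶ CohB1.ProjSpace n k := ProjSpace.map n (algebraMap k K)

theorem finrank_HH_pullback {M : (CohB1.ProjSpace n k).Modules} (hM : Coh.IsQCoh M) (i : ℕ) :
    Module.finrank K (Coh.HH (CohB1.ProjSpace n K) ((Scheme.Modules.pullback (bcMap k K n)).obj M) i) =
      Module.finrank k (Coh.HH (CohB1.ProjSpace n k) M i) := by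
  haveI := isProper_projSpace k (n := n)
  haveI : IsNoetherian (CohB1.ProjSpace n k) :=
    CohFound.isNoetherian_of_isProper (CohB1.ProjSpace n k ↘ Spec (CommRingCat.of k))
  letI : (Curv2.bc k (CohB1.ProjSpace n k) K).Over (Spec (CommRingCat.of K)) :=
    ⟨Curv2.bcSnd k (CohB1.ProjSpace n k) K⟩
  have H := ProjSpace.isPullback_map n (algebraMap k K)
  let j : CohB1.ProjSpace n K ⟶ Curv2.bc k (CohB1.ProjSpace n k) K := H.isoPullback.hom
  have hfst : j ≫ Curv2.bcFst k (CohB1.ProjSpace n k) K = bcMap k K n := H.isoPullback_hom_fst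
  have hsnd : j ≫ Curv2.bcSnd k (CohB1.ProjSpace n k) K = CohB1.ProjSpace.toSpec n K := H.isoPullback_hom_snd
  haveI : IsIso j := inferInstanceAs (IsIso H.isoPullback.hom)
  let M' := (Scheme.Modules.pullback (Curv2.bcFst k (CohB1.ProjSpace n k) K)).obj M
  have hM' : Coh.IsQCoh M' := M1.isQCoh_pullback _ hM
  haveI : IsIso ((Scheme.Modules.pullbackPushforwardAdjunction j).unit.app M') :=
    M1.isIso_unit_of_ker_smul j M' hM' fun U a ha s => by
      rw [j.ker_eq_bot_of_isIso] at ha
      rw [show a = 0 by simpa using ha, zero_smul]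
  haveI : ((Scheme.Modules.pullback j).obj M').IsQuasicoherent := M1.isQCoh_pullback j hM'
  obtain ⟨e1⟩ := CurveCoh17.nonempty_hequiv_push K j hsnd ((Scheme.Modules.pullback j).obj M') i
  let e2 := CurveCoh17.hequiv K (asIso ((Scheme.Modules.pullbackPushforwardAdjunction j).unit.app M')) i
  obtain ⟨e3⟩ := CohBC18.nonempty_HH_bc (k := k) (CohB1.ProjSpace n k) K M hM i
  let e4 := CurveCoh17.hequiv K ((Scheme.Modules.pullbackComp j (Curv2.bcFst k (CohB1.ProjSpace n k) K)).app M ≪≫
    (Scheme.Modules.pullbackCongr hfst).app M) i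
  exact e4.finrank_eq.symm.trans (e1.finrank_eq.symm.trans (e2.finrank_eq.symm.trans
    (e3.finrank_eq.symm.trans Module.finrank_baseChange)))

theorem exists_twist_pullback (r : ℤ) (M : (CohB1.ProjSpace n k).Modules) :
    Nonempty ((Scheme.Modules.pullback (bcMap k K n)).obj ((projData k n).tw M r) ≅
      (projData K n).tw ((Scheme.Modules.pullback (bcMap k K n)).obj M) r) := by
  obtain ⟨e⟩ := CohFound.nonempty_pullback_twistProjSpace n (algebraMap k K) r
  exact ⟨(M2.pullTensorIso _ _ _) ≪≫ M2.tensorIso (Iso.refl _) e⟩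

variable {k}

theorem freeMod_isReg (p : ℕ) : (projData k n).IsReg (FlatMod.freeMod (CohB1.ProjSpace n k) p) 0 := by
  intro i hi
  refine van_iso k (M2.freeModTensorIso _ p ((projData k n).O (0 - (i : ℤ)))).symm (van_sigma k _ fun _ => ?_)
  exact S0844.result k n _ i (by omega) (by omega)

theorem freeMod_h0 (p : ℕ) (m : ℤ) (hm : 0 ≤ m) :
    (Module.finrank k (Coh.HH (CohB1.ProjSpace n k)
      ((projData k n).tw (FlatMod.freeMod (CohB1.ProjSpace n k) p) m) 0) : ℤ) ≤ p * (m + n) ^ n := by
  obtain ⟨d, rfl⟩ := Int.eq_ofNat_of_zero_le hm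
  let e : (projData k n).tw (FlatMod.freeMod (CohB1.ProjSpace n k) p) (d : ℤ) ≅
      ⨁ fun _ : Fin p => (projData k n).O (d : ℤ) :=
    M2.freeModTensorIso _ p _ ≪≫ (biproduct.isoCoproduct _).symm
  haveI := (bdd_proj (k := k) (n := n) (Snapper.isCoh_of_isInvertible ((projData k n).inv (d : ℤ)))).fin 0
  rw [(CurveCoh17.hequiv k e 0).finrank_eq, biproduct_finrank k, Module.finrank_pi_fintype, Finset.sum_const,
    Finset.card_univ, Fintype.card_fin, smul_eq_mul, finrank_h0_twist]
  exact_mod_cast Nat.mul_le_mul_left p ((Nat.choose_le_pow (n + d) n).trans (le_of_eq (by rw [add_comm])))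

/-- The bound over any field. -/
theorem exists_bound (p n : ℕ) : ∃ P : MvPolynomial (Fin (n + 1)) ℤ,
    ∀ (k : Type u) [Field k] (F : (CohB1.ProjSpace n k).Modules), Coh.IsCoh F →
      ∀ ι : F ⟶ FlatMod.freeMod (CohB1.ProjSpace n k) p, Mono ι → ∀ a : Fin (n + 1) → ℤ,
      (∀ r : ℤ, Curv2.euler k (CohB1.ProjSpace n k) ((projData k n).tw F r) =
        ∑ j : Fin (n + 1), a j * Ring.choose r (j : ℕ)) → (projData k n).IsReg F (MvPolynomial.eval a P) := by
  obtain ⟨P, hP⟩ := exists_bound_poly.{u} p n n 0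
  refine ⟨P, fun k _ F hF ι hι a ha i hi => ?_⟩
  let K := AlgebraicClosure k
  let φ := bcMap k K n
  haveI := isProper_projSpace k (n := n)
  haveI := isProper_projSpace K (n := n)
  haveI : IsNoetherian (CohB1.ProjSpace n K) :=
    CohFound.isNoetherian_of_isProper (CohB1.ProjSpace n K ↘ Spec (CommRingCat.of K))
  haveI : Flat (Spec.map (CommRingCat.ofHom (algebraMap k K))) := by
    rw [HasRingHomProperty.Spec_iff (P := @Flat)]
    exact RingHom.flat_algebraMap_iff.mpr (inferInstance : Module.Flat k K)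
  haveI : Flat φ := MorphismProperty.of_isPullback (ProjSpace.isPullback_map n (algebraMap k K)).flip inferInstance
  let F' := (Scheme.Modules.pullback φ).obj F
  have hF' : Coh.IsCoh F' := M1.isCoh_pullback φ hF
  haveI := hι
  haveI := ModLimH13.mono_pullback_map_of_flat φ ι
  let ι' : F' ⟶ FlatMod.freeMod (CohB1.ProjSpace n K) p :=
    (Scheme.Modules.pullback φ).map ι ≫ (M2.freeModPullbackIso φ p).hom
  have ha' : ∀ r : ℤ, Curv2.euler K (CohB1.ProjSpace n K) ((projData K n).tw F' r) =
      ∑ j : Fin (n + 1), a j * Ring.choose (r + 0) (j : ℕ) := fun r => by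
    obtain ⟨e⟩ := exists_twist_pullback k K n r F
    rw [add_zero, ← euler_iso e, ← ha]
    exact finsum_congr fun q => by rw [finrank_HH_pullback k K n (isCoh_tw hF r).1 q]
  have h := hP K (FlatMod.freeMod (CohB1.ProjSpace n K) p) F'
    (CurveCoh17.isCoh_of_ofRank (M2.isFinLocFreeOfRank_freeMod _ p)) hF' ι' (mono_comp _ _)
    (freeMod_isReg n p) (freeMod_h0 n p) (NumPoly18.dim_support_le (S10829.result K n).le _) a ha' i hi
  obtain ⟨e⟩ := exists_twist_pullback k K n (MvPolynomial.eval a P - i) F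
  haveI := (projData k n).finite_HH k hF (MvPolynomial.eval a P - i) i
  refine (Module.finrank_zero_iff (R := k)).1 ?_
  rw [← finrank_HH_pullback k K n (isCoh_tw hF _).1 i, (CurveCoh17.hequiv K e i).finrank_eq]
  exact Module.finrank_zero_of_subsingleton

end Groth.Agent.CMReg18
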