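import Groth.Agent.Lib.CMReg18.UnifVan
import Groth.Agent.Lib.CurveCoh17.Skyscraper
import Groth.Agent.Lib.CMReg18.ProjTw
import Groth.Agent.Lib.CartExt13.Divisor
import Groth.Agent.Lib.TensorNat17.Basic

/-!
# Direct images of short exact sequences with acyclic kernel, and classes of large twists
-/

set_option autoImplicit false
set_option linter.style.haveILetI false
set_option backward.isDefEq.respectTransparency false
set_option maxHeartbeats 1600000

universe u

open CategoryTheory CategoryTheory.Limits AlgebraicGeometry TopologicalSpace Opposite Scheme.Modules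

namespace Groth.Agent.CMReg18

open Groth.Agent

/-- The direct image of a short exact sequence stays exact when the first term has no first direct image. -/
theorem shortExact_push_of_isZero {X S : Scheme.{u}} (f : X ⟶ S) [QuasiCompact f] [QuasiSeparated f]
    {T : ShortComplex X.Modules} (hT : T.ShortExact) (hq : Coh.IsQCoh T.X₁)
    (h : IsZero ((Coh.RpushAb f 1).obj (Coh.toAb T.X₁))) :
    (T.map (Scheme.Modules.pushforward f)).ShortExact := by
  haveI : (Scheme.Modules.pushforward f).IsRightAdjoint := (pullbackPushforwardAdjunction f).isRightAdjoint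
  haveI : (Scheme.Modules.pushforward f).Additive := (pullbackPushforwardAdjunction f).right_adjoint_additive
  haveI := hT.mono_f
  have he : Epi ((Scheme.Modules.pushforward f).map T.g) := by
    refine (M1.epi_iff_locally_surjective _).2 fun U t x hx => ?_
    obtain ⟨W, hW, hxW, hWU⟩ := Opens.isBasis_iff_nbhd.1 S.isBasis_affineOpens hx
    have hsur : Function.Surjective (T.g.app (f ⁻¹ᵁ W)) := by
      letI := CBC10.overU f (show IsAffineOpen (W : S.Opens) from hW)
      have h1 := (isZero_rpushAb_iff_affine f hq 1).1 h W hW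
      have hs := surjective_g Γ(S, W) (hS := hT.map_of_exact (Scheme.Modules.restrictFunctor (f ⁻¹ᵁ W).ι))
        (n := 0) h1
      intro y
      have key : ∀ V : X.Opens, V = f ⁻¹ᵁ W → (f ⁻¹ᵁ W).ι ''ᵁ ⊤ = V → ∀ y : Γ(T.X₃, V),
          ∃ z : Γ(T.X₂, V), T.g.app V z = y := by
        rintro V - rfl y
        let Z : Scheme.{u} := (f ⁻¹ᵁ W : X.Opens)
        obtain ⟨z, hz⟩ := hs ((CurveCoh17.hh0 (T.X₃.restrict (f ⁻¹ᵁ W).ι)).symm y)
        refine ⟨CurveCoh17.hh0 (T.X₂.restrict (f ⁻¹ᵁ W).ι) z, ?_⟩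
        have := congrArg (CurveCoh17.hh0 (T.X₃.restrict (f ⁻¹ᵁ W).ι)) hz
        rw [AddEquiv.apply_symm_apply] at this
        exact ((CurveCoh17.hh0_hmap Γ(S, W) _ z).symm.trans this)
      exact key _ rfl (by rw [Scheme.Hom.image_top_eq_opensRange, Scheme.Opens.opensRange_ι]) y
    obtain ⟨z, hz⟩ := hsur (M1.mres T.X₃ ((Opens.map f.base).map (homOfLE hWU)).le t)
    exact ⟨W, hWU, hxW, z, hz⟩
  haveI : PreservesFiniteLimits (Scheme.Modules.pushforward f) :=
    haveI : PreservesLimitsOfSize.{0, 0} (Scheme.Modules.pushforward f) :=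
      (pullbackPushforwardAdjunction f).rightAdjoint_preservesLimits
    PreservesLimitsOfSize.preservesFiniteLimits _
  exact ShortComplex.ShortExact.mk' (hT.exact.map_of_mono_of_preservesKernel _ hT.mono_f inferInstance)
    (inferInstanceAs (Mono ((Scheme.Modules.pushforward f).map T.f))) he

variable (r : ℕ) (S : Scheme.{u})

/-- The twisting data of relative projective space. -/
noncomputable abbrev overData : TwistData (CohB1.ProjSpaceOver r S) :=
  (projData (ULift.{u} ℤ) r).pullback
    (pullback.fst (CohB1.ProjSpace.toSpec r (ULift.{u} ℤ)) (specULiftZIsTerminal.from S))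

/-- The class of the direct image of a twist, on free generators. -/
noncomputable def pushClass (n : ℕ) :
    FreeAbelianGroup (Subtype (KRR.vbP (KRR.PY r S))) →+ SGA6.Kvb S :=
  FreeAbelianGroup.lift fun M =>
    KRR.cl S ((Scheme.Modules.pushforward (KRR.pr r S)).obj (KRR.twF r S (n : ℤ) M.1))

variable {r S} [CompactSpace ↥S]

theorem exists_acyclic_twist {M : (KRR.PY r S).Modules} (hM : FlatMod.IsFinLocFree M) :
    ∃ n₀ : ℕ, ∀ n : ℕ, n₀ ≤ n →
      IsZero ((Coh.RpushAb (KRR.pr r S) 1).obj (Coh.toAb (KRR.twF r S (n : ℤ) M))) ∧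
        FlatMod.IsFinLocFree ((Scheme.Modules.pushforward (KRR.pr r S)).obj (KRR.twF r S (n : ℤ) M)) := by
  haveI : IsProper (KRR.pr r S) := inferInstanceAs (IsProper (CohB1.ProjSpaceOver.toBase r S))
  haveI : Flat (KRR.pr r S) := inferInstanceAs (Flat (CohB1.ProjSpaceOver.toBase r S))
  have hF : CohB1.IsFP M := M1.isFP_of_isFinLocFree hM
  have hfl : FlatMod.IsFlatOver (KRR.pr r S) M :=
    DPerf.isFlatOver_of_isFlat _ (KFlat.Sch.isFlat_of_isFinLocFree hM)
  obtain ⟨N, hN⟩ := exists_forall_vanishing (f := KRR.pr r S) hF hfl (overData r S) (isRelAmple_O1 r S)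
  refine ⟨N, fun n hn => ?_⟩
  obtain ⟨h1, h2⟩ := isFinLocFree_push_of_vanishing (f := KRR.pr r S) (isFP_tensor_inv hF ((overData r S).inv n))
    (FlatTwist13.isFlatOver_tensor _ hfl ((overData r S).inv n)) fun s p hp => hN s n (Int.ofNat_le.2 hn) p hp
  let e : KRR.twF r S (n : ℤ) M ≅ (overData r S).tw M n := M2.tensorComm (Twist.twistOver r S (n : ℤ)) M
  exact ⟨(h2 1 le_rfl).of_iso ((Coh.RpushAb (KRR.pr r S) 1).mapIso ((SheafOfModules.toSheaf _).mapIso e)),
    M2.isFinLocFree_of_iso ((Scheme.Modules.pushforward (KRR.pr r S)).mapIso e.symm) h1⟩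

theorem exists_pushClass_eq_zero {x : FreeAbelianGroup (Subtype (KRR.vbP (KRR.PY r S)))}
    (hx : x ∈ KZero.relSub (KRR.vbP (KRR.PY r S))) :
    ∃ n₀ : ℕ, ∀ n : ℕ, n₀ ≤ n → pushClass r S n x = 0 := by
  induction hx using AddSubgroup.closure_induction with
  | zero => exact ⟨0, fun n _ => map_zero _⟩
  | add a b _ _ ha hb =>
    obtain ⟨A, hA⟩ := ha
    obtain ⟨B, hB⟩ := hb
    exact ⟨A + B, fun n hn => by rw [map_add, hA n (by omega), hB n (by omega), add_zero]⟩
  | neg a _ ha =>
    obtain ⟨A, hA⟩ := ha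
    exact ⟨A, fun n hn => by rw [map_neg, hA n hn, neg_zero]⟩
  | mem x hmem =>
    obtain ⟨T, h₁, h₂, h₃, hT, rfl⟩ := hmem
    obtain ⟨a₁, ha₁⟩ := exists_acyclic_twist (show FlatMod.IsFinLocFree T.X₁ from h₁)
    obtain ⟨a₂, ha₂⟩ := exists_acyclic_twist (show FlatMod.IsFinLocFree T.X₂ from h₂)
    obtain ⟨a₃, ha₃⟩ := exists_acyclic_twist (show FlatMod.IsFinLocFree T.X₃ from h₃)
    refine ⟨a₁ + a₂ + a₃, fun n hn => ?_⟩
    let O := Twist.twistOver r S (n : ℤ)
    have hO : PicF.IsInvertible O := (overData r S).inv n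
    let φ := (DCoh.tensorBi (X := KRR.PY r S)).obj O
    haveI : φ.Additive := inferInstance
    have hTn : (T.map φ).ShortExact := by
      refine ShortComplex.shortExact_of_iso ?_ ((overData r S).shortExact_tw hT n)
      exact ShortComplex.isoMk (M2.tensorComm _ _) (M2.tensorComm _ _) (M2.tensorComm _ _)
        (M2.tensorComm_natural T.f (𝟙 O)).symm (M2.tensorComm_natural T.g (𝟙 O)).symm
    have hq : Coh.IsQCoh (T.map φ).X₁ :=
      (M2.isQCoh_tensor (Twist.isQCoh_of_isInvertible hO) (M1.isFP_isQCoh (M1.isFP_of_isFinLocFree h₁)) :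
        Coh.IsQCoh (CohB1.tensorMod O T.X₁))
    have hp := shortExact_push_of_isZero (KRR.pr r S) hTn hq (ha₁ n (by omega)).1
    rw [map_sub, map_sub]
    simp only [pushClass, FreeAbelianGroup.lift_apply_of, KRR.cl, KZero.clSub]
    rw [dif_pos (show KRR.vbP S _ from (ha₂ n (by omega)).2), dif_pos (show KRR.vbP S _ from (ha₁ n (by omega)).2),
      dif_pos (show KRR.vbP S _ from (ha₃ n (by omega)).2)]
    rw [← QuotientAddGroup.mk_sub, ← QuotientAddGroup.mk_sub]
    exact (QuotientAddGroup.eq_zero_iff _).2 (AddSubgroup.subset_closure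
      ⟨(T.map φ).map (Scheme.Modules.pushforward (KRR.pr r S)), (ha₁ n (by omega)).2, (ha₂ n (by omega)).2,
        (ha₃ n (by omega)).2, hp, rfl⟩)

end Groth.Agent.CMReg18
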