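import Groth.Agent.Lib.CMReg18.RegPn
import Groth.Agent.Lib.CohFound.ProjRelVan
import Groth.Agent.Lib.CMReg18.FlatVanish
import Groth.Agent.Lib.CMReg18.FlatCrit

/-!
# The kernel of the generation map of a regular module
-/

set_option autoImplicit false
set_option linter.style.haveILetI false
set_option backward.isDefEq.respectTransparency false
set_option maxHeartbeats 1600000

universe u

open CategoryTheory CategoryTheory.Limits AlgebraicGeometry TopologicalSpace Opposite Scheme.Modules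

namespace Groth.Agent.CMReg18

open Groth.Agent

variable {n : ℕ} {Y : Scheme.{u}} [IsNoetherian Y]

/-- Vanishing of the twists of the unit over an affine open. -/
theorem subsingleton_HH_wdata_O {W : Y.Opens} (hW : IsAffineOpen W) (d : ℤ) (j : ℕ)
    (hj : ¬ ((j = 0 ∧ 0 ≤ d) ∨ (j = n ∧ d ≤ -((n : ℤ) + 1)))) :
    Subsingleton (Coh.HH (CohB1.ProjSpaceOver.toBase n Y ⁻¹ᵁ W : (CohB1.ProjSpaceOver n Y).Opens).toScheme
      ((wdata n W).O d) j) := by
  let π := CohB1.ProjSpaceOver.toBase n Y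
  letI := CBC10.overU π hW
  refine van_iso Γ(Y, W)
    ((Scheme.Modules.restrictFunctorIsoPullback (π ⁻¹ᵁ W).ι).app (_root_.Twist.twistOver n Y d)) ?_
  refine (CohFound.subsingleton_HH_iff _ _).2 ?_
  obtain ⟨e⟩ := CohFound.nonempty_hc_abF_restrict (π ⁻¹ᵁ W).ι (_root_.Twist.twistOver n Y d) j ⊤
  rw [Scheme.Hom.image_top_eq_opensRange, Scheme.Opens.opensRange_ι] at e
  exact @Equiv.subsingleton _ _ e.toEquiv (CohFound.subsingleton_hc_twistOver Y n j d hj hW)

/-- The first twist of the kernel is regular. -/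
theorem regSheaf_kernel {F : (KRR.PY n Y).Modules} (hF : Coh.IsCoh F) (h : KRR.IsRegSheaf n Y F) :
    KRR.IsRegSheaf n Y (KRR.twF n Y 1
      (kernel ((Scheme.Modules.pullbackPushforwardAdjunction (KRR.pr n Y)).counit.app F))) := by
  let π := CohB1.ProjSpaceOver.toBase n Y
  let adj := Scheme.Modules.pullbackPushforwardAdjunction π
  let N := (Scheme.Modules.pushforward π).obj F
  let ε := adj.counit.app F
  have hN : Coh.IsCoh N := isCoh_push π hF
  haveI : IsLocallyNoetherian (CohB1.ProjSpaceOver n Y) := LocallyOfFiniteType.isLocallyNoetherian π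
  haveI hepi : Epi ε := epi_counit_of_reg hF h
  have hK : Coh.IsCoh (kernel ε) := M1.isCoh_kernel (M1.isCoh_pullback π hN) hF.1 ε
  have hses : (ShortComplex.mk (kernel.ι ε) ε (kernel.condition ε)).ShortExact :=
    { exact := ShortComplex.exact_of_f_is_kernel _ (kernelIsKernel ε) }
  refine (isRegSheaf_iff (isQCoh_twF hK.1 1)).2 fun W hW i hi => ?_
  letI := CBC10.overU π hW
  haveI : IsAffine (W : Scheme.{u}) := hW
  haveI : IsNoetherian (W : Scheme.{u}) := { }
  let ιW := (π ⁻¹ᵁ W).ι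
  let D := wdata n W
  have hS := hses.map_of_exact (Scheme.Modules.restrictFunctor (π ⁻¹ᵁ W).ι)
  let d : ℤ := 1 - (i : ℤ)
  have hT := D.shortExact_tw hS d
  refine van_iso Γ(Y, W) (M2.tensorIso (wTwIso (kernel ε) 1 W) (Iso.refl _) ≪≫ D.twTwist _ _ _ ≪≫
    D.twIso _ (by simp only [d]; ring)).symm (?_ : Subsingleton (Coh.HH _ (D.tw ((kernel ε).restrict ιW) d) i))
  have hX2 : ∀ j, i ≤ j → Subsingleton (Coh.HH _
      (D.tw (((Scheme.Modules.pullback π).obj N).restrict ιW) d) j) := fun j hj => by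
    haveI : Flat (π ∣_ W) := inferInstance
    haveI : CompactSpace (π ⁻¹ᵁ W : (CohB1.ProjSpaceOver n Y).Opens).toScheme :=
      isCompact_iff_compactSpace.1 (RA.isCompact_preimage π hW)
    refine van_iso Γ(Y, W) (M2.tensorIso ?_ (Iso.refl _))
      (subsingleton_HH_pullback_tw (π ∣_ W) D Γ(Y, W) (d := d) (i := i)
        (fun j' hj' => subsingleton_HH_wdata_O hW d j' (by simp only [d]; omega))
        (M1.isCoh_pullback W.ι hN) j hj)
    exact (Scheme.Modules.pullbackComp (π ∣_ W) W.ι).app N ≪≫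
      (Scheme.Modules.pullbackCongr (morphismRestrict_ι π W)).app N ≪≫
      ((Scheme.Modules.pullbackComp ιW π).app N).symm ≪≫
      ((Scheme.Modules.restrictFunctorIsoPullback ιW).app _).symm
  obtain rfl | ⟨j, rfl⟩ : i = 1 ∨ ∃ j, i = j + 2 := by
    rcases Nat.lt_or_ge i 2 with hl | hl
    exacts [Or.inl (by omega), Or.inr ⟨i - 2, by omega⟩]
  · refine van_iso Γ(Y, W) (D.twIso _ (by simp [d]) ≪≫ D.twZero _).symm ?_
    have hsub : Subsingleton (Coh.HH _ (((Scheme.Modules.pullback π).obj N).restrict ιW) 1) :=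
      van_iso Γ(Y, W) (D.twIso _ (by simp [d]) ≪≫ D.twZero _) (hX2 1 le_rfl)
    refine subsingleton_of_forall_eq 0 fun x => ?_
    obtain ⟨y, rfl⟩ := (CurveCoh17.exact_hdelta_hmap Γ(Y, W) hS 0 x).1 (hsub.elim _ _)
    -- the sections surject
    let t : Γ(F.restrict ιW, ⊤) := CurveCoh17.hh0 _ y
    let t' : Γ(N, W) := M1.mres F (M1.image_ι_top (π ⁻¹ᵁ W)).ge t
    let u := adj.unit.app N
    let s₁ : Γ((Scheme.Modules.pullback π).obj N, π ⁻¹ᵁ W) := u.app W t'
    let s : Γ(((Scheme.Modules.pullback π).obj N).restrict ιW, ⊤) :=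
      M1.mres ((Scheme.Modules.pullback π).obj N) (M1.image_ι_top (π ⁻¹ᵁ W)).le s₁
    have hs : ((Scheme.Modules.restrictFunctor ιW).map ε).app ⊤ s = t := by
      show ε.app _ (M1.mres _ _ s₁) = t
      rw [M1.app_mres]
      have h2 : ε.app (π ⁻¹ᵁ W) s₁ = t' :=
        congrArg (fun φ : N ⟶ N => φ.app W t') (adj.right_triangle_components F)
      erw [h2]
      show M1.mres F _ (M1.mres F _ t) = t
      erw [M1.mres_mres, M1.mres_id]
    refine (CurveCoh17.exact_hmap_hdelta Γ(Y, W) hS 0 y).2 ⟨(CurveCoh17.hh0 _).symm s, (CurveCoh17.hh0 _).injective ?_⟩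
    rw [CurveCoh17.hh0_hmap, AddEquiv.apply_symm_apply]
    exact hs
  · refine van₁ Γ(Y, W) hT ?_ (hX2 _ le_rfl)
    refine van_iso Γ(Y, W) (D.twIso _ (by simp only [d]; push_cast; ring))
      ((isRegSheaf_iff hF.1).1 h W hW (j + 1) (by omega))

end Groth.Agent.CMReg18
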