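import Groth.Agent.Lib.CMReg18.Euler
import Groth.Agent.Lib.CMReg18.PushKvb
import Groth.Agent.Lib.CMReg18.RegKer
import Groth.Agent.Lib.CMReg18.FlatVanishAny
import Groth.Agent.Lib.DPerf.Top

/-!
# The push-forward on K-groups of bundles along a relative projective space
-/

set_option autoImplicit false
set_option linter.style.haveILetI false
set_option backward.isDefEq.respectTransparency false
set_option maxHeartbeats 1600000

universe u

open CategoryTheory CategoryTheory.Limits AlgebraicGeometry TopologicalSpace Opposite Scheme.Modules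

namespace Groth.Agent.CMReg18

open Groth.Agent

/-- Classes of isomorphic modules agree. -/
theorem clVb_iso {X : Scheme.{u}} {M M' : X.Modules} (e : M ≅ M') : KRR.cl X M = KRR.cl X M' := by
  classical
  have hb : BAdd (fun M : X.Modules => FlatMod.IsFinLocFree M) (fun M => KRR.cl X M) :=
    BAdd.of_ses (fun e h => M2.isFinLocFree_of_iso e h) (fun h => KFlat.Sch.isFinLocFree_of_isZero h)
      (fun h h' => KFlat.Sch.isFinLocFree_biprod h h') fun S hS h1 h2 h3 => K0Cat.clSub_ses S hS h1 h2 h3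
  by_cases h : FlatMod.IsFinLocFree M
  · exact hb.map_iso e h
  · simp only [KRR.cl, KZero.clSub]
    rw [dif_neg h, dif_neg fun h' => h (M2.isFinLocFree_of_iso e.symm h')]

variable {n : ℕ} {Y : Scheme.{u}}

variable (n Y) in
/-- Finite locally free with no higher direct images. -/
def IsAcyc (M : (KRR.PY n Y).Modules) : Prop :=
  FlatMod.IsFinLocFree M ∧ ∀ q : ℕ, 1 ≤ q → IsZero ((Coh.RpushAb (KRR.pr n Y) q).obj (Coh.toAb M))

variable (n Y) in
/-- The class of the direct image. -/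
noncomputable abbrev pushVb (M : (KRR.PY n Y).Modules) : SGA6.Kvb Y :=
  KRR.cl Y ((Scheme.Modules.pushforward (KRR.pr n Y)).obj M)

theorem pushVb_iso {M M' : (KRR.PY n Y).Modules} (e : M ≅ M') : pushVb n Y M = pushVb n Y M' :=
  clVb_iso ((Scheme.Modules.pushforward (KRR.pr n Y)).mapIso e)

theorem IsAcyc.of_iso {M M' : (KRR.PY n Y).Modules} (e : M ≅ M') (h : IsAcyc n Y M) : IsAcyc n Y M' :=
  ⟨M2.isFinLocFree_of_iso e h.1, fun q hq => (h.2 q hq).of_iso
    ((Coh.RpushAb (KRR.pr n Y) q).mapIso ((SheafOfModules.toSheaf _).mapIso e.symm))⟩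

theorem isFinLocFree_tw {M : (KRR.PY n Y).Modules} (hM : FlatMod.IsFinLocFree M) (e : ℤ) :
    FlatMod.IsFinLocFree ((overData n Y).tw M e) :=
  M2.isFinLocFree_tensor hM (M2.isFinLocFree_of_isInvertible ((overData n Y).inv e))

/-- The first cokernel in a short exact sequence. -/
theorem van_third {S : ShortComplex (KRR.PY n Y).Modules} (hS : S.ShortExact) (hq₁ : Coh.IsQCoh S.X₁)
    (hq₂ : Coh.IsQCoh S.X₂) (hq₃ : Coh.IsQCoh S.X₃) {q : ℕ}
    (h2 : IsZero ((Coh.RpushAb (KRR.pr n Y) q).obj (Coh.toAb S.X₂)))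
    (h1 : IsZero ((Coh.RpushAb (KRR.pr n Y) (q + 1)).obj (Coh.toAb S.X₁))) :
    IsZero ((Coh.RpushAb (KRR.pr n Y) q).obj (Coh.toAb S.X₃)) := by
  refine (isZero_rpushAb_iff_affine _ hq₃ q).2 fun W hW => ?_
  letI := CBC10.overU (KRR.pr n Y) hW
  exact van₃ Γ(Y, W) (hS.map_of_exact (Scheme.Modules.restrictFunctor (KRR.pr n Y ⁻¹ᵁ W).ι))
    ((isZero_rpushAb_iff_affine _ hq₂ q).1 h2 W hW) ((isZero_rpushAb_iff_affine _ hq₁ (q + 1)).1 h1 W hW)

theorem isZero_rpushAb_of_isZero {M : (KRR.PY n Y).Modules} (hM : IsZero M) (q : ℕ) :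
    IsZero ((Coh.RpushAb (KRR.pr n Y) q).obj (Coh.toAb M)) := by
  refine (isZero_rpushAb_iff_affine _ (M1.isFP_isQCoh (M1.isFP_of_isFinLocFree (KFlat.Sch.isFinLocFree_of_isZero hM))) q).2
    fun W hW => ?_
  letI := CBC10.overU (KRR.pr n Y) hW
  exact van_isZero Γ(Y, W) ((Scheme.Modules.restrictFunctor _).map_isZero hM) q

theorem bAdd_clP : BAdd (fun M : (KRR.PY n Y).Modules => FlatMod.IsFinLocFree M) (fun M => KRR.cl _ M) :=
  BAdd.of_ses (fun e h => M2.isFinLocFree_of_iso e h) (fun h => KFlat.Sch.isFinLocFree_of_isZero h)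
    (fun h h' => KFlat.Sch.isFinLocFree_biprod h h') fun S hS h1 h2 h3 => K0Cat.clSub_ses S hS h1 h2 h3

theorem isFinLocFree_bd (C : ChainComplex (KRR.PY n Y).Modules ℕ) (hC : ∀ x, ExactVia (M1.stalkAb x) C)
    (hX : ∀ s, FlatMod.IsFinLocFree (C.X s)) : ∀ j, FlatMod.IsFinLocFree (Bd C j) := by
  obtain ⟨he, hex⟩ := exact_of_exactVia C hC
  haveI := he
  haveI : Epi (Abelian.image.ι (C.d 1 0)) := epi_of_epi_fac (Abelian.image.fac (C.d 1 0))
  haveI : IsIso (Abelian.image.ι (C.d 1 0)) := isIso_of_mono_of_epi _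
  intro j
  induction j with
  | zero => exact M2.isFinLocFree_of_iso (asIso (Abelian.image.ι (C.d 1 0))).symm (hX 0)
  | succ j ih =>
    haveI : Epi (bdInCycles C j) := by
      haveI := (ShortComplex.exact_iff_epi_kernel_lift _).1 (hex j)
      refine epi_of_epi_fac (f := Abelian.factorThruImage (C.d (j + 2) (j + 1)))
        (h := kernel.lift (C.d (j + 1) j) (C.d (j + 2) (j + 1)) (C.d_comp_d _ _ _)) ?_
      simp [← cancel_mono (kernel.ι (C.d (j + 1) j))]
    haveI : IsIso (bdInCycles C j) := isIso_of_mono_of_epi _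
    exact M2.isFinLocFree_of_iso (asIso (bdInCycles C j)).symm
      (DPerf.isFinLocFree_kernel _ _ (cycles_comp C j) (shortExact_cycles C j) (hX (j + 1)) ih)

theorem isAcyc_bd (C : ChainComplex (KRR.PY n Y).Modules ℕ) (hC : ∀ x, ExactVia (M1.stalkAb x) C) {t : ℕ}
    (hb : ∀ s, t < s → IsZero (C.X s)) (hX : ∀ s, IsAcyc n Y (C.X s)) (j : ℕ) : IsAcyc n Y (Bd C j) := by
  obtain ⟨-, hex⟩ := exact_of_exactVia C hC
  have hf := isFinLocFree_bd C hC fun s => (hX s).1
  suffices H : ∀ r j, t + 1 - j ≤ r → IsAcyc n Y (Bd C j) from H _ j le_rfl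
  intro r
  induction r with
  | zero =>
    intro j hj
    exact ⟨hf j, fun q _ => isZero_rpushAb_of_isZero
      (IsZero.of_epi (Abelian.factorThruImage (C.d (j + 1) j)) (hb _ (by omega))) q⟩
  | succ r ih =>
    intro j hj
    refine ⟨hf j, fun q hq => ?_⟩
    haveI : Epi (bdInCycles C j) := by
      haveI := (ShortComplex.exact_iff_epi_kernel_lift _).1 (hex j)
      refine epi_of_epi_fac (f := Abelian.factorThruImage (C.d (j + 2) (j + 1)))
        (h := kernel.lift (C.d (j + 1) j) (C.d (j + 2) (j + 1)) (C.d_comp_d _ _ _)) ?_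
      simp [← cancel_mono (kernel.ι (C.d (j + 1) j))]
    haveI : IsIso (bdInCycles C j) := isIso_of_mono_of_epi _
    have hZ := (ih (j + 1) (by omega)).of_iso (asIso (bdInCycles C j))
    exact van_third (shortExact_cycles C j) (M1.isFP_isQCoh (M1.isFP_of_isFinLocFree hZ.1))
      (M1.isFP_isQCoh (M1.isFP_of_isFinLocFree (hX (j + 1)).1)) (M1.isFP_isQCoh (M1.isFP_of_isFinLocFree (hf j)))
      ((hX (j + 1)).2 q hq) (hZ.2 (q + 1) (by omega))

theorem nab_tw {X : Scheme.{u}} (D : TwistData X) {G : Type*} [AddCommGroup G] (M : X.Modules) :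
    ∀ (m : ℕ) (a : X.Modules → G), (∀ {A B : X.Modules}, (A ≅ B) → a A = a B) → ∀ e : ℤ,
      nab D.down a m (D.tw M e) = bd m (fun x => a (D.tw M x)) e
  | 0, _, _, _ => rfl
  | m + 1, a, ha, e => by
    simp only [nab, bd]
    rw [nab_tw D M m a ha e, nab_tw D M m (fun A => a (D.down.obj A)) (fun i => ha (D.down.mapIso i)) e,
      ← bd_shift (fun x => a (D.tw M x)) m e]
    exact congrArg _ (bd_congr m e fun x _ _ => ha (D.twTwist M x (-1) ≪≫ D.twIso M (by ring)))

/-- The recurrence from a Koszul complex. -/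
theorem bd_eq_zero {G : Type*} [AddCommGroup G] {P : (KRR.PY n Y).Modules → Prop}
    {a : (KRR.PY n Y).Modules → G} (hb : BAdd P a)
    (hses : ∀ S : ShortComplex (KRR.PY n Y).Modules, S.ShortExact → P S.X₁ → P S.X₂ → P S.X₃ →
      a S.X₂ = a S.X₁ + a S.X₃)
    (hiso : ∀ {A B : (KRR.PY n Y).Modules}, (A ≅ B) → a A = a B)
    (hBd : ∀ (C : ChainComplex (KRR.PY n Y).Modules ℕ), (∀ x, ExactVia (M1.stalkAb x) C) → ∀ (t : ℕ),
      (∀ s, t < s → IsZero (C.X s)) → (∀ s, P (C.X s)) → ∀ j, P (Bd C j))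
    (M : (KRR.PY n Y).Modules) (e : ℤ) (hP : ∀ x, e - (n + 1) ≤ x → x ≤ e → P ((overData n Y).tw M x)) :
    bd (n + 1) (fun x => a ((overData n Y).tw M x)) e = 0 := by
  let D := overData n Y
  have hlen : D.muls.length = n + 1 := List.length_ofFn
  have hj : ∀ j, j ≤ D.muls.length → P (tpow D.down (D.tw M e) j) := fun j hj =>
    hb.prop_iso (D.tpowIso M e j).symm (hP _ (by omega) (by omega))
  have hC : ∀ x, ExactVia (M1.stalkAb x) (koszul D.muls (D.tw M e)) := fun x => D.exactVia _ x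
  have hz : ∀ s, D.muls.length < s → IsZero ((koszul D.muls (D.tw M e)).X s) := fun s hs =>
    koszul_isZero _ _ _ hs
  have hX : ∀ s, P ((koszul D.muls (D.tw M e)).X s) := fun s =>
    if hs : s ≤ D.muls.length then
      koszul_ind D.muls P hb.prop_iso (fun _ => hb.prop_zero) (fun _ _ => hb.prop_biprod) _ s (hj s hs)
    else hb.prop_zero (hz s (by omega))
  have h := eul_eq_zero hb hses _ hz hC hX (hBd _ hC _ hz hX)
  rw [eul_koszul D.muls P a hb (D.tw M e) hj, nab_tw D M _ a hiso, hlen] at h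
  exact h

theorem bd_clP_eq_zero (M : (KRR.PY n Y).Modules) (hM : FlatMod.IsFinLocFree M) (e : ℤ) :
    bd (n + 1) (fun x => KRR.cl _ ((overData n Y).tw M x)) e = 0 :=
  bd_eq_zero bAdd_clP (fun S hS h1 h2 h3 => K0Cat.clSub_ses S hS h1 h2 h3) (fun e => clVb_iso e)
    (fun C hC _ _ hX j => isFinLocFree_bd C hC hX j) M e fun x _ _ => isFinLocFree_tw hM x

/-- Large twists of bundles are acyclic, indeed regular. -/
theorem exists_acyc [CompactSpace Y] {M : (KRR.PY n Y).Modules} (hM : FlatMod.IsFinLocFree M) :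
    ∃ N : ℕ, ∀ x : ℤ, (N : ℤ) ≤ x →
      IsAcyc n Y ((overData n Y).tw M x) ∧ KRR.IsRegSheaf n Y ((overData n Y).tw M x) := by
  classical
  let π := CohB1.ProjSpaceOver.toBase n Y
  haveI : IsProper π := inferInstance
  have hF : CohB1.IsFP M := M1.isFP_of_isFinLocFree hM
  have hfl : FlatMod.IsFlatOver π M := DPerf.isFlatOver_of_isFlat _ (KFlat.Sch.isFlat_of_isFinLocFree hM)
  obtain ⟨N, hN⟩ := exists_forall_vanishing (f := π) hF hfl (overData n Y) (isRelAmple_O1 n Y)
  choose V d hsV hV using fun s => exists_nhd_dim_fiber_le π s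
  obtain ⟨t, ht⟩ := isCompact_univ.elim_finite_subcover (fun s => (V s : Set Y)) (fun s => (V s).isOpen)
    fun s _ => Set.mem_iUnion.2 ⟨s, hsV s⟩
  have hfp : ∀ x, CohB1.IsFP ((overData n Y).tw M x) := fun x => isFP_tensor_inv hF ((overData n Y).inv x)
  have hflx : ∀ x, FlatMod.IsFlatOver π ((overData n Y).tw M x) := fun x =>
    FlatTwist13.isFlatOver_tensor _ hfl ((overData n Y).inv x)
  refine ⟨N + t.sup d, fun x hx => ⟨⟨isFinLocFree_tw hM x, fun q hq =>
    isZero_rpushAb_of_fibres (f := π) (hfp x) (hflx x) q fun s => hN s x (by push_cast at hx; omega) q hq⟩,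
      fun i hi => ?_⟩⟩
  let e : KRR.twF n Y (-(i : ℤ)) ((overData n Y).tw M x) ≅ (overData n Y).tw M (x + -(i : ℤ)) :=
    M2.tensorComm (Twist.twistOver n Y (-(i : ℤ))) _ ≪≫ (overData n Y).twTwist M x _
  refine IsZero.of_iso ?_ ((Coh.RpushAb (KRR.pr n Y) i).mapIso ((SheafOfModules.toSheaf _).mapIso e))
  refine isZero_rpushAb_of_fibres (f := π) (hfp _) (hflx _) i fun s => ?_
  by_cases hid : i ≤ t.sup d
  · exact hN s _ (by push_cast at hx; omega) i hi
  · obtain ⟨s₀, hs₀, hs⟩ := Set.mem_iUnion₂.1 (ht (Set.mem_univ s))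
    haveI : Coh.IsQCoh ((overData n Y).tw M (x + -(i : ℤ))) := M1.isFP_isQCoh (hfp _)
    exact CBC10.subsingleton_fiberH_of_dim s (hV s₀ s hs) (by
      have := Finset.le_sup (f := d) hs₀
      omega)

/-- The direct image of an acyclic bundle is a bundle. -/
theorem IsAcyc.push {M : (KRR.PY n Y).Modules} (h : IsAcyc n Y M) :
    FlatMod.IsFinLocFree ((Scheme.Modules.pushforward (KRR.pr n Y)).obj M) := by
  let π := CohB1.ProjSpaceOver.toBase n Y
  haveI : IsProper π := inferInstance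
  have hF : CohB1.IsFP M := M1.isFP_of_isFinLocFree h.1
  have hfl : FlatMod.IsFlatOver π M := DPerf.isFlatOver_of_isFlat π (KFlat.Sch.isFlat_of_isFinLocFree h.1)
  exact (isFinLocFree_push_of_vanishing (f := π) hF hfl fun s _ hp =>
    subsingleton_fiberH_of_rpush (f := π) hF hfl hp (fun q hq => h.2 q (hp.trans hq)) s).1

theorem pushVb_ses (S : ShortComplex (KRR.PY n Y).Modules) (hS : S.ShortExact) (h1 : IsAcyc n Y S.X₁)
    (h2 : IsAcyc n Y S.X₂) (h3 : IsAcyc n Y S.X₃) : pushVb n Y S.X₂ = pushVb n Y S.X₁ + pushVb n Y S.X₃ :=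
  K0Cat.clSub_ses _ (shortExact_push_of_isZero (KRR.pr n Y) hS
    (M1.isFP_isQCoh (M1.isFP_of_isFinLocFree h1.1)) (h1.2 1 le_rfl)) h1.push h2.push h3.push

theorem bAdd_push : BAdd (IsAcyc n Y) (pushVb n Y) :=
  BAdd.of_ses (fun e h => h.of_iso e)
    (fun hX => ⟨KFlat.Sch.isFinLocFree_of_isZero hX, fun q _ => isZero_rpushAb_of_isZero hX q⟩)
    (fun {A B} hA hB => ⟨KFlat.Sch.isFinLocFree_biprod hA.1 hB.1, fun q hq => by
      refine (isZero_rpushAb_iff_affine _ (M1.isFP_isQCoh (M1.isFP_of_isFinLocFree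
        (KFlat.Sch.isFinLocFree_biprod hA.1 hB.1))) q).2 fun W hW => ?_
      letI := CBC10.overU (KRR.pr n Y) hW
      exact van₂ Γ(Y, W) ((ShortComplex.Splitting.ofHasBinaryBiproduct A B).shortExact.map_of_exact
          (Scheme.Modules.restrictFunctor (KRR.pr n Y ⁻¹ᵁ W).ι))
        ((isZero_rpushAb_iff_affine _ (M1.isFP_isQCoh (M1.isFP_of_isFinLocFree hA.1)) q).1 (hA.2 q hq) W hW)
        ((isZero_rpushAb_iff_affine _ (M1.isFP_isQCoh (M1.isFP_of_isFinLocFree hB.1)) q).1 (hB.2 q hq) W hW)⟩)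
    pushVb_ses

theorem bd_push_eq_zero (M : (KRR.PY n Y).Modules) (e : ℤ)
    (hP : ∀ x, e - (n + 1) ≤ x → x ≤ e → IsAcyc n Y ((overData n Y).tw M x)) :
    bd (n + 1) (fun x => pushVb n Y ((overData n Y).tw M x)) e = 0 :=
  bd_eq_zero bAdd_push pushVb_ses (fun e => pushVb_iso e) (fun C hC _ hz hX j => isAcyc_bd C hC hz hX j) M e hP

variable [CompactSpace Y]

variable (n Y) in
/-- The extrapolated class on generators. -/
noncomputable def approx (d : ℕ) : FreeAbelianGroup (Subtype (KRR.vbP (KRR.PY n Y))) →+ SGA6.Kvb Y :=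
  evalZero n (fun x => FreeAbelianGroup.lift fun M : Subtype (KRR.vbP (KRR.PY n Y)) =>
    pushVb n Y ((overData n Y).tw M.1 x)) d

theorem approx_apply (d : ℕ) (z : FreeAbelianGroup (Subtype (KRR.vbP (KRR.PY n Y)))) :
    approx n Y d z = evalZero n (fun x => (FreeAbelianGroup.lift fun M : Subtype (KRR.vbP (KRR.PY n Y)) =>
      pushVb n Y ((overData n Y).tw M.1 x)) z) d :=
  map_evalZero (AddMonoidHom.eval z) n (fun x => FreeAbelianGroup.lift fun M : Subtype (KRR.vbP (KRR.PY n Y)) =>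
    pushVb n Y ((overData n Y).tw M.1 x)) d

theorem approx_of (d : ℕ) (M : Subtype (KRR.vbP (KRR.PY n Y))) :
    approx n Y d (FreeAbelianGroup.of M) = evalZero n (fun x => pushVb n Y ((overData n Y).tw M.1 x)) d := by
  rw [approx_apply]
  simp only [FreeAbelianGroup.lift_apply_of]

theorem exists_const (z : FreeAbelianGroup (Subtype (KRR.vbP (KRR.PY n Y)))) :
    ∃ (c : SGA6.Kvb Y) (N : ℕ), ∀ d, N ≤ d → approx n Y d z = c := by
  induction z using FreeAbelianGroup.induction_on with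
  | zero => exact ⟨0, 0, fun d _ => map_zero _⟩
  | of M =>
    obtain ⟨N, hN⟩ := exists_acyc (show FlatMod.IsFinLocFree M.1 from M.2)
    refine ⟨approx n Y (N + n) (FreeAbelianGroup.of M), N + n, fun d hd => ?_⟩
    induction d, hd using Nat.le_induction with
    | base => rfl
    | succ d hd ih =>
      rw [← ih, approx_of, approx_of, evalZero_succ,
        bd_push_eq_zero _ _ fun x h1 _ => (hN x (by omega)).1, smul_zero, add_zero]
  | neg M h =>
    obtain ⟨c, N, hN⟩ := h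
    exact ⟨-c, N, fun d hd => by rw [map_neg, hN d hd]⟩
  | add a b ha hb =>
    obtain ⟨ca, Na, ha⟩ := ha
    obtain ⟨cb, Nb, hb⟩ := hb
    exact ⟨ca + cb, Na + Nb, fun d hd => by rw [map_add, ha d (by omega), hb d (by omega)]⟩

variable (n Y) in
/-- The limit of the extrapolations. -/
noncomputable def freePush : FreeAbelianGroup (Subtype (KRR.vbP (KRR.PY n Y))) →+ SGA6.Kvb Y where
  toFun z := (exists_const z).choose
  map_zero' := by
    obtain ⟨N, hN⟩ := (exists_const (n := n) (Y := Y) 0).choose_spec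
    exact (hN N le_rfl).symm.trans (map_zero _)
  map_add' a b := by
    obtain ⟨N, hN⟩ := (exists_const (a + b)).choose_spec
    obtain ⟨Na, ha⟩ := (exists_const a).choose_spec
    obtain ⟨Nb, hb⟩ := (exists_const b).choose_spec
    rw [← hN (N + Na + Nb) (by omega), map_add, ha _ (by omega), hb _ (by omega)]

theorem exists_freePush (z : FreeAbelianGroup (Subtype (KRR.vbP (KRR.PY n Y)))) :
    ∃ N : ℕ, ∀ d, N ≤ d → approx n Y d z = freePush n Y z :=
  (exists_const z).choose_spec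

theorem freePush_rel : KZero.relSub (KRR.vbP (KRR.PY n Y)) ≤ (freePush n Y).ker := fun z hz => by
  obtain ⟨N, hN⟩ := exists_freePush z
  obtain ⟨N', hN'⟩ := exists_pushClass_eq_zero hz
  rw [AddMonoidHom.mem_ker, ← hN (N + N' + n) (by omega), approx_apply]
  refine (evalZero_congr (h' := fun _ => 0) n _ fun x h1 _ => ?_).trans ?_
  · obtain ⟨m, rfl⟩ : ∃ m : ℕ, x = m := ⟨x.toNat, by omega⟩
    have e : (FreeAbelianGroup.lift fun M : Subtype (KRR.vbP (KRR.PY n Y)) =>
        pushVb n Y ((overData n Y).tw M.1 (m : ℤ))) = pushClass n Y m :=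
      FreeAbelianGroup.lift_ext _ _ fun M => by
        rw [FreeAbelianGroup.lift_apply_of, pushClass, FreeAbelianGroup.lift_apply_of]
        exact pushVb_iso (M2.tensorComm _ _)
    rw [e]
    exact hN' m (by omega)
  · exact (map_evalZero (0 : SGA6.Kvb Y →+ SGA6.Kvb Y) n (fun _ => 0) _).symm

variable (n Y) in
/-- The push-forward on classes of bundles. -/
noncomputable def kPush : SGA6.Kvb (KRR.PY n Y) →+ SGA6.Kvb Y :=
  QuotientAddGroup.lift _ (freePush n Y) freePush_rel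

theorem exists_kPush_eq {M : (KRR.PY n Y).Modules} (hM : FlatMod.IsFinLocFree M) :
    ∃ N : ℕ, ∀ d, N ≤ d →
      kPush n Y (KRR.cl _ M) = evalZero n (fun x => pushVb n Y ((overData n Y).tw M x)) d := by
  obtain ⟨N, hN⟩ := exists_freePush (FreeAbelianGroup.of (⟨M, hM⟩ : Subtype (KRR.vbP (KRR.PY n Y))))
  refine ⟨N, fun d hd => ?_⟩
  rw [← approx_of d ⟨M, hM⟩, hN d hd]
  simp only [KRR.cl, KZero.clSub]
  rw [dif_pos (show KRR.vbP _ M from hM)]
  rfl

/-- On bundles whose non-negative twists are acyclic it is the direct image. -/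
theorem kPush_cl {M : (KRR.PY n Y).Modules} (hM : FlatMod.IsFinLocFree M)
    (h : ∀ x : ℤ, 0 ≤ x → IsAcyc n Y ((overData n Y).tw M x)) :
    kPush n Y (KRR.cl _ M) = pushVb n Y M := by
  obtain ⟨N, hN⟩ := exists_kPush_eq hM
  rw [hN N le_rfl, evalZero_eq _ n N fun e he _ => bd_push_eq_zero M e fun x h1 _ => h x (by omega)]
  exact pushVb_iso ((overData n Y).twZero M)

theorem isAcyc_tw_of_reg {M : (KRR.PY n Y).Modules} (hM : FlatMod.IsFinLocFree M) (h : KRR.IsRegSheaf n Y M)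
    {x : ℤ} (hx : 0 ≤ x) : IsAcyc n Y ((overData n Y).tw M x) := by
  obtain ⟨m, rfl⟩ : ∃ m : ℕ, x = m := ⟨x.toNat, by omega⟩
  have hq : Coh.IsQCoh M := M1.isFP_isQCoh (M1.isFP_of_isFinLocFree hM)
  have h' := (regSheaf_twist (isQCoh_twF hq m) ((regSheaf_twist hq h).1 m)).2
  let e : KRR.twF n Y (m : ℤ) M ≅ (overData n Y).tw M m := M2.tensorComm (Twist.twistOver n Y (m : ℤ)) M
  exact IsAcyc.of_iso e ⟨M2.isFinLocFree_of_iso e.symm (isFinLocFree_tw hM m), h'⟩

theorem kPush_cl_of_reg {M : (KRR.PY n Y).Modules} (hM : FlatMod.IsFinLocFree M) (h : KRR.IsRegSheaf n Y M) :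
    kPush n Y (KRR.cl _ M) = pushVb n Y M :=
  kPush_cl hM fun _ hx => isAcyc_tw_of_reg hM h hx

/-- Homomorphisms agreeing on regular bundles agree. -/
theorem hom_ext_reg {G : Type*} [AddCommGroup G] {f g : SGA6.Kvb (KRR.PY n Y) →+ G}
    (h : ∀ M : (KRR.PY n Y).Modules, FlatMod.IsFinLocFree M → KRR.IsRegSheaf n Y M →
      f (KRR.cl _ M) = g (KRR.cl _ M)) : f = g := by
  refine AddMonoidHom.ext fun x => ?_
  induction x using K0Cat.clSub_induction with
  | h0 => rw [map_zero, map_zero]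
  | hneg a ha => rw [map_neg, map_neg, ha]
  | hadd a b ha hb => rw [map_add, map_add, ha, hb]
  | hcl M hM =>
    obtain ⟨N, hN⟩ := exists_acyc (show FlatMod.IsFinLocFree M from hM)
    have hM0 : KRR.cl _ M = evalZero n (fun x => KRR.cl _ ((overData n Y).tw M x)) (N + n) := by
      rw [evalZero_eq _ n (N + n) fun e _ _ => bd_clP_eq_zero M hM e]
      exact clVb_iso ((overData n Y).twZero M).symm
    show f (KRR.cl _ M) = g (KRR.cl _ M)
    rw [hM0, map_evalZero, map_evalZero]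
    exact evalZero_congr n _ fun x h1 _ => h _ (isFinLocFree_tw hM x) (hN x (by omega)).2

end Groth.Agent.CMReg18
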