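import Groth.Agent.Lib.CMReg18.KRRPush
import Groth.Agent.Lib.PicPn.OverPoint
import Groth.Agent.Lib.TwistBC9.H0Push
import Groth.Agent.Lib.AmpleFin18.ProjFree
import Groth.Agent.Lib.StQC14.FinPushGen

/-!
# Direct images of the twists of the unit; the push-forward on models
-/

set_option autoImplicit false
set_option linter.style.haveILetI false
set_option backward.isDefEq.respectTransparency false
set_option maxHeartbeats 1600000

universe v u

open CategoryTheory CategoryTheory.Limits AlgebraicGeometry TopologicalSpace Opposite Scheme.Modules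

namespace Groth.Agent.CMReg18

open Groth.Agent

variable {n : ℕ} {Y : Scheme.{u}}

variable (n Y) in
/-- The twists of the unit. -/
noncomputable def twUnitIso (d : ℤ) :
    (overData n Y).tw (Coh.structureModule (KRR.PY n Y)) d ≅ Twist.twistOver n Y d :=
  M2.tensorLUnit _

theorem isAcyc_twistOver {d : ℤ} (hd : -(n : ℤ) ≤ d) : IsAcyc n Y (Twist.twistOver n Y d) :=
  ⟨M2.isFinLocFree_of_isInvertible ((overData n Y).inv d), fun q hq =>
    CohFound.isZero_rpushAb_twistOver Y n q d (by omega)⟩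

theorem isAcyc_tw_twF {d x : ℤ} (hd : -(n : ℤ) ≤ d) (hx : 0 ≤ x) :
    IsAcyc n Y ((overData n Y).tw (KRR.twF n Y d (Coh.structureModule (KRR.PY n Y))) x) :=
  (isAcyc_twistOver (show -(n : ℤ) ≤ d + x by omega)).of_iso
    (M2.tensorIso (M2.tensorComm (Twist.twistOver n Y d) _) (Iso.refl _) ≪≫
      (overData n Y).twTwist (Coh.structureModule (KRR.PY n Y)) d x ≪≫ twUnitIso n Y _).symm

theorem isFinLocFree_twF_unit (d : ℤ) : FlatMod.IsFinLocFree (KRR.twF n Y d (Coh.structureModule (KRR.PY n Y))) :=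
  M2.isFinLocFree_of_iso (M2.tensorRUnit (Twist.twistOver n Y d)).symm
    (M2.isFinLocFree_of_isInvertible ((overData n Y).inv d))

theorem isRegSheaf_unit : KRR.IsRegSheaf n Y (Coh.structureModule (KRR.PY n Y)) := fun i hi =>
  (CohFound.isZero_rpushAb_twistOver Y n i (-(i : ℤ)) (by omega)).of_iso
    ((Coh.RpushAb (KRR.pr n Y) i).mapIso ((SheafOfModules.toSheaf _).mapIso
      (M2.tensorRUnit (Twist.twistOver n Y (-(i : ℤ))))))

theorem isZero_push_twistOver {d : ℤ} (hd : d < 0) (hd' : -(n : ℤ) ≤ d) :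
    IsZero ((Scheme.Modules.pushforward (KRR.pr n Y)).obj (Twist.twistOver n Y d)) := by
  rw [IsZero.iff_id_eq_zero]
  refine StQC14.hom_eq_zero_of_affine _ fun W hW m => ?_
  letI := CBC10.overU (KRR.pr n Y) hW
  have h0 := (isZero_rpushAb_iff_affine (KRR.pr n Y) (Twist.isQCoh_twistOver n Y d) 0).1
    (CohFound.isZero_rpushAb_twistOver Y n 0 d (by omega)) W hW
  haveI : Subsingleton Γ((Twist.twistOver n Y d).restrict (KRR.pr n Y ⁻¹ᵁ W).ι, ⊤) :=
    (CurveCoh17.hh0 _).symm.toEquiv.subsingleton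
  have key : ∀ V : (KRR.PY n Y).Opens, (KRR.pr n Y ⁻¹ᵁ W).ι ''ᵁ ⊤ = V →
      ∀ z : Γ(Twist.twistOver n Y d, V), z = 0 := by
    rintro V rfl z
    exact Subsingleton.elim (α := Γ((Twist.twistOver n Y d).restrict (KRR.pr n Y ⁻¹ᵁ W).ι, ⊤)) z 0
  exact key _ (by rw [Scheme.Hom.image_top_eq_opensRange, Scheme.Opens.opensRange_ι]) m

variable [CompactSpace Y]

theorem kPush_twF_unit {d : ℤ} (hd : -(n : ℤ) ≤ d) :
    kPush n Y (KRR.cl _ (KRR.twF n Y d (Coh.structureModule (KRR.PY n Y)))) = pushVb n Y (Twist.twistOver n Y d) :=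
  (kPush_cl (isFinLocFree_twF_unit d) fun _ hx => isAcyc_tw_twF hd hx).trans
    (pushVb_iso (M2.tensorRUnit _))

theorem pushVb_twistOver_neg {d : ℤ} (hd : d < 0) (hd' : -(n : ℤ) ≤ d) :
    pushVb n Y (Twist.twistOver n Y d) = 0 :=
  K0Cat.clSub_of_isZero (isZero_push_twistOver hd hd')
    (KFlat.Sch.isFinLocFree_of_isZero (isZero_push_twistOver hd hd'))

omit [CompactSpace Y] in
theorem pushVb_unit : pushVb n Y (Coh.structureModule (KRR.PY n Y)) = KRR.cl Y (Coh.structureModule Y) :=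
  clVb_iso (TwistBC9.nonempty_push_structureModule _ (PicPn.bijective_toBase_app n (S := Y))).some

theorem pushVb_twistOver_nat (m : ℕ) :
    pushVb n Y (Twist.twistOver n Y (m : ℤ)) = (n + m).choose m • KRR.cl Y (Coh.structureModule Y) := by
  let h : ℤ → SGA6.Kvb Y := fun x => pushVb n Y (Twist.twistOver n Y x)
  have hh : ∀ x, pushVb n Y ((overData n Y).tw (Coh.structureModule (KRR.PY n Y)) x) = h x :=
    fun x => pushVb_iso (twUnitIso n Y x)
  have := bd_eq_choose n (h := h) (fun i h1 h2 => pushVb_twistOver_neg h2 h1) (fun e he => by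
    rw [bd_congr (n + 1) e fun x _ _ => (hh x).symm]
    exact bd_push_eq_zero _ e fun x h1 _ => (isAcyc_twistOver (by push_cast at h1; omega)).of_iso (twUnitIso n Y x).symm)
    n le_rfl m
  rw [Nat.sub_self] at this
  refine this.trans ?_
  rw [show (m + n).choose n = (n + m).choose m by rw [add_comm m n, Nat.choose_symm_add]]
  refine congrArg _ ((pushVb_iso ?_).trans pushVb_unit)
  exact (overData n Y).zero

section Model

variable {KP : Type v} [CommRing KP] [LambdaRing.LambdaOps KP] {PP : LambdaRing.PosStructure KP}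
  {φP : SGA6.Kvb (KRR.PY n Y) →+ KP}
  {KY : Type v} [CommRing KY] [LambdaRing.LambdaOps KY] {φY : SGA6.Kvb Y →+ KY}

theorem existsUnique_pushPr (hKP : KRR.IsModel (KRR.PY n Y) KP PP φP) :
    ∃! g : KP →+ KY, KRR.IsPushPr n Y φP φY g := by
  let ψ := AddEquiv.ofBijective φP hKP.bijective
  have hψ : ∀ a, ψ.symm (φP a) = a := ψ.symm_apply_apply
  refine ⟨φY.comp ((kPush n Y).comp ψ.symm.toAddMonoidHom), fun F hF hreg => ?_, fun g hg => ?_⟩
  · show φY (kPush n Y (ψ.symm (φP _))) = _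
    rw [hψ, kPush_cl_of_reg hF hreg]
  · refine AddMonoidHom.ext fun x => ?_
    obtain ⟨a, rfl⟩ := hKP.bijective.2 x
    show g (φP a) = φY (kPush n Y (ψ.symm (φP a)))
    rw [hψ]
    exact DFunLike.congr_fun (hom_ext_reg (f := g.comp φP) (g := φY.comp (kPush n Y)) fun M hM hreg => by
      show g (φP _) = φY (kPush n Y _)
      rw [kPush_cl_of_reg hM hreg]
      exact hg M hM hreg) a

theorem push_eq_kPush {g : KP →+ KY} (hg : KRR.IsPushPr n Y φP φY g) (a : SGA6.Kvb (KRR.PY n Y)) :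
    g (φP a) = φY (kPush n Y a) :=
  DFunLike.congr_fun (hom_ext_reg (f := g.comp φP) (g := φY.comp (kPush n Y)) fun M hM hreg => by
    show g (φP _) = φY (kPush n Y _)
    rw [kPush_cl_of_reg hM hreg]
    exact hg M hM hreg) a

end Model

end Groth.Agent.CMReg18
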