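import Groth.Agent.Lib.CMReg18.KRRPushO

/-!
# The projection formula for the push-forward on K-groups
-/

set_option autoImplicit false
set_option linter.style.haveILetI false
set_option backward.isDefEq.respectTransparency false
set_option maxHeartbeats 1600000

universe v u

open CategoryTheory CategoryTheory.Limits AlgebraicGeometry TopologicalSpace Opposite Scheme.Modules

namespace Groth.Agent.CMReg18

open Groth.Agent

variable {n : ℕ} {Y : Scheme.{u}} [CompactSpace Y]
  {KY : Type v} [CommRing KY] [LambdaRing.LambdaOps KY] {PY : LambdaRing.PosStructure KY}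
  {φY : SGA6.Kvb Y →+ KY}

theorem pushVb_tw_pull (hKY : KRR.IsModel Y KY PY φY) {M : (KRR.PY n Y).Modules} {E : Y.Modules}
    (hE : FlatMod.IsFinLocFree E) {x : ℤ} (hx : IsAcyc n Y ((overData n Y).tw M x)) :
    φY (pushVb n Y ((overData n Y).tw
      (((DCoh.tensorBi (X := KRR.PY n Y)).obj M).obj ((Scheme.Modules.pullback (KRR.pr n Y)).obj E)) x)) =
      φY (pushVb n Y ((overData n Y).tw M x)) * φY (KRR.cl Y E) := by
  let P := (Scheme.Modules.pullback (KRR.pr n Y)).obj E
  let e : (overData n Y).tw (((DCoh.tensorBi (X := KRR.PY n Y)).obj M).obj P) x ≅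
      CohB1.tensorMod P ((overData n Y).tw M x) :=
    M2.tensorIso (M2.tensorComm M P) (Iso.refl _) ≪≫ M2.tensorAssoc P M _
  haveI := AmpleFin18.isIso_projHom_of_locFree (KRR.pr n Y) E ((overData n Y).tw M x) hE
  let e' := (Scheme.Modules.pushforward (KRR.pr n Y)).mapIso e ≪≫
    (asIso (AmpleFin18.projHom (KRR.pr n Y) E ((overData n Y).tw M x))).symm ≪≫ M2.tensorComm _ _
  exact (congrArg φY (clVb_iso e')).trans (hKY.map_mul _ _ hx.push hE).symm

theorem kPush_mul_pull (hKY : KRR.IsModel Y KY PY φY) {M : (KRR.PY n Y).Modules} (hM : FlatMod.IsFinLocFree M)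
    {E : Y.Modules} (hE : FlatMod.IsFinLocFree E) :
    φY (kPush n Y (KRR.cl _
      (((DCoh.tensorBi (X := KRR.PY n Y)).obj M).obj ((Scheme.Modules.pullback (KRR.pr n Y)).obj E)))) =
      φY (kPush n Y (KRR.cl _ M)) * φY (KRR.cl Y E) := by
  have hM' : FlatMod.IsFinLocFree
      (((DCoh.tensorBi (X := KRR.PY n Y)).obj M).obj ((Scheme.Modules.pullback (KRR.pr n Y)).obj E)) :=
    M2.isFinLocFree_tensor hM (M2.isFinLocFree_pullback _ hE)
  obtain ⟨N, hN⟩ := exists_kPush_eq hM
  obtain ⟨N', hN'⟩ := exists_kPush_eq hM'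
  obtain ⟨N'', hN''⟩ := exists_acyc hM
  rw [hN (N + N' + N'' + n) (by omega), hN' (N + N' + N'' + n) (by omega), map_evalZero, map_evalZero]
  refine Eq.trans ?_ (map_evalZero (AddMonoidHom.mulRight (φY (KRR.cl Y E))) n _ _).symm
  exact evalZero_congr n _ fun x h1 _ => pushVb_tw_pull hKY hE (hN'' x (by omega)).1

end Groth.Agent.CMReg18
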