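import Mathlib.Algebra.Homology.HomologicalComplex
import Mathlib.CategoryTheory.Preadditive.AdditiveFunctor
import Mathlib.CategoryTheory.Abelian.Basic
import Mathlib.Algebra.Category.Grp.Abelian

/-!
# Koszul complexes of a family of natural transformations `T ⟶ 𝟭`

For an additive endofunctor `T` of an abelian category and natural transformations `η : T ⟶ 𝟭`, the iterated
cones of the `η`'s on an object `F`. They are exact wherever one of the `η`'s is invertible.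
-/

set_option autoImplicit false
set_option backward.isDefEq.respectTransparency false

universe v u w

open CategoryTheory CategoryTheory.Limits ZeroObject

namespace Groth.Agent.CMReg18

variable {A : Type u} [Category.{v} A] [Abelian A] {T : A ⥤ A}

/-- The component of a transformation to the identity. -/
noncomputable abbrev ap (η : T ⟶ 𝟭 A) (M : A) : T.obj M ⟶ M := η.app M

theorem ap_nat (η : T ⟶ 𝟭 A) {M N : A} (f : M ⟶ N) : T.map f ≫ ap η N = ap η M ≫ f := η.naturality f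

/-- The terms of the cone of `η` on a complex. -/
@[reducible] noncomputable def coneX (T : A ⥤ A) (C : ChainComplex A ℕ) : ℕ → A
  | 0 => C.X 0
  | j + 1 => C.X (j + 1) ⊞ T.obj (C.X j)

noncomputable def coneD (η : T ⟶ 𝟭 A) (C : ChainComplex A ℕ) : ∀ j, coneX T C (j + 1) ⟶ coneX T C j
  | 0 => biprod.desc (C.d 1 0) (ap η (C.X 0))
  | j + 1 => biprod.desc (C.d (j + 2) (j + 1) ≫ biprod.inl)
      (ap η (C.X (j + 1)) ≫ biprod.inl - T.map (C.d (j + 1) j) ≫ biprod.inr)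

variable [T.Additive]

theorem coneD_sq (η : T ⟶ 𝟭 A) (C : ChainComplex A ℕ) : ∀ j, coneD η C (j + 1) ≫ coneD η C j = 0
  | 0 => by
    refine biprod.hom_ext' _ _ ?_ ?_
    · simp [coneD]
    · simp [coneD, ap_nat η]
  | j + 1 => by
    refine biprod.hom_ext' _ _ ?_ ?_
    · simp [coneD]
    · have h : T.map (C.d (j + 2) (j + 1)) ≫ T.map (C.d (j + 1) j) = 0 := by
        rw [← T.map_comp, C.d_comp_d, T.map_zero]
      simp [coneD, reassoc_of% h]

/-- The cone of `η` on a complex. -/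
noncomputable def cone (η : T ⟶ 𝟭 A) (C : ChainComplex A ℕ) : ChainComplex A ℕ :=
  ChainComplex.of (coneX T C) (coneD η C) (coneD_sq η C)

noncomputable def pointX (F : A) : ℕ → A
  | 0 => F
  | _ + 1 => 0

/-- The Koszul complex of a list of natural transformations on an object. -/
noncomputable def koszul : List (T ⟶ 𝟭 A) → A → ChainComplex A ℕ
  | [], F => ChainComplex.of (pointX F) (fun _ => 0) fun _ => comp_zero
  | η :: l, F => cone η (koszul l F)

theorem koszul_X_zero (F : A) : ∀ l : List (T ⟶ 𝟭 A), (koszul l F).X 0 = F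
  | [] => rfl
  | _ :: l => koszul_X_zero F l

theorem cone_d (η : T ⟶ 𝟭 A) (C : ChainComplex A ℕ) (j : ℕ) : (cone η C).d (j + 1) j = coneD η C j :=
  by simp [cone]

/-- The powers of the endofunctor. -/
def tpow (T : A ⥤ A) (F : A) : ℕ → A
  | 0 => F
  | j + 1 => T.obj (tpow T F j)

/-- The powers respect isomorphisms. -/
def tpowMap (T : A ⥤ A) {F G : A} (e : F ≅ G) : ∀ j, tpow T F j ≅ tpow T G j
  | 0 => e
  | j + 1 => T.mapIso (tpowMap T e j)

/-- A property stable under isomorphisms, zero objects and sums passes to the terms. -/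
theorem koszul_ind : ∀ (l : List (T ⟶ 𝟭 A)) (Q : A → Prop), (∀ {a b : A}, (a ≅ b) → Q a → Q b) →
    (∀ a : A, IsZero a → Q a) → (∀ a b : A, Q a → Q b → Q (a ⊞ b)) →
    ∀ (F : A) (j : ℕ), Q (tpow T F j) → Q ((koszul l F).X j)
  | [], Q, _, hz, _, F, 0, h => h
  | [], Q, _, hz, _, F, _ + 1, _ => hz _ (isZero_zero A : IsZero (0 : A))
  | _ :: l, Q, hi, hz, ha, F, 0, h => koszul_ind l Q hi hz ha F 0 h
  | _ :: l, Q, hi, hz, ha, F, j + 1, h =>
    ha _ _ (koszul_ind l Q hi hz ha F (j + 1) h) (koszul_ind l (fun a => Q (T.obj a))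
      (fun e => hi (T.mapIso e)) (fun a h => hz _ (T.map_isZero h))
      (fun a b h1 h2 =>
        haveI := preservesBinaryBiproducts_of_preservesBiproducts T
        hi (T.mapBiprod a b).symm (ha _ _ h1 h2)) F j h)

theorem koszul_isZero : ∀ (l : List (T ⟶ 𝟭 A)) (F : A) (j : ℕ), l.length < j → IsZero ((koszul l F).X j)
  | [], _, _ + 1, _ => (isZero_zero A : IsZero (0 : A))
  | _ :: l, F, j + 1, h => by
    simp only [List.length_cons, Nat.add_lt_add_iff_right] at h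
    exact (biprod_isZero_iff _ _).2 ⟨koszul_isZero l F (j + 1) (by omega),
      T.map_isZero (koszul_isZero l F j h)⟩

/-- The last differential is built from the transformations at the object. -/
theorem koszul_d_ind : ∀ (l : List (T ⟶ 𝟭 A)) (F : A) (R : ∀ G : A, (G ⟶ F) → Prop),
    (∀ G, R G 0) → (∀ (G : A) (f g : G ⟶ F), R G f → R G g → R G (f + g)) →
    (∀ (G H : A) (u : G ⟶ H) (f : H ⟶ F), R H f → R G (u ≫ f)) →
    (∀ η ∈ l, R _ (ap η F)) → R _ ((koszul l F).d 1 0 ≫ eqToHom (koszul_X_zero F l))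
  | [], F, R, h0, _, _, _ => by
    rw [show (koszul ([] : List (T ⟶ 𝟭 A)) F).d 1 0 = 0 from
      (koszul_isZero _ _ 1 (by simp)).eq_of_src _ _, zero_comp]
    exact h0 _
  | η :: l, F, R, h0, ha, hc, hm => by
    have h1 := koszul_d_ind l F R h0 ha hc fun θ hθ => hm θ (List.mem_cons_of_mem η hθ)
    have h2 := hm η List.mem_cons_self
    have h : coneD η (koszul l F) 0 ≫ eqToHom (koszul_X_zero F l) =
        (biprod.fst : (koszul l F).X 1 ⊞ T.obj ((koszul l F).X 0) ⟶ _) ≫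
            ((koszul l F).d 1 0 ≫ eqToHom (koszul_X_zero F l)) +
          ((biprod.snd : (koszul l F).X 1 ⊞ T.obj ((koszul l F).X 0) ⟶ _) ≫
            T.map (eqToHom (koszul_X_zero F l))) ≫ ap η F := by
      rw [Category.assoc, ap_nat]
      refine biprod.hom_ext' _ _ ?_ ?_ <;> simp [coneD]
    show R _ ((cone η (koszul l F)).d 1 0 ≫ eqToHom (koszul_X_zero F l))
    rw [cone_d, h]
    exact ha _ _ _ (hc _ _ _ _ h1) (hc _ _ _ _ h2)

section Exact

variable (Φ : A ⥤ AddCommGrpCat.{w}) [Φ.Additive]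

/-- Elementwise exactness of a complex after applying `Φ`. -/
def ExactVia (C : ChainComplex A ℕ) : Prop :=
  (∀ y, ∃ x, Φ.map (C.d 1 0) x = y) ∧
    ∀ (j : ℕ) (x), Φ.map (C.d (j + 1) j) x = 0 → ∃ y, Φ.map (C.d (j + 2) (j + 1)) y = x

/-- `η` is invertible for `Φ`. -/
def Good (η : T ⟶ 𝟭 A) : Prop := ∀ M, Function.Bijective (Φ.map (ap η M))

theorem map_comp_apply {a b c : A} (f : a ⟶ b) (g : b ⟶ c) (x) :
    Φ.map (f ≫ g) x = Φ.map g (Φ.map f x) := by
  rw [Φ.map_comp]; rfl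

theorem map_add_apply {a b : A} (f g : a ⟶ b) (x) : Φ.map (f + g) x = Φ.map f x + Φ.map g x := by
  rw [Φ.map_add]; rfl

theorem map_sub_apply {a b : A} (f g : a ⟶ b) (x) : Φ.map (f - g) x = Φ.map f x - Φ.map g x := by
  rw [Φ.map_sub]; rfl

theorem map_zero_apply {a b : A} (x) : Φ.map (0 : a ⟶ b) x = 0 := by
  rw [Φ.map_zero]; rfl

theorem biprod_decomp {a b : A} (x : Φ.obj (a ⊞ b)) :
    x = Φ.map (biprod.inl : a ⟶ a ⊞ b) (Φ.map (biprod.fst : a ⊞ b ⟶ a) x) +
      Φ.map (biprod.inr : b ⟶ a ⊞ b) (Φ.map (biprod.snd : a ⊞ b ⟶ b) x) := by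
  rw [← map_comp_apply, ← map_comp_apply, ← map_add_apply, biprod.total, Φ.map_id]
  rfl

theorem coneD_zero_apply (η : T ⟶ 𝟭 A) (C : ChainComplex A ℕ) (p : Φ.obj (C.X 1)) (q : Φ.obj (T.obj (C.X 0))) :
    Φ.map (coneD η C 0) (Φ.map (biprod.inl : _ ⟶ C.X 1 ⊞ T.obj (C.X 0)) p +
      Φ.map (biprod.inr : _ ⟶ C.X 1 ⊞ T.obj (C.X 0)) q) = Φ.map (C.d 1 0) p + Φ.map (ap η (C.X 0)) q := by
  show Φ.map (biprod.desc _ _) _ = _
  rw [map_add, ← map_comp_apply, ← map_comp_apply, biprod.inl_desc, biprod.inr_desc]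

theorem coneD_succ_apply (η : T ⟶ 𝟭 A) (C : ChainComplex A ℕ) (j : ℕ) (p : Φ.obj (C.X (j + 2)))
    (q : Φ.obj (T.obj (C.X (j + 1)))) :
    Φ.map (coneD η C (j + 1)) (Φ.map (biprod.inl : _ ⟶ C.X (j + 2) ⊞ T.obj (C.X (j + 1))) p +
      Φ.map (biprod.inr : _ ⟶ C.X (j + 2) ⊞ T.obj (C.X (j + 1))) q) =
    Φ.map (biprod.inl : _ ⟶ C.X (j + 1) ⊞ T.obj (C.X j))
        (Φ.map (C.d (j + 2) (j + 1)) p + Φ.map (ap η (C.X (j + 1))) q) +
      Φ.map (biprod.inr : _ ⟶ C.X (j + 1) ⊞ T.obj (C.X j)) (- Φ.map (T.map (C.d (j + 1) j)) q) := by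
  show Φ.map (biprod.desc _ _) _ = _
  rw [map_add, ← map_comp_apply, ← map_comp_apply, biprod.inl_desc, biprod.inr_desc, map_comp_apply,
    map_sub_apply, map_comp_apply, map_comp_apply, map_add, map_neg]
  abel

theorem fst_pair {a b : A} (p : Φ.obj a) (q : Φ.obj b) :
    Φ.map (biprod.fst : a ⊞ b ⟶ a)
      (Φ.map (biprod.inl : a ⟶ a ⊞ b) p + Φ.map (biprod.inr : b ⟶ a ⊞ b) q) = p := by
  rw [map_add, ← map_comp_apply, ← map_comp_apply, biprod.inl_fst, biprod.inr_fst, Φ.map_id, map_zero_apply,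
    add_zero]
  rfl

theorem snd_pair {a b : A} (p : Φ.obj a) (q : Φ.obj b) :
    Φ.map (biprod.snd : a ⊞ b ⟶ b)
      (Φ.map (biprod.inl : a ⟶ a ⊞ b) p + Φ.map (biprod.inr : b ⟶ a ⊞ b) q) = q := by
  rw [map_add, ← map_comp_apply, ← map_comp_apply, biprod.inl_snd, biprod.inr_snd, Φ.map_id, map_zero_apply,
    zero_add]
  rfl

theorem map_nat_apply (η : T ⟶ 𝟭 A) {M N : A} (f : M ⟶ N) (x : Φ.obj (T.obj M)) :
    Φ.map (ap η N) (Φ.map (T.map f) x) = Φ.map f (Φ.map (ap η M) x) := by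
  rw [← map_comp_apply, ← map_comp_apply, ap_nat]

/-- Exactness of the cone in terms of its differentials. -/
theorem coneD_exact (η : T ⟶ 𝟭 A) (C : ChainComplex A ℕ)
    (h : Good Φ η ∨ (ExactVia Φ C ∧ ∃ θ : T ⟶ 𝟭 A, Good Φ θ)) :
    (∀ y : Φ.obj (coneX T C 0), ∃ x, Φ.map (coneD η C 0) x = y) ∧
      ∀ (j : ℕ) (x : Φ.obj (coneX T C (j + 1))), Φ.map (coneD η C j) x = 0 →
        ∃ y, Φ.map (coneD η C (j + 1)) y = x := by
  refine ⟨fun y => ?_, fun j x hx => ?_⟩
  · rcases h with h | ⟨⟨hC, -⟩, -⟩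
    · obtain ⟨b, hb⟩ := (h (C.X 0)).2 y
      exact ⟨_, (coneD_zero_apply Φ η C 0 b).trans (by rw [map_zero, zero_add]; exact hb)⟩
    · obtain ⟨a, ha⟩ := hC y
      exact ⟨_, (coneD_zero_apply Φ η C a 0).trans (by rw [map_zero, add_zero]; exact ha)⟩
  · obtain ⟨a, b, rfl⟩ : ∃ a b, x = Φ.map (biprod.inl : _ ⟶ C.X (j + 1) ⊞ T.obj (C.X j)) a +
        Φ.map (biprod.inr : _ ⟶ C.X (j + 1) ⊞ T.obj (C.X j)) b := ⟨_, _, biprod_decomp Φ x⟩
    have hab : Φ.map (C.d (j + 1) j) a + Φ.map (ap η (C.X j)) b = 0 ∧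
        ∀ i, j = i + 1 → Φ.map (T.map (C.d j i)) b = 0 := by
      rcases j with _ | j
      · exact ⟨(coneD_zero_apply Φ η C a b).symm.trans hx, fun i hi => absurd hi (by omega)⟩
      · have h0 := (coneD_succ_apply Φ η C j a b).symm.trans hx
        have h1 := congrArg (Φ.map (biprod.fst : C.X (j + 1) ⊞ T.obj (C.X j) ⟶ _)) h0
        have h2 := congrArg (Φ.map (biprod.snd : C.X (j + 1) ⊞ T.obj (C.X j) ⟶ _)) h0
        rw [fst_pair, map_zero] at h1
        rw [snd_pair, map_zero] at h2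
        refine ⟨h1, fun i hi => ?_⟩
        obtain rfl : i = j := by omega
        exact neg_eq_zero.1 h2
    rcases h with h | ⟨⟨hC0, hC⟩, θ, hθ⟩
    · obtain ⟨q, hq⟩ := (h (C.X (j + 1))).2 a
      refine ⟨_, (coneD_succ_apply Φ η C j 0 q).trans ?_⟩
      rw [map_zero, zero_add, hq]
      congr 2
      refine (h (C.X j)).1 ?_
      rw [map_neg, map_nat_apply, hq]
      exact neg_eq_iff_add_eq_zero.2 hab.1
    · obtain ⟨c, hc⟩ : ∃ c, Φ.map (C.d (j + 1) j) c = Φ.map (ap θ (C.X j)) b := by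
        rcases j with _ | j
        · exact hC0 _
        · refine hC j _ ?_
          rw [← map_nat_apply, hab.2 j rfl, map_zero]
      obtain ⟨q, hq⟩ := (hθ (C.X (j + 1))).2 c
      have hqb : Φ.map (T.map (C.d (j + 1) j)) q = b := (hθ (C.X j)).1 (by
        rw [map_nat_apply, hq]
        exact hc)
      obtain ⟨p, hp⟩ := hC j (a + Φ.map (ap η (C.X (j + 1))) q) (by
        rw [map_add, ← map_nat_apply, hqb]
        exact hab.1)
      refine ⟨_, (coneD_succ_apply Φ η C j p (-q)).trans ?_⟩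
      simp only [map_neg, hp, hqb, neg_neg, add_neg_cancel_right]

/-- The cone is exact where `η` is invertible, and where the complex is. -/
theorem exactVia_cone (η : T ⟶ 𝟭 A) (C : ChainComplex A ℕ)
    (h : Good Φ η ∨ (ExactVia Φ C ∧ ∃ θ : T ⟶ 𝟭 A, Good Φ θ)) : ExactVia Φ (cone η C) := by
  obtain ⟨h0, h1⟩ := coneD_exact Φ η C h
  refine ⟨fun y => ?_, fun j x hx => ?_⟩
  · rw [cone_d]
    exact h0 y
  · rw [cone_d] at hx ⊢
    exact h1 j x hx

/-- The Koszul complex is exact where one of the transformations is invertible. -/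
theorem exactVia_koszul : ∀ (l : List (T ⟶ 𝟭 A)) (F : A), (∃ η ∈ l, Good Φ η) → ExactVia Φ (koszul l F)
  | [], _, h => absurd h (by simp)
  | η :: l, F, h => by
    by_cases hη : Good Φ η
    · exact exactVia_cone Φ η _ (Or.inl hη)
    · obtain ⟨θ, hθ, hg⟩ := h
      rcases List.mem_cons.1 hθ with rfl | hθl
      · exact absurd hg hη
      · exact exactVia_cone Φ η _ (Or.inr ⟨exactVia_koszul l F ⟨θ, hθl, hg⟩, θ, hg⟩)

end Exact

end Groth.Agent.CMReg18
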