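import Groth.Agent.Lib.CMReg18.KvbFreeAcyc
import Groth.Agent.Lib.RegSeq23.Basic

/-!
# The K-group of bundles on a relative projective space is free on the twists
-/

set_option autoImplicit false
set_option linter.style.haveILetI false
set_option backward.isDefEq.respectTransparency false
set_option maxHeartbeats 1600000

universe u

open CategoryTheory CategoryTheory.Limits AlgebraicGeometry TopologicalSpace Opposite Scheme.Modules

namespace Groth.Agent.CMReg18

open Groth.Agent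

theorem bd_eq_zero_left {G : Type*} [AddCommGroup G] (h : ℤ → G) :
    ∀ (m : ℕ) (e : ℤ), (∀ x, e - m < x → x ≤ e → h x = 0) → bd m h e = (-1 : ℤ) ^ m • h (e - m)
  | 0, e, _ => by simp [bd]
  | m + 1, e, hx => by
    have h1 : bd m h e = 0 := by
      rw [bd_eq_zero_left h m e fun x a b => hx x (by push_cast; omega) b]
      rw [hx (e - m) (by push_cast; omega) (by omega), smul_zero]
    simp only [bd]
    rw [h1, bd_eq_zero_left h m (e - 1) fun x a b => hx x (by push_cast; omega) (by omega), zero_sub,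
      show e - 1 - (m : ℤ) = e - ((m + 1 : ℕ) : ℤ) by push_cast; ring, pow_succ, mul_neg_one, neg_smul]

/-- A sequence killed by the difference operator and vanishing on a window vanishes. -/
theorem eq_zero_of_bd {G : Type*} [AddCommGroup G] (h : ℤ → G) (n : ℕ) (hbd : ∀ e, bd (n + 1) h e = 0)
    (hwin : ∀ i : ℕ, i ≤ n → h i = 0) (e : ℤ) : h e = 0 := by
  suffices H : ∀ k : ℕ, ∀ x : ℤ, -(k : ℤ) ≤ x → x ≤ (n : ℤ) + k → h x = 0 from H e.natAbs e (by omega) (by omega)
  intro k
  induction k with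
  | zero =>
    intro x a b
    obtain ⟨i, rfl⟩ : ∃ i : ℕ, x = i := ⟨x.toNat, by omega⟩
    exact hwin i (by omega)
  | succ k ih =>
    intro x a b
    by_cases hlo : -(k : ℤ) ≤ x
    · by_cases hhi : x ≤ (n : ℤ) + k
      · exact ih x hlo hhi
      · have := hbd x
        rwa [bd_eq_self h (n + 1) x fun y c d => ih y (by push_cast at *; omega) (by push_cast at *; omega)] at this
    · have h2 := hbd (x + ((n + 1 : ℕ) : ℤ))
      rw [bd_eq_zero_left h (n + 1) _ fun y c d => ih y (by push_cast at *; omega) (by push_cast at *; omega),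
        show x + ((n + 1 : ℕ) : ℤ) - ((n + 1 : ℕ) : ℤ) = x by ring] at h2
      rcases Nat.even_or_odd (n + 1) with hp | hp
      · rwa [hp.neg_one_pow, one_smul] at h2
      · rwa [hp.neg_one_pow, neg_smul, one_smul, neg_eq_zero] at h2

variable {n : ℕ} {Y : Scheme.{u}}

variable (n Y) in
/-- Twisting on classes. -/
noncomputable def twHom (d : ℤ) : SGA6.Kvb (KRR.PY n Y) →+ SGA6.Kvb (KRR.PY n Y) :=
  K0Cat.liftSub (fun M => KRR.cl _ ((overData n Y).tw M.1 d)) fun _ h₁ h₂ h₃ hS =>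
    K0Cat.clSub_ses _ ((overData n Y).shortExact_tw hS d) (isFinLocFree_tw h₁ d) (isFinLocFree_tw h₂ d)
      (isFinLocFree_tw h₃ d)

theorem twHom_cl (d : ℤ) {M : (KRR.PY n Y).Modules} (hM : FlatMod.IsFinLocFree M) :
    twHom n Y d (KRR.cl _ M) = KRR.cl _ ((overData n Y).tw M d) :=
  K0Cat.liftSub_clSub _ _ hM

/-- The class of a twist of a pulled back bundle. -/
noncomputable abbrev clTP (d : ℤ) (N : Y.Modules) : SGA6.Kvb (KRR.PY n Y) :=
  KRR.cl _ ((overData n Y).tw (pl n N) d)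

theorem kPush_clTP [CompactSpace Y] {N : Y.Modules} (hN : FlatMod.IsFinLocFree N) {d : ℤ} (hd : -(n : ℤ) ≤ d) :
    kPush n Y (clTP d N) = pushVb n Y ((overData n Y).tw (pl n N) d) :=
  kPush_cl (isFinLocFree_tw (isFinLocFree_pl hN) d) fun x hx =>
    (isAcyc_tw_pl hN (show -(n : ℤ) ≤ d + x by omega)).of_iso ((overData n Y).twTwist _ d x).symm

theorem clTP_eq_sub {N : Y.Modules} (hN : FlatMod.IsFinLocFree N) (i j : ℤ) :
    twHom n Y (-j) (clTP i N) = clTP (i - j) N :=
  (twHom_cl _ (isFinLocFree_tw (isFinLocFree_pl hN) i)).trans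
    (clVb_iso ((overData n Y).twTwist _ i (-j) ≪≫ (overData n Y).twIso _ (by ring)))

/-- The twisted pullbacks are independent. -/
theorem injective_twists [CompactSpace Y] (G : Fin (n + 1) → (SGA6.Kvb Y →+ SGA6.Kvb (KRR.PY n Y)))
    (hG : ∀ (i : Fin (n + 1)) (N : Y.Modules), FlatMod.IsFinLocFree N → G i (KRR.cl Y N) = clTP ((i : ℕ) : ℤ) N) :
    Function.Injective (fun x : Fin (n + 1) → SGA6.Kvb Y => ∑ i, G i (x i)) := by
  let φ : Fin (n + 1) → (SGA6.Kvb (KRR.PY n Y) →+ SGA6.Kvb Y) := fun j =>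
    (kPush n Y).comp (twHom n Y (-((j : ℕ) : ℤ)))
  have hlt : ∀ i j : Fin (n + 1), i < j → ∀ a, φ j (G i a) = 0 := fun i j hij a => by
    have hij' : (i : ℕ) < (j : ℕ) := hij
    induction a using K0Cat.clSub_induction with
    | h0 => rw [map_zero, map_zero]
    | hneg a ha => rw [map_neg, map_neg, ha, neg_zero]
    | hadd a b ha hb => rw [map_add, map_add, ha, hb, add_zero]
    | hcl N hN =>
      have hN' : FlatMod.IsFinLocFree N := hN
      show kPush n Y (twHom n Y _ (G i (KRR.cl Y N))) = 0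
      rw [hG i N hN', clTP_eq_sub hN', kPush_clTP hN' (by omega)]
      have hz := isZero_push_tw_pl (n := n) hN' (d := ((i : ℕ) : ℤ) - ((j : ℕ) : ℤ)) (by omega) (by omega)
      exact K0Cat.clSub_of_isZero hz (KFlat.Sch.isFinLocFree_of_isZero hz)
  have heq : ∀ j : Fin (n + 1), ∀ a, φ j (G j a) = a := fun j a => by
    induction a using K0Cat.clSub_induction with
    | h0 => rw [map_zero, map_zero]
    | hneg a ha => rw [map_neg, map_neg, ha]
    | hadd a b ha hb => rw [map_add, map_add, ha, hb]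
    | hcl N hN =>
      have hN' : FlatMod.IsFinLocFree N := hN
      show kPush n Y (twHom n Y _ (G j (KRR.cl Y N))) = KRR.cl Y N
      rw [hG j N hN', clTP_eq_sub hN', kPush_clTP hN' (by omega)]
      exact clVb_iso ((Scheme.Modules.pushforward (KRR.pr n Y)).mapIso
        ((overData n Y).twIso _ (sub_self _) ≪≫ (overData n Y).twZero _) ≪≫ (nonempty_push_pl hN').some)
  intro x y hxy
  suffices H : ∀ m : ℕ, ∀ j : Fin (n + 1), n < (j : ℕ) + m → x j = y j from funext fun j => H (n + 1) j (by omega)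
  intro m
  induction m with
  | zero => intro j hj; omega
  | succ m ih =>
    intro j hj
    have h := congrArg (φ j) hxy
    simp only [map_sum] at h
    rw [← Finset.sum_erase_add _ _ (Finset.mem_univ j), ← Finset.sum_erase_add _ _ (Finset.mem_univ j), heq, heq] at h
    have hrest : ∑ i ∈ Finset.univ.erase j, φ j (G i (x i)) = ∑ i ∈ Finset.univ.erase j, φ j (G i (y i)) := by
      refine Finset.sum_congr rfl fun i hi => ?_
      rcases lt_or_gt_of_ne (Finset.ne_of_mem_erase hi) with hij | hij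
      · rw [hlt i j hij, hlt i j hij]
      · have hij' : (j : ℕ) < (i : ℕ) := hij
        rw [ih i (by omega)]
    rw [hrest] at h
    exact add_left_cancel h

/-- The kernel of the generation map of a regular bundle, twisted once. -/
theorem exists_regular_step [CompactSpace Y] {M : (KRR.PY n Y).Modules} (hM : FlatMod.IsFinLocFree M) (hreg : KRR.IsRegSheaf n Y M) :
    ∃ (T : Y.Modules) (K : (KRR.PY n Y).Modules) (i : K ⟶ pl n T) (p : pl n T ⟶ M) (w : i ≫ p = 0),
      FlatMod.IsFinLocFree T ∧ FlatMod.IsFinLocFree K ∧ (ShortComplex.mk i p w).ShortExact ∧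
      KRR.IsRegSheaf n Y (KRR.twF n Y 1 K) ∧ IsZero ((Scheme.Modules.pushforward (KRR.pr n Y)).obj K) := by
  let π := KRR.pr n Y
  let adj := Scheme.Modules.pullbackPushforwardAdjunction π
  have hq : Coh.IsQCoh M := M1.isFP_isQCoh (M1.isFP_of_isFinLocFree hM)
  let T := (Scheme.Modules.pushforward π).obj M
  have hT : FlatMod.IsFinLocFree T :=
    IsAcyc.push ((isAcyc_tw_of_reg hM hreg le_rfl).of_iso ((overData n Y).twZero M))
  let ε : pl n T ⟶ M := adj.counit.app M
  haveI hepi : Epi ε := epi_counit_of_reg_qcoh n hq hreg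
  have hses : (ShortComplex.mk (kernel.ι ε) ε (kernel.condition ε)).ShortExact :=
    { exact := ShortComplex.exact_of_f_is_kernel _ (kernelIsKernel ε) }
  have hK : FlatMod.IsFinLocFree (kernel ε) := DPerf.isFinLocFree_kernel _ _ _ hses (isFinLocFree_pl hT) hM
  let u : T ⟶ (Scheme.Modules.pushforward π).obj (pl n T) := adj.unit.app T
  have hu : u ≫ (Scheme.Modules.pushforward π).map ε = 𝟙 T := adj.right_triangle_components M
  haveI hepi' : Epi ((Scheme.Modules.pushforward π).map ε) := epi_of_epi_fac hu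
  haveI : IsIso ((Scheme.Modules.pushforward π).map ε) := by
    obtain ⟨e⟩ := nonempty_push_pl (n := n) hT
    haveI : Epi (e.inv ≫ (Scheme.Modules.pushforward π).map ε) := epi_comp _ _
    haveI : IsIso (e.inv ≫ (Scheme.Modules.pushforward π).map ε) := by
      rw [M1.isIso_iff_stalk]
      intro x
      haveI : Module.Finite (Y.presheaf.stalk x) (M2.st ((M2.pmF Y).obj T) x) :=
        M1.finite_stalk (M1.isFP_isQCoh (M1.isFP_of_isFinLocFree hT))
          (M1.isFP_isFT (M1.isFP_of_isFinLocFree hT)) x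
      let φ := M2.stMap ((M2.pmF Y).map (e.inv ≫ (Scheme.Modules.pushforward π).map ε)) x
      have hs : Function.Surjective φ := (M1.epi_iff_stalk _).1 inferInstance x
      exact ⟨OrzechProperty.injective_of_surjective_endomorphism φ hs, hs⟩
    exact IsIso.of_isIso_comp_left e.inv _
  refine ⟨T, kernel ε, kernel.ι ε, ε, kernel.condition ε, hT, hK, hses, ?_, ?_⟩
  · have h1 : KRR.IsRegSheaf n Y (KRR.twF n Y 1 (pl n T)) := by
      have := isRegSheaf_pl (n := n) hT 1
      rwa [Nat.cast_one] at this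
    exact RegSeq23.isRegSheaf_left n (S := ShortComplex.mk (kernel.ι ε) ε (kernel.condition ε)) hses h1 hreg hepi'
  · haveI : (Scheme.Modules.pushforward π).IsRightAdjoint := adj.isRightAdjoint
    haveI : Mono ((Scheme.Modules.pushforward π).map (kernel.ι ε)) := inferInstance
    have h0 : (Scheme.Modules.pushforward π).map (kernel.ι ε) = 0 := by
      rw [← cancel_mono ((Scheme.Modules.pushforward π).map ε), ← Functor.map_comp, kernel.condition,
        Functor.map_zero, zero_comp]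
    exact IsZero.of_mono_eq_zero _ h0

variable (n Y) in
/-- Vanishing of the higher direct images just below regularity, in low degrees. -/
def VanBelow (k : ℕ) (M : (KRR.PY n Y).Modules) : Prop :=
  ∀ j : ℕ, j < k → IsZero ((Coh.RpushAb (KRR.pr n Y) j).obj (Coh.toAb ((overData n Y).tw M (-((j : ℤ) + 1)))))

theorem vanBelow_step {k : ℕ} {T : Y.Modules} {K M : (KRR.PY n Y).Modules} (hT : FlatMod.IsFinLocFree T)
    (hK : FlatMod.IsFinLocFree K) (hM : FlatMod.IsFinLocFree M) {i : K ⟶ pl n T} {p : pl n T ⟶ M} (w : i ≫ p = 0)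
    (hS : (ShortComplex.mk i p w).ShortExact) (hv : VanBelow n Y k M)
    (hz : IsZero ((Scheme.Modules.pushforward (KRR.pr n Y)).obj K)) :
    VanBelow n Y (k + 1) ((overData n Y).tw K 1) := fun j hj => by
  let D := overData n Y
  have hq : Coh.IsQCoh (D.tw K (-(j : ℤ))) :=
    M1.isFP_isQCoh (M1.isFP_of_isFinLocFree (isFinLocFree_tw hK _))
  refine IsZero.of_iso ?_ ((Coh.RpushAb (KRR.pr n Y) j).mapIso ((SheafOfModules.toSheaf _).mapIso
    (D.twTwist K 1 (-((j : ℤ) + 1)) ≪≫ D.twIso K (show (1 : ℤ) + -((j : ℤ) + 1) = -(j : ℤ) by ring))))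
  obtain rfl | ⟨j, rfl⟩ : j = 0 ∨ ∃ m, j = m + 1 := by
    rcases j with _ | m
    exacts [Or.inl rfl, Or.inr ⟨m, rfl⟩]
  · refine isZero_rpushAb_zero hq (hz.of_iso ((Scheme.Modules.pushforward (KRR.pr n Y)).mapIso
      (D.twIso K (by simp) ≪≫ D.twZero K)))
  · have hT' := D.shortExact_tw hS (-((j + 1 : ℕ) : ℤ))
    refine (isZero_rpushAb_iff_affine _ hq (j + 1)).2 fun W hW => ?_
    letI := CBC10.overU (KRR.pr n Y) hW
    refine van₁ Γ(Y, W) (hT'.map_of_exact (Scheme.Modules.restrictFunctor (KRR.pr n Y ⁻¹ᵁ W).ι)) ?_ ?_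
    · refine (isZero_rpushAb_iff_affine _ (M1.isFP_isQCoh (M1.isFP_of_isFinLocFree
        (isFinLocFree_tw hM _))) j).1 ?_ W hW
      exact (hv j (by omega)).of_iso ((Coh.RpushAb (KRR.pr n Y) j).mapIso ((SheafOfModules.toSheaf _).mapIso
        (D.twIso M (by push_cast; ring))))
    · exact (isZero_rpushAb_iff_affine _ (M1.isFP_isQCoh (M1.isFP_of_isFinLocFree
        (isFinLocFree_tw (isFinLocFree_pl hT) _))) (j + 1)).1 (isZero_rpush_tw_pl hT (by push_cast; omega)) W hW

/-- Higher direct images vanish above a bound. -/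
theorem exists_dim_bound [CompactSpace Y] :
    ∃ d : ℕ, ∀ (M : (KRR.PY n Y).Modules), FlatMod.IsFinLocFree M → ∀ i, d < i →
      IsZero ((Coh.RpushAb (KRR.pr n Y) i).obj (Coh.toAb M)) := by
  classical
  let π := CohB1.ProjSpaceOver.toBase n Y
  haveI : IsProper π := inferInstance
  choose V d hsV hV using fun s => exists_nhd_dim_fiber_le π s
  obtain ⟨t, ht⟩ := isCompact_univ.elim_finite_subcover (fun s => (V s : Set Y)) (fun s => (V s).isOpen)
    fun s _ => Set.mem_iUnion.2 ⟨s, hsV s⟩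
  refine ⟨t.sup d, fun M hM i hi => ?_⟩
  refine isZero_rpushAb_of_fibres (f := π) (M1.isFP_of_isFinLocFree hM)
    (DPerf.isFlatOver_of_isFlat _ (KFlat.Sch.isFlat_of_isFinLocFree hM)) i fun s => ?_
  obtain ⟨s₀, hs₀, hs⟩ := Set.mem_iUnion₂.1 (ht (Set.mem_univ s))
  haveI : Coh.IsQCoh M := M1.isFP_isQCoh (M1.isFP_of_isFinLocFree hM)
  exact CBC10.subsingleton_fiberH_of_dim s (hV s₀ s hs) (by
    have := Finset.le_sup (f := d) hs₀
    omega)

/-- The twisted pullbacks span. -/
theorem mem_of_twists [CompactSpace Y] (H : AddSubgroup (SGA6.Kvb (KRR.PY n Y)))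
    (hH : ∀ i : ℕ, i ≤ n → ∀ N : Y.Modules, FlatMod.IsFinLocFree N → clTP (i : ℤ) N ∈ H)
    (x : SGA6.Kvb (KRR.PY n Y)) : x ∈ H := by
  let D := overData n Y
  let mk : SGA6.Kvb (KRR.PY n Y) →+ SGA6.Kvb (KRR.PY n Y) ⧸ H := QuotientAddGroup.mk' H
  have hmk : ∀ {a}, a ∈ H ↔ mk a = 0 := fun {a} => (QuotientAddGroup.eq_zero_iff a).symm
  have hpl : ∀ (N : Y.Modules), FlatMod.IsFinLocFree N → ∀ e : ℤ, mk (clTP e N) = 0 := fun N hN =>
    eq_zero_of_bd (fun e => mk (clTP e N)) n (fun e => by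
      rw [← map_bd, bd_clP_eq_zero _ (isFinLocFree_pl hN) e, map_zero]) fun i hi => hmk.1 (hH i hi N hN)
  obtain ⟨d, hd⟩ := exists_dim_bound (n := n) (Y := Y)
  have main : ∀ m k : ℕ, k + m = d + 1 → ∀ M : (KRR.PY n Y).Modules, FlatMod.IsFinLocFree M →
      KRR.IsRegSheaf n Y M → VanBelow n Y k M → ∀ e : ℤ, mk (KRR.cl _ (D.tw M e)) = 0 := by
    intro m
    induction m with
    | zero =>
      intro k hk M hM hreg hv e
      let M₁ := D.tw M (-1)
      have hM₁ : FlatMod.IsFinLocFree M₁ := isFinLocFree_tw hM _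
      have hq₁ : Coh.IsQCoh M₁ := M1.isFP_isQCoh (M1.isFP_of_isFinLocFree hM₁)
      have hreg₁ : KRR.IsRegSheaf n Y M₁ := fun i hi => by
        let e₁ : KRR.twF n Y (-(i : ℤ)) M₁ ≅ D.tw M (-((i : ℤ) + 1)) :=
          twFIso n Y _ _ ≪≫ D.twTwist _ _ _ ≪≫ D.twIso M (by ring)
        refine IsZero.of_iso ?_ ((Coh.RpushAb (KRR.pr n Y) i).mapIso ((SheafOfModules.toSheaf _).mapIso e₁))
        by_cases hid : i < k
        · exact hv i hid
        · exact hd _ (isFinLocFree_tw hM _) i (by omega)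
      haveI : Epi ((Scheme.Modules.pullbackPushforwardAdjunction (KRR.pr n Y)).counit.app M₁) :=
        epi_counit_of_reg_qcoh n hq₁ hreg₁
      have h0 : IsZero ((Scheme.Modules.pushforward (KRR.pr n Y)).obj M₁) := by
        have hz : IsZero ((Coh.RpushAb (KRR.pr n Y) 0).obj (Coh.toAb M₁)) :=
          (hv 0 (by omega)).of_iso ((Coh.RpushAb (KRR.pr n Y) 0).mapIso ((SheafOfModules.toSheaf _).mapIso
            (D.twIso M (show (-1 : ℤ) = -(((0 : ℕ) : ℤ) + 1) by norm_num))))
        rw [IsZero.iff_id_eq_zero]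
        refine StQC14.hom_eq_zero_of_affine _ fun W hW t => ?_
        letI := CBC10.overU (KRR.pr n Y) hW
        haveI := (isZero_rpushAb_iff_affine _ hq₁ 0).1 hz W hW
        haveI : Subsingleton Γ(M₁.restrict (KRR.pr n Y ⁻¹ᵁ W).ι, ⊤) := (CurveCoh17.hh0 _).symm.toEquiv.subsingleton
        have key : ∀ V : (KRR.PY n Y).Opens, (KRR.pr n Y ⁻¹ᵁ W).ι ''ᵁ ⊤ = V → ∀ z : Γ(M₁, V), z = 0 := by
          rintro V rfl z
          exact Subsingleton.elim (α := Γ(M₁.restrict (KRR.pr n Y ⁻¹ᵁ W).ι, ⊤)) z 0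
        exact key _ (by rw [Scheme.Hom.image_top_eq_opensRange, Scheme.Opens.opensRange_ι]) t
      have hM₁0 : IsZero M₁ :=
        IsZero.of_epi ((Scheme.Modules.pullbackPushforwardAdjunction (KRR.pr n Y)).counit.app M₁)
          ((Scheme.Modules.pullback (KRR.pr n Y)).map_isZero h0)
      have hMe : IsZero (D.tw M e) :=
        ((M2.tensorR (D.O (e + 1))).map_isZero hM₁0).of_iso (D.twTwist M (-1) (e + 1) ≪≫ D.twIso M (by ring)).symm
      rw [show KRR.cl _ (D.tw M e) = 0 from K0Cat.clSub_of_isZero hMe (isFinLocFree_tw hM e), map_zero]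
    | succ m ih =>
      intro k hk M hM hreg hv e
      obtain ⟨T, K, i, p, w, hT, hK, hS, hregK, hz⟩ := exists_regular_step hM hreg
      have hreg' : KRR.IsRegSheaf n Y (D.tw K 1) := fun j hj => (hregK j hj).of_iso
        ((Coh.RpushAb (KRR.pr n Y) j).mapIso ((SheafOfModules.toSheaf _).mapIso
          (M2.tensorIso (Iso.refl (Twist.twistOver n Y (-(j : ℤ)))) (twFIso n Y 1 K).symm)))
      have hK' := ih (k + 1) (by omega) (D.tw K 1) (isFinLocFree_tw hK 1) hreg' (vanBelow_step hT hK hM w hS hv hz) (e - 1)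
      rw [clVb_iso (D.twTwist K 1 (e - 1) ≪≫ D.twIso K (show 1 + (e - 1) = e by ring))] at hK'
      have hses : KRR.cl _ (D.tw (pl n T) e) = KRR.cl _ (D.tw K e) + KRR.cl _ (D.tw M e) :=
        K0Cat.clSub_ses _ (D.shortExact_tw hS e) (isFinLocFree_tw hK e) (isFinLocFree_tw (isFinLocFree_pl hT) e)
          (isFinLocFree_tw hM e)
      have := congrArg mk hses
      rwa [map_add, hpl T hT e, hK', zero_add, eq_comm] at this
  have hall : mk = 0 := hom_ext_reg fun M hM hreg => by
    rw [clVb_iso (D.twZero M).symm]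
    exact main (d + 1) 0 (by omega) M hM hreg (fun j hj => absurd hj (Nat.not_lt_zero _)) 0
  exact hmk.2 (by rw [hall]; rfl)

theorem surjective_twists [CompactSpace Y] (G : Fin (n + 1) → (SGA6.Kvb Y →+ SGA6.Kvb (KRR.PY n Y)))
    (hG : ∀ (i : Fin (n + 1)) (N : Y.Modules), FlatMod.IsFinLocFree N → G i (KRR.cl Y N) = clTP ((i : ℕ) : ℤ) N) :
    Function.Surjective (fun x : Fin (n + 1) → SGA6.Kvb Y => ∑ i, G i (x i)) := by
  classical
  let sumHom : (Fin (n + 1) → SGA6.Kvb Y) →+ SGA6.Kvb (KRR.PY n Y) :=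
    { toFun := fun x => ∑ i, G i (x i)
      map_zero' := by simp
      map_add' := fun a b => by simp [Finset.sum_add_distrib] }
  intro x
  refine mem_of_twists sumHom.range (fun i hi N hN => ⟨Pi.single (⟨i, by omega⟩ : Fin (n + 1)) (KRR.cl Y N), ?_⟩) x
  show ∑ j, G j ((Pi.single (⟨i, by omega⟩ : Fin (n + 1)) (KRR.cl Y N) : Fin (n + 1) → SGA6.Kvb Y) j) = _
  rw [Finset.sum_eq_single (⟨i, by omega⟩ : Fin (n + 1))]
  · rw [Pi.single_eq_same, hG _ N hN]
  · intro b _ hb
    rw [Pi.single_eq_of_ne hb, map_zero]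
  · exact fun h => absurd (Finset.mem_univ _) h

theorem bijective_twists [CompactSpace Y] (G : Fin (n + 1) → (SGA6.Kvb Y →+ SGA6.Kvb (KRR.PY n Y)))
    (hG : ∀ (i : Fin (n + 1)) (N : Y.Modules), FlatMod.IsFinLocFree N → G i (KRR.cl Y N) = clTP ((i : ℕ) : ℤ) N) :
    Function.Bijective (fun x : Fin (n + 1) → SGA6.Kvb Y => ∑ i, G i (x i)) :=
  ⟨injective_twists G hG, surjective_twists G hG⟩

end Groth.Agent.CMReg18
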