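import Groth.Agent.Lib.CMReg18.RegPn
import Groth.Agent.Lib.FlatTwist13.RevFlat
import Groth.Agent.Lib.TensorNat17.Basic

/-!
# Regular quasi-coherent modules are generated
-/

set_option autoImplicit false
set_option linter.style.haveILetI false
set_option backward.isDefEq.respectTransparency false
set_option maxHeartbeats 1600000

universe u

open CategoryTheory CategoryTheory.Limits AlgebraicGeometry TopologicalSpace Opposite

namespace Groth.Agent.CMReg18

open Groth.Agent
open Groth.Agent.M2 (tsec res)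

variable {X : Scheme.{u}}

/-- Killing is preserved on changing the twisting module by an isomorphism. -/
theorem Kills.tensor_iso {M N A B : X.Modules} {q : M ⟶ N} (e : A ≅ B) (h : Kills ((M2.tensorR A).map q)) :
    Kills ((M2.tensorR B).map q) := by
  have := h.of_iso (M2.tensorIso (Iso.refl M) e.symm) (M2.tensorIso (Iso.refl N) e)
  have he : (M2.tensorR B).map q = (M2.tensorIso (Iso.refl M) e.symm).hom ≫ (M2.tensorR A).map q ≫
      (M2.tensorIso (Iso.refl N) e).hom := by
    show M2.tensorMap q (𝟙 B) = M2.tensorMap (𝟙 M) e.inv ≫ M2.tensorMap q (𝟙 A) ≫ M2.tensorMap (𝟙 N) e.hom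
    rw [← M2.tensorMap_comp, ← M2.tensorMap_comp, Category.id_comp, Category.comp_id, Category.id_comp,
      Iso.inv_hom_id]
  rwa [he]

theorem Kills.tensor_assoc {M N A B : X.Modules} {q : M ⟶ N}
    (h : Kills ((M2.tensorR B).map ((M2.tensorR A).map q))) : Kills ((M2.tensorR (CohB1.tensorMod A B)).map q) := by
  have := h.of_iso (M2.tensorAssoc M A B).symm (M2.tensorAssoc N A B)
  have he : (M2.tensorR (CohB1.tensorMod A B)).map q = (M2.tensorAssoc M A B).symm.hom ≫
      (M2.tensorR B).map ((M2.tensorR A).map q) ≫ (M2.tensorAssoc N A B).hom := by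
    show M2.tensorMap q (𝟙 _) = (M2.tensorAssoc M A B).inv ≫ M2.tensorMap (M2.tensorMap q (𝟙 A)) (𝟙 B) ≫ _
    rw [M2.tensorAssoc_natural, Iso.inv_hom_id_assoc, M2.tensorMap_id]
  rwa [he]

namespace TwistData

variable (D : TwistData X) (k : Type u) [CommRing k] [X.Over (Spec (CommRingCat.of k))]

include k in
/-- All powers of the first twist of a morphism killing the sections kill them. -/
theorem kills_pow {F : X.Modules} {m : ℤ} (h : D.IsReg F m) {N : X.Modules} (q : D.tw F m ⟶ N) (hq : Kills q) :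
    ∀ j : ℕ, Kills ((M2.tensorR (CohB1.tensorPow (D.O 1) j)).map q) := by
  intro j
  induction j with
  | zero =>
    have := hq.of_iso (M2.tensorRUnit (D.tw F m)) (M2.tensorRUnit N).symm
    have he : (M2.tensorR (CohB1.tensorPow (D.O 1) 0)).map q = (M2.tensorRUnit (D.tw F m)).hom ≫ q ≫
        (M2.tensorRUnit N).symm.hom := by
      show M2.tensorMap q (𝟙 (Coh.structureModule X)) = _
      rw [← Category.assoc, ← M2.tensorRUnit_natural, Category.assoc]
      exact ((congrArg (_ ≫ ·) (M2.tensorRUnit N).hom_inv_id).trans (Category.comp_id _)).symm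
    rwa [he]
  | succ j ih =>
    let e : CohB1.tensorMod (D.tw F m) (CohB1.tensorPow (D.O 1) j) ≅ D.tw F (m + j) :=
      M2.tensorIso (Iso.refl _) (D.powIso j) ≪≫ D.twTwist F m j
    let q' := e.symm.hom ≫ (M2.tensorR (CohB1.tensorPow (D.O 1) j)).map q
    have hq' : Kills q' := by simpa [q'] using ih.of_iso e.symm (Iso.refl _)
    have h1 := D.kills_succ k (h.of_le k (show m ≤ m + j by omega)) q' hq'
    have h2 : Kills ((M2.tensorR (D.O 1)).map ((M2.tensorR (CohB1.tensorPow (D.O 1) j)).map q)) := by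
      have := h1.of_iso ((M2.tensorR (D.O 1)).mapIso e) (Iso.refl _)
      simp only [q', Functor.map_comp, Functor.mapIso_hom, Iso.refl_hom, Category.comp_id, Iso.symm_hom] at this
      rwa [← Category.assoc, ← Functor.map_comp, Iso.hom_inv_id, CategoryTheory.Functor.map_id,
        Category.id_comp] at this
    exact h2.tensor_assoc

include k in
/-- Regular quasi-coherent modules are globally generated when the first twist is ample. -/
theorem IsReg.isGloballyGenerated_of_isQCoh {F : X.Modules} {m : ℤ} (h : D.IsReg F m) (hF : Coh.IsQCoh F)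
    (hA : CohB1.IsAmple (D.O 1)) : Curv2.IsGloballyGenerated (D.tw F m) := by
  refine isGloballyGenerated_of_forall_kills fun N q hq => ?_
  haveI := hA.2.1
  haveI : QuasiSeparatedSpace X := Amp.quasiSeparatedSpace_of_isAmple hA
  haveI : Coh.IsQCoh (D.tw F m) :=
    (M2.isQCoh_tensor hF (Twist.isQCoh_of_isInvertible (D.inv m)) : Coh.IsQCoh (CohB1.tensorMod F (D.O m)))
  refine Scheme.Modules.hom_ext _ _ fun V => ?_
  ext t
  refine M1.section_ext _ _ fun x hx => ?_
  obtain ⟨c, G, ⟨s, hs⟩, hxG, hGV, -⟩ := Amp.exists_hasSec_le hA hx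
  rw [← TopCat.Presheaf.germ_res_apply N.presheaf (homOfLE hGV) x hxG (q.app V t),
    ← TopCat.Presheaf.germ_res_apply N.presheaf (homOfLE hGV) x hxG ((0 : D.tw F m ⟶ N).app V t)]
  refine congrArg _ ?_
  show M1.mres N hGV (q.app V t) = M1.mres N hGV ((0 : D.tw F m ⟶ N).app V t)
  rw [← M1.app_mres, ← M1.app_mres]
  show q.app G (M1.mres _ hGV t) = (0 : Γ(N, G))
  let P := CohB1.tensorPow (D.O 1) (c + 1)
  have hP : PicF.IsInvertible P := Amp.isInvertible_tensorPow (D.inv 1) _
  subst hs
  obtain ⟨n, hn⟩ := Amp.exists_extend_genLocus hP s (D.tw F m) (M1.mres _ hGV t)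
  obtain ⟨t', ht'⟩ := hn n le_rfl
  have hk : Kills ((M2.tensorR (CohB1.tensorPow P n)).map q) :=
    (D.kills_pow k h q hq ((c + 1) * n)).tensor_iso (M2.tensorPowPow (D.O 1) (c + 1) n).symm
  let G := CohB1.genLocus P s
  let g : Γ(P, G) := res P le_top (Amp.gval s)
  have hg : Twist.IsGen P G g := Amp.isGenerator_genLocus hP s
  have hgen : Twist.IsGen (CohB1.tensorPow P n) G (Amp.pw g n) :=
    Twist.isGen_of_stalk fun _ hz => Amp.gen_pw hP hz g n (hg.stalk hz)
  have hb := FlatTwist13.bijective_tsec_right (G := N) hgen (le_refl G)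
  refine hb.injective ?_
  show tsec N _ (q.app G (M1.mres _ hGV t)) (M1.mres _ (le_refl G) (Amp.pw g n)) =
    tsec N _ (0 : Γ(N, G)) (M1.mres _ (le_refl G) (Amp.pw g n))
  have h0 := congrArg (res (CohB1.tensorMod N (CohB1.tensorPow P n)) (le_top : G ≤ ⊤)) (hk t')
  rw [M1.mres_id]
  have h1 : tsec N (CohB1.tensorPow P n) (q.app G (M1.mres _ hGV t)) (Amp.pw g n) = 0 := by
    refine (M2.tensorMap_tsec q (𝟙 (CohB1.tensorPow P n)) (M1.mres _ hGV t) (Amp.pw g n)).symm.trans ?_
    refine (congrArg ((M2.tensorMap q (𝟙 (CohB1.tensorPow P n))).app G) ht'.symm).trans ?_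
    exact (M1.app_mres _ _ _).trans (h0.trans (map_zero _))
  rw [h1]
  exact (map_zero (⟨⟨fun s => tsec N (CohB1.tensorPow P n) s (Amp.pw g n), by
    simpa using (M2.tsec_smul_left (0 : Γ(X, G)) (0 : Γ(N, G)) (Amp.pw g n))⟩,
      fun a b => M2.tsec_add_left _ _ _⟩ : Γ(N, G) →+ Γ(CohB1.tensorMod N (CohB1.tensorPow P n), G))).symm

end TwistData

variable (n : ℕ) {Y : Scheme.{u}}

/-- Regular quasi-coherent modules are generated relative to any base. -/
theorem epi_counit_of_reg_qcoh {F : (KRR.PY n Y).Modules} (hF : Coh.IsQCoh F) (h : KRR.IsRegSheaf n Y F) :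
    Epi ((Scheme.Modules.pullbackPushforwardAdjunction (KRR.pr n Y)).counit.app F) := by
  let π := CohB1.ProjSpaceOver.toBase n Y
  refine VA11.epi_counit_of_cover π F (fun W : Y.affineOpens => W.1) (fun x => ?_) fun W => ?_
  · obtain ⟨W, hW, hy, -⟩ := exists_isAffineOpen_mem_and_subset (X := Y) (x := π x) (U := ⊤) trivial
    exact ⟨⟨W, hW⟩, hy⟩
  · letI := CBC10.overU π W.2
    let D := wdata n W.1
    let FW := F.restrict (π ⁻¹ᵁ W.1).ι
    have hA : CohB1.IsAmple (D.O 1) :=
      Amp.isAmple_of_iso ((Scheme.Modules.restrictFunctorIsoPullback _).app _) ((isRelAmple_O1 n Y).2 W)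
    obtain ⟨κ, p, hp⟩ := TwistData.IsReg.isGloballyGenerated_of_isQCoh D Γ(Y, W.1)
      ((isRegSheaf_iff hF).1 h W.1 W.2) (M1.isQCoh_restrict hF _) hA
    exact ⟨κ, p ≫ (D.twZero FW).hom, epi_comp _ _⟩

end Groth.Agent.CMReg18
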