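import Groth.Agent.Lib.CMReg18.KRRPushPF
import Groth.Agent.Lib.CMReg18.RegQCoh
import Groth.Agent.Lib.UVan10.GlobGen

/-!
# Twists of bundles pulled back to a relative projective space, over any base
-/

set_option autoImplicit false
set_option linter.style.haveILetI false
set_option backward.isDefEq.respectTransparency false
set_option maxHeartbeats 1600000

universe u

open CategoryTheory CategoryTheory.Limits AlgebraicGeometry TopologicalSpace Opposite Scheme.Modules

namespace Groth.Agent.CMReg18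

open Groth.Agent

variable {n : ℕ} {Y : Scheme.{u}}

variable (n) in
/-- The pullback of a module to projective space. -/
noncomputable abbrev pl (N : Y.Modules) : (KRR.PY n Y).Modules := (Scheme.Modules.pullback (KRR.pr n Y)).obj N

variable (n Y) in
/-- Twisting as the statements write it. -/
noncomputable def twFIso (d : ℤ) (M : (KRR.PY n Y).Modules) : KRR.twF n Y d M ≅ (overData n Y).tw M d :=
  M2.tensorComm (Twist.twistOver n Y d) M

theorem isFinLocFree_pl {N : Y.Modules} (hN : FlatMod.IsFinLocFree N) : FlatMod.IsFinLocFree (pl n N) :=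
  M2.isFinLocFree_pullback _ hN

/-- Vanishing of the twists of the unit over an affine open of any base. -/
theorem subsingleton_HH_wdata_O_any {W : Y.Opens} (hW : IsAffineOpen W) (d : ℤ) (j : ℕ)
    (hj : ¬ ((j = 0 ∧ 0 ≤ d) ∨ (j = n ∧ d ≤ -((n : ℤ) + 1)))) :
    Subsingleton (Coh.HH (CohB1.ProjSpaceOver.toBase n Y ⁻¹ᵁ W : (CohB1.ProjSpaceOver n Y).Opens).toScheme
      ((wdata n W).O d) j) := by
  let π := CohB1.ProjSpaceOver.toBase n Y
  letI := CBC10.overU π hW
  refine van_iso Γ(Y, W)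
    ((Scheme.Modules.restrictFunctorIsoPullback (π ⁻¹ᵁ W).ι).app (_root_.Twist.twistOver n Y d)) ?_
  refine (CohFound.subsingleton_HH_iff _ _).2 ?_
  obtain ⟨e⟩ := CohFound.nonempty_hc_abF_restrict (π ⁻¹ᵁ W).ι (_root_.Twist.twistOver n Y d) j ⊤
  rw [Scheme.Hom.image_top_eq_opensRange, Scheme.Opens.opensRange_ι] at e
  exact @Equiv.subsingleton _ _ e.toEquiv (CohFound.subsingleton_hc_twistOver Y n j d hj hW)

/-- A bundle is free on small affine opens. -/
theorem exists_affine_free {N : Y.Modules} (hN : FlatMod.IsFinLocFree N) (y : Y) :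
    ∃ (W : Y.Opens) (k : ℕ), IsAffineOpen W ∧ y ∈ W ∧ Nonempty (N.restrict W.ι ≅ FlatMod.freeMod (↑W) k) := by
  obtain ⟨U, k, hy, ⟨e⟩⟩ := hN y
  obtain ⟨W, hW, hyW, hWU⟩ := exists_isAffineOpen_mem_and_subset (X := Y) (x := y) (U := U) hy
  have hr : Set.range W.ι ⊆ Set.range U.ι := by rw [Scheme.Opens.range_ι, Scheme.Opens.range_ι]; exact hWU
  exact ⟨W, k, hW, hyW, ⟨(M1.restrictLiftIso N U.ι W.ι hr).symm ≪≫
    (Scheme.Modules.restrictFunctor (IsOpenImmersion.lift U.ι W.ι hr)).mapIso e ≪≫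
      (Scheme.Modules.restrictFunctorIsoPullback _).app _ ≪≫ M2.freeModPullbackIso _ k⟩⟩

/-- The higher direct images of the twists of a pulled back bundle. -/
theorem isZero_rpush_tw_pl {N : Y.Modules} (hN : FlatMod.IsFinLocFree N) {d : ℤ} {i : ℕ}
    (hd : ¬ ((i = 0 ∧ 0 ≤ d) ∨ (i = n ∧ d ≤ -((n : ℤ) + 1)))) :
    IsZero ((Coh.RpushAb (KRR.pr n Y) i).obj (Coh.toAb ((overData n Y).tw (pl n N) d))) := by
  have hM : Coh.IsQCoh (KRR.twF n Y d (pl n N)) := isQCoh_twF (M1.isFP_isQCoh (M1.isFP_of_isFinLocFree (isFinLocFree_pl hN))) d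
  refine IsZero.of_iso ?_ ((Coh.RpushAb (KRR.pr n Y) i).mapIso
    ((SheafOfModules.toSheaf _).mapIso (twFIso n Y d (pl n N)).symm))
  choose W k hW hy e using exists_affine_free hN
  refine CohFound.isZero_rpushAb_of_cover _ _ hM W hW (fun y => ⟨y, hy y⟩) i fun y =>
    (CohFound.subsingleton_HH_iff _ _).1 ?_
  let π := CohB1.ProjSpaceOver.toBase n Y
  let ιW := (π ⁻¹ᵁ W y).ι
  letI := CBC10.overU π (hW y)
  let e' : (pl n N).restrict ιW ≅ FlatMod.freeMod (π ⁻¹ᵁ W y : (CohB1.ProjSpaceOver n Y).Opens).toScheme (k y) :=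
    (Scheme.Modules.restrictFunctorIsoPullback ιW).app _ ≪≫
      (Scheme.Modules.pullbackComp ιW π).app N ≪≫
      (Scheme.Modules.pullbackCongr (morphismRestrict_ι π (W y)).symm).app N ≪≫
      ((Scheme.Modules.pullbackComp (π ∣_ W y) (W y).ι).app N).symm ≪≫
      (Scheme.Modules.pullback (π ∣_ W y)).mapIso
        (((Scheme.Modules.restrictFunctorIsoPullback (W y).ι).app N).symm ≪≫ (e y).some) ≪≫
      M2.freeModPullbackIso _ _
  exact van_iso Γ(Y, W y) (wTwIso (pl n N) d (W y) ≪≫ M2.tensorIso e' (Iso.refl _)).symm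
    (subsingleton_HH_freeMod_tw (wdata n (W y)) (subsingleton_HH_wdata_O_any (hW y) d i hd) (k y) Γ(Y, W y))

theorem isAcyc_tw_pl {N : Y.Modules} (hN : FlatMod.IsFinLocFree N) {d : ℤ} (hd : -(n : ℤ) ≤ d) :
    IsAcyc n Y ((overData n Y).tw (pl n N) d) :=
  ⟨isFinLocFree_tw (isFinLocFree_pl hN) d, fun q hq => isZero_rpush_tw_pl hN (by omega)⟩

theorem isRegSheaf_pl {N : Y.Modules} (hN : FlatMod.IsFinLocFree N) (m : ℕ) :
    KRR.IsRegSheaf n Y (KRR.twF n Y (m : ℤ) (pl n N)) := fun i hi => by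
  refine (isZero_rpush_tw_pl hN (d := (m : ℤ) + -(i : ℤ)) (i := i) (by omega)).of_iso
    ((Coh.RpushAb (KRR.pr n Y) i).mapIso ((SheafOfModules.toSheaf _).mapIso ?_))
  exact twFIso n Y (-(i : ℤ)) _ ≪≫ M2.tensorIso (twFIso n Y m _) (Iso.refl _) ≪≫ (overData n Y).twTwist _ _ _

/-- The direct image of a twist of a pulled back bundle. -/
theorem nonempty_push_tw_pl {N : Y.Modules} (hN : FlatMod.IsFinLocFree N) (d : ℤ) :
    Nonempty ((Scheme.Modules.pushforward (KRR.pr n Y)).obj ((overData n Y).tw (pl n N) d) ≅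
      CohB1.tensorMod N ((Scheme.Modules.pushforward (KRR.pr n Y)).obj (Twist.twistOver n Y d))) := by
  haveI := AmpleFin18.isIso_projHom_of_locFree (KRR.pr n Y) N (Twist.twistOver n Y d) hN
  exact ⟨(asIso (AmpleFin18.projHom (KRR.pr n Y) N (Twist.twistOver n Y d))).symm⟩

theorem nonempty_push_pl {N : Y.Modules} (hN : FlatMod.IsFinLocFree N) :
    Nonempty ((Scheme.Modules.pushforward (KRR.pr n Y)).obj (pl n N) ≅ N) := by
  obtain ⟨e⟩ := nonempty_push_tw_pl (n := n) hN 0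
  exact ⟨(Scheme.Modules.pushforward (KRR.pr n Y)).mapIso ((overData n Y).twZero (pl n N)).symm ≪≫ e ≪≫
    M2.tensorIso (Iso.refl N) ((Scheme.Modules.pushforward (KRR.pr n Y)).mapIso (overData n Y).zero ≪≫
      (TwistBC9.nonempty_push_structureModule _ (PicPn.bijective_toBase_app n (S := Y))).some) ≪≫
    M2.tensorRUnit N⟩

theorem isZero_push_tw_pl {N : Y.Modules} (hN : FlatMod.IsFinLocFree N) {d : ℤ} (hd : d < 0) (hd' : -(n : ℤ) ≤ d) :
    IsZero ((Scheme.Modules.pushforward (KRR.pr n Y)).obj ((overData n Y).tw (pl n N) d)) :=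
  IsZero.of_iso (((DCoh.tensorBi (X := Y)).obj N).map_isZero (isZero_push_twistOver hd hd'))
    (nonempty_push_tw_pl hN d).some

/-- No sections over the base means no direct image in degree zero. -/
theorem isZero_rpushAb_zero {M : (KRR.PY n Y).Modules} (hM : Coh.IsQCoh M)
    (h : IsZero ((Scheme.Modules.pushforward (KRR.pr n Y)).obj M)) :
    IsZero ((Coh.RpushAb (KRR.pr n Y) 0).obj (Coh.toAb M)) := by
  refine (isZero_rpushAb_iff_affine _ hM 0).2 fun W hW => ?_
  haveI : Subsingleton Γ(M, KRR.pr n Y ⁻¹ᵁ W) := by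
    have hz : ∀ z : Γ((Scheme.Modules.pushforward (KRR.pr n Y)).obj M, W), z = 0 := fun z => by
      have := congrArg (fun φ : (Scheme.Modules.pushforward (KRR.pr n Y)).obj M ⟶ _ => φ.app W z)
        (IsZero.iff_id_eq_zero _ |>.1 h)
      exact this
    exact ⟨fun a b => (hz a).trans (hz b).symm⟩
  haveI : Subsingleton Γ(M.restrict (KRR.pr n Y ⁻¹ᵁ W).ι, ⊤) := by
    have key : ∀ V : (KRR.PY n Y).Opens, V = KRR.pr n Y ⁻¹ᵁ W → Subsingleton Γ(M, V) := fun V hV => hV ▸ inferInstance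
    exact key ((KRR.pr n Y ⁻¹ᵁ W).ι ''ᵁ ⊤) (by rw [Scheme.Hom.image_top_eq_opensRange, Scheme.Opens.opensRange_ι])
  exact (CurveCoh17.hh0 _).toEquiv.subsingleton

end Groth.Agent.CMReg18
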