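import Groth.Agent.Lib.CMReg18.Hyperplane
import Groth.Agent.S0844

/-!
# Regularity and presentations by twists
-/

set_option autoImplicit false
set_option linter.style.haveILetI false
set_option backward.isDefEq.respectTransparency false

universe u

open CategoryTheory CategoryTheory.Limits AlgebraicGeometry TopologicalSpace Opposite

namespace Groth.Agent.CMReg18

open Groth.Agent

variable (k : Type u) [CommRing k] {X : Scheme.{u}} [X.Over (Spec (CommRingCat.of k))]

theorem hmap_sum {ι : Type*} (s : Finset ι) {M N : X.Modules} (φ : ι → (M ⟶ N)) (n : ℕ) (x : Coh.HH X M n) :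
    CurveCoh17.hmap k (∑ i ∈ s, φ i) n x = ∑ i ∈ s, CurveCoh17.hmap k (φ i) n x := by
  classical
  induction s using Finset.induction_on with
  | empty => simp [CurveCoh17.hmap_zero]
  | insert a s ha ih => rw [Finset.sum_insert ha, Finset.sum_insert ha, hmap_add, ih]

include k in
theorem van_sigma {b : ℕ} (f : Fin b → X.Modules) {n : ℕ} (h : ∀ j, Subsingleton (Coh.HH X (f j) n)) :
    Subsingleton (Coh.HH X (∐ f) n) := by
  refine van_iso k (biproduct.isoCoproduct f) (subsingleton_of_forall_eq 0 fun x => ?_)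
  rw [← CurveCoh17.hmap_id k (⨁ f) n x, ← biproduct.total, hmap_sum]
  refine Finset.sum_eq_zero fun j _ => ?_
  haveI := h j
  rw [CurveCoh17.hmap_comp, Subsingleton.elim (CurveCoh17.hmap k (biproduct.π f j) n x) 0, map_zero]

/-- Twists of `O(-m)` have the vanishing of regularity `m`, and of regularity `m + 1` one degree up. -/
theorem projData_isReg_twist (k : Type u) [Field k] (n b : ℕ) (m : ℤ) :
    (projData k n).IsReg (∐ fun _ : Fin b => _root_.Twist.twistProjSpace n k (-m)) m := by
  intro i hi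
  refine van_iso k (PreservesCoproduct.iso (M2.tensorR (_root_.Twist.twistProjSpace n k (m - i))) _).symm
    (van_sigma k _ fun _ => ?_)
  refine van_iso k (M := _root_.Twist.twistProjSpace n k (-(i : ℤ))) ?_
    (S0844.result k n (-(i : ℤ)) i (by omega) (by omega))
  exact eqToIso (congrArg (_root_.Twist.twistProjSpace n k) (by ring)) ≪≫ ((projData k n).add (-m) (m - i)).symm

namespace TwistData

variable (D : TwistData X)

/-- An epimorphism from sums of a twist, onto on sections after twisting, with as few summands as possible. -/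
theorem exists_presentation_finrank {k : Type u} [Field k] [X.Over (Spec (CommRingCat.of k))]
    [IsProper (X ↘ Spec (CommRingCat.of k))] {F : X.Modules} (hF : Coh.IsCoh F) (m : ℤ)
    (hgg : Curv2.IsGloballyGenerated (D.tw F m)) :
    ∃ (b : ℕ) (φ : (∐ fun _ : Fin b => D.O (-m)) ⟶ F), b = Module.finrank k (Coh.HH X (D.tw F m) 0) ∧ Epi φ ∧
      Function.Surjective (CurveCoh17.hmap k ((M2.tensorR (D.O m)).map φ) 0) := by
  haveI := D.finite_HH k hF m 0
  let M := D.tw F m
  let B := Module.finBasis k (Coh.HH X M 0)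
  let b := Module.finrank k (Coh.HH X M 0)
  let p : FlatMod.freeMod X b ⟶ M := Sigma.desc fun j => M1.secHom (CurveCoh17.hh0 M (B j))
  have hι : ∀ j : Fin b, p.app ⊤ ((Sigma.ι (fun _ : Fin b => Coh.structureModule X) j).app ⊤ (M1.one ⊤)) =
      CurveCoh17.hh0 M (B j) := fun j => by
    have h : Sigma.ι (fun _ : Fin b => Coh.structureModule X) j ≫ p = M1.secHom (CurveCoh17.hh0 M (B j)) :=
      Sigma.ι_desc _ _
    rw [← M1.secHom_app_one (CurveCoh17.hh0 M (B j)), ← h, Scheme.Modules.Hom.comp_app, CategoryTheory.comp_apply]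
  have hp0 : Function.Surjective (CurveCoh17.hmap k p 0) := by
    rw [← LinearMap.range_eq_top, eq_top_iff, ← B.span_eq, Submodule.span_le]
    rintro _ ⟨j, rfl⟩
    refine ⟨(CurveCoh17.hh0 _).symm ((Sigma.ι (fun _ : Fin b => Coh.structureModule X) j).app ⊤ (M1.one ⊤)),
      (CurveCoh17.hh0 M).injective ?_⟩
    rw [CurveCoh17.hh0_hmap, AddEquiv.apply_symm_apply]
    exact hι j
  haveI : Epi p := Preadditive.epi_of_cokernel_zero (eq_zero_of_kills hgg fun t => by
    obtain ⟨y, hy⟩ := hp0 ((CurveCoh17.hh0 M).symm t)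
    have h := congrArg (CurveCoh17.hh0 M) hy
    rw [CurveCoh17.hh0_hmap, AddEquiv.apply_symm_apply] at h
    rw [← h, ← CategoryTheory.comp_apply, ← Scheme.Modules.Hom.comp_app, cokernel.condition]
    rfl)
  haveI : Epi ((M2.tensorR (D.O (-m))).map p) :=
    (CurveCoh17.shortExact_tensorR (S := ShortComplex.mk (kernel.ι p) p (kernel.condition p))
      { exact := ShortComplex.exact_kernel p } (D.O (-m)) fun x => Module.Flat.of_linearEquiv
        (CurveCoh17.nonempty_stalk_equiv ((M2.isInvertible_iff_isFinLocFreeOfRank_one _).1 (D.inv _)) x).some).epi_g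
  let e : CohB1.tensorMod (D.O m) (D.O (-m)) ≅ Coh.structureModule X :=
    D.add m (-m) ≪≫ eqToIso (by rw [add_neg_cancel]) ≪≫ D.zero
  let e' : CohB1.tensorMod (D.O (-m)) (D.O m) ≅ Coh.structureModule X := M2.tensorComm _ _ ≪≫ e
  let u := M2.untwist e F
  let v := M2.freeModTensorIso X b (D.O (-m))
  refine ⟨b, v.inv ≫ (M2.tensorR (D.O (-m))).map p ≫ u.hom, rfl, epi_comp _ _, fun x => ?_⟩
  obtain ⟨y, hy⟩ := hp0 (CurveCoh17.hmap k (M2.untwist e' M).hom 0
    (CurveCoh17.hmap k ((M2.tensorR (D.O m)).map u.inv) 0 x))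
  refine ⟨CurveCoh17.hmap k ((M2.tensorR (D.O m)).map v.hom) 0
    (CurveCoh17.hmap k (M2.untwist e' (FlatMod.freeMod X b)).inv 0 y), ?_⟩
  have hc : (M2.untwist e' (FlatMod.freeMod X b)).inv ≫ (M2.tensorR (D.O m)).map v.hom ≫
      (M2.tensorR (D.O m)).map (v.inv ≫ (M2.tensorR (D.O (-m))).map p ≫ u.hom) =
      p ≫ (M2.untwist e' M).inv ≫ (M2.tensorR (D.O m)).map u.hom := by
    have h := untwist_natural e' p
    rw [← CategoryTheory.Functor.map_comp, Iso.hom_inv_id_assoc, CategoryTheory.Functor.map_comp,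
      Iso.inv_comp_eq, ← Category.assoc, ← Category.assoc, ← h, Category.assoc, Category.assoc,
      Iso.hom_inv_id_assoc]
  refine (CurveCoh17.hmap_comp k _ _ 0 _).symm.trans ((CurveCoh17.hmap_comp k _ _ 0 y).symm.trans ?_)
  refine (congrArg (fun f => CurveCoh17.hmap k f 0 y) hc).trans ?_
  refine (CurveCoh17.hmap_comp k _ _ 0 y).trans ?_
  refine (congrArg (CurveCoh17.hmap k ((M2.untwist e' M).inv ≫ (M2.tensorR (D.O m)).map u.hom) 0) hy).trans ?_
  refine (CurveCoh17.hmap_comp k _ _ 0 _).symm.trans ((CurveCoh17.hmap_comp k _ _ 0 x).symm.trans ?_)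
  refine Eq.trans ?_ (CurveCoh17.hmap_id k _ 0 x)
  refine congrArg (fun f => CurveCoh17.hmap k f 0 x) ?_
  rw [Iso.hom_inv_id_assoc, ← CategoryTheory.Functor.map_comp, Iso.inv_hom_id, CategoryTheory.Functor.map_id]

/-- An epimorphism from sums of a twist, onto on sections after twisting. -/
theorem exists_presentation {k : Type u} [Field k] [X.Over (Spec (CommRingCat.of k))]
    [IsProper (X ↘ Spec (CommRingCat.of k))] {F : X.Modules} (hF : Coh.IsCoh F) (m : ℤ)
    (hgg : Curv2.IsGloballyGenerated (D.tw F m)) :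
    ∃ (b : ℕ) (φ : (∐ fun _ : Fin b => D.O (-m)) ⟶ F), Epi φ ∧
      Function.Surjective (CurveCoh17.hmap k ((M2.tensorR (D.O m)).map φ) 0) := by
  obtain ⟨b, φ, -, h⟩ := D.exists_presentation_finrank (k := k) hF m hgg
  exact ⟨b, φ, h⟩

end TwistData

end Groth.Agent.CMReg18
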