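import Groth.Agent.Lib.CMReg18.GG
import Groth.Agent.Lib.Twist.UniversalExist
import Groth.Agent.Lib.VeryAmple11.TsecRules
import Groth.Agent.Lib.CurveCoh17.IdealPow
import Groth.Agent.Lib.CurveCoh17.PairDeg

/-!
# Sections of a twist of a regular module are sums of products
-/

set_option autoImplicit false
set_option linter.style.haveILetI false
set_option backward.isDefEq.respectTransparency false

universe u

open CategoryTheory CategoryTheory.Limits MonoidalCategory AlgebraicGeometry TopologicalSpace Opposite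

namespace Groth.Agent.CMReg18

open Groth.Agent

variable {X : Scheme.{u}}

/-- The value in `O` of a section of `O`. -/
abbrev oval {U : X.Opens} (r : Γ(Coh.structureModule X, U)) : Γ(X, U) := r

theorem oval_app_smul {M : X.Modules} (φ : M ⟶ Coh.structureModule X) {U : X.Opens} (r : Γ(X, U)) (s : Γ(M, U)) :
    oval (φ.app U (r • s)) = r * oval (φ.app U s) := by
  rw [Scheme.Modules.Hom.app_smul]
  rfl

/-- Two sections of an invertible module can be exchanged. -/
theorem swap_smul {P N : X.Modules} (hP : PicF.IsInvertible P) (φ : CohB1.tensorMod P N ⟶ Coh.structureModule X)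
    {U : X.Opens} (b s : Γ(P, U)) (c : Γ(N, U)) :
    oval (φ.app U (M2.tsec P N s c)) • b = oval (φ.app U (M2.tsec P N b c)) • s := by
  refine M1.section_ext _ _ fun x hx => ?_
  obtain ⟨D, g, hxD, hg⟩ := ProjUP.exists_isGen_of_invertible hP x
  have hV : x ∈ U ⊓ D := ⟨hx, hxD⟩
  rw [← TopCat.Presheaf.germ_res_apply P.presheaf (homOfLE (inf_le_left : U ⊓ D ≤ U)) x hV,
    ← TopCat.Presheaf.germ_res_apply P.presheaf (homOfLE (inf_le_left : U ⊓ D ≤ U)) x hV]
  refine congrArg _ ?_
  have hr : ∀ a : Γ(P, U), M1.ores (inf_le_left : U ⊓ D ≤ U) (oval (φ.app U (M2.tsec P N a c))) =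
      oval (φ.app (U ⊓ D) (M2.tsec P N (M2.res P inf_le_left a) (M2.res N inf_le_left c))) := fun a => by
    rw [← M2.res_tsec]
    exact (M1.app_mres φ _ _).symm
  show M1.mres P inf_le_left _ = M1.mres P inf_le_left _
  rw [M1.mres_smul, M1.mres_smul, hr, hr]
  obtain ⟨β, hβ⟩ := (hg (U ⊓ D) inf_le_right).2 (M1.mres P inf_le_left b)
  obtain ⟨γ, hγ⟩ := (hg (U ⊓ D) inf_le_right).2 (M1.mres P inf_le_left s)
  change _ = M2.res P _ b at hβ
  change _ = M2.res P _ s at hγ
  show oval (φ.app (U ⊓ D) (M2.tsec P N (M2.res P inf_le_left s) _)) • M2.res P inf_le_left b =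
    oval (φ.app (U ⊓ D) (M2.tsec P N (M2.res P inf_le_left b) _)) • M2.res P inf_le_left s
  rw [← hβ, ← hγ, M2.tsec_smul_left, M2.tsec_smul_left, oval_app_smul, oval_app_smul, smul_smul, smul_smul]
  congr 1
  ring

namespace TwistData

variable (D : TwistData X)

theorem rUnit_inv_app (A : X.Modules) {U : X.Opens} (a : Γ(A, U)) :
    (M2.tensorRUnit A).inv.app U a = M2.tsec A (Coh.structureModule X) a (M1.one U) := by
  have h := VA11.tensorRUnit_tsec A a (M1.one U)
  rw [show (show Γ(X, U) from M1.one U) • a = a from one_smul _ _] at h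
  conv_lhs => rw [← h]
  exact congrArg (fun φ => φ.app U (M2.tsec A (Coh.structureModule X) a (M1.one U))) (M2.tensorRUnit A).hom_inv_id

theorem lUnit_inv_app (N : X.Modules) {U : X.Opens} (c : Γ(N, U)) :
    (M2.tensorLUnit N).inv.app U c = M2.tsec (Coh.structureModule X) N (M1.one U) c := by
  have h := CurveCoh17.tensorLUnit_tsec (M := N) (1 : Γ(X, U)) c
  rw [one_smul] at h
  conv_lhs => rw [← h]
  exact congrArg (fun φ => φ.app U (M2.tsec (Coh.structureModule X) N (M1.one U) c)) (M2.tensorLUnit N).hom_inv_id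

theorem secMap_app (j : Fin D.num) {U : X.Opens} (c : Γ(D.O (-1), U)) :
    (Snapper.secMap (D.sec j) D.invIso).app U c =
      D.invIso.hom.app U (M2.tsec (D.O 1) (D.O (-1)) ((D.sec j).app U (M1.one U)) c) := by
  rw [Snapper.secMap, Scheme.Modules.Hom.comp_app, CategoryTheory.comp_apply, Scheme.Modules.Hom.comp_app,
    CategoryTheory.comp_apply, Iso.symm_hom, lUnit_inv_app, M2.tensorMap_tsec]
  rfl

theorem tensorIso_hom_tsec {A B B' : X.Modules} (e : B ≅ B') {U : X.Opens} (a : Γ(A, U)) (b : Γ(B, U)) :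
    (M2.tensorIso (Iso.refl A) e).hom.app U (M2.tsec A B a b) = M2.tsec A B' a (e.hom.app U b) :=
  M2.tensorMap_tsec _ _ a b

/-- The multiplication on `A(1)` is untwisting followed by the product with the section. -/
theorem ap_mul_eq (j : Fin D.num) (A : X.Modules) :
    ap (D.mul j) (CohB1.tensorMod A (D.O 1)) =
      (M2.untwist D.invIso A).hom ≫ (M2.tensorRUnit A).inv ≫ M2.tensorMap (𝟙 A) (D.sec j) := by
  refine VA11.tensor_hom_ext₃ fun U a b c => ?_
  show ((M2.tensorComm _ _).hom ≫ Snapper.mulMap _ _).app U _ = _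
  simp only [Snapper.mulMap, M2.untwist, Iso.trans_hom, Scheme.Modules.Hom.comp_app, CategoryTheory.comp_apply]
  rw [CurveCoh17.tensorComm_tsec, M2.tensorMap_tsec, VA11.tensorAssoc_tsec, tensorIso_hom_tsec,
    VA11.tensorRUnit_tsec, rUnit_inv_app, M2.tensorMap_tsec]
  refine (CurveCoh17.tensorLUnit_tsec (oval ((Snapper.secMap (D.sec j) D.invIso).app U c))
    (M2.tsec A (D.O 1) a b)).trans ?_
  show oval ((Snapper.secMap (D.sec j) D.invIso).app U c) • M2.tsec A (D.O 1) a b =
    M2.tsec A (D.O 1) (oval (D.invIso.hom.app U (M2.tsec (D.O 1) (D.O (-1)) b c)) • a) ((D.sec j).app U (M1.one U))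
  rw [M2.tsec_smul_left, ← M2.tsec_smul_right, ← M2.tsec_smul_right, secMap_app]
  exact congrArg (M2.tsec A (D.O 1) a) (swap_smul (D.inv 1) D.invIso.hom b ((D.sec j).app U (M1.one U)) c)

/-- The subgroup of global sections spanned by products. -/
noncomputable def prods (A B : X.Modules) : AddSubgroup Γ(CohB1.tensorMod A B, (⊤ : X.Opens)) :=
  AddSubgroup.closure (Set.range fun p : Γ(A, (⊤ : X.Opens)) × Γ(B, (⊤ : X.Opens)) => M2.tsec A B p.1 p.2)

theorem tsec_mem_prods {A B : X.Modules} (a : Γ(A, (⊤ : X.Opens))) (b : Γ(B, (⊤ : X.Opens))) :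
    M2.tsec A B a b ∈ prods A B := AddSubgroup.subset_closure ⟨(a, b), rfl⟩

theorem prods_surjective {A B : X.Modules} (h : ∀ y, y ∈ prods A B) :
    Function.Surjective ((toSheafify (Opens.grothendieckTopology X) (CohB1.tensorPre A B).presheaf).app (op ⊤)) := by
  intro y
  have hy := h y
  change ∃ z, (M2.unitS (M2.pm A ⊗ M2.pm B)).app (op ⊤) z = y
  induction hy using AddSubgroup.closure_induction with
  | mem z hz => obtain ⟨⟨a, b⟩, rfl⟩ := hz; exact ⟨_, rfl⟩
  | zero => exact ⟨0, map_zero _⟩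
  | add z w _ _ hz hw =>
    obtain ⟨z', rfl⟩ := hz
    obtain ⟨w', rfl⟩ := hw
    exact ⟨z' + w', map_add _ _ _⟩
  | neg z _ hz => obtain ⟨z', rfl⟩ := hz; exact ⟨-z', map_neg _ _⟩

variable (k : Type u) [CommRing k] [X.Over (Spec (CommRingCat.of k))]

include k in
/-- All sections of `A(1)` are sums of products. -/
theorem mem_prods_one (A : X.Modules)
    (h : ∀ l, 2 + l ≤ D.num → Subsingleton (Coh.HH X (tpow D.down (CohB1.tensorMod A (D.O 1)) (2 + l)) (1 + l)))
    (y : Γ(CohB1.tensorMod A (D.O 1), (⊤ : X.Opens))) : y ∈ prods A (D.O 1) := by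
  let M := CohB1.tensorMod A (D.O 1)
  suffices h' : ∀ x : Coh.HH X M 0, CurveCoh17.hh0 M x ∈ prods A (D.O 1) by
    simpa using h' ((CurveCoh17.hh0 M).symm y)
  intro x
  have hmem := D.mem_iSup_mul_le k M h x
  induction hmem using Submodule.iSup_induction' with
  | mem j z hz =>
    obtain ⟨w, rfl⟩ := hz
    rw [CurveCoh17.hh0_hmap, ap_mul_eq, Scheme.Modules.Hom.comp_app, CategoryTheory.comp_apply,
      Scheme.Modules.Hom.comp_app, CategoryTheory.comp_apply, rUnit_inv_app, M2.tensorMap_tsec]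
    exact tsec_mem_prods _ _
  | zero => rw [map_zero]; exact zero_mem _
  | add z w _ _ hz hw => rw [map_add]; exact add_mem hz hw

variable {D} {F : X.Modules} {m : ℤ}

include k in
theorem IsReg.van_tpow (h : D.IsReg F m) (l : ℕ) :
    Subsingleton (Coh.HH X (tpow D.down (CohB1.tensorMod (D.tw F m) (D.O 1)) (2 + l)) (1 + l)) :=
  van_iso k (D.twIso F (by push_cast; ring) ≪≫ (D.tpowIso F (m + 1) (2 + l)).symm ≪≫
    tpowMap D.down (D.twTwist F m 1).symm (2 + l) : D.tw F (m - (1 + l : ℕ)) ≅ _) (h (1 + l) (by omega))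

include k in
/-- All sections of `F(m)(e)` are sums of products. -/
theorem IsReg.mem_prods (h : D.IsReg F m) : ∀ (e : ℕ) (y : Γ(CohB1.tensorMod (D.tw F m) (D.O (e : ℤ)), (⊤ : X.Opens))),
    y ∈ prods (D.tw F m) (D.O (e : ℤ))
  | 0, y => by
    let φ := (M2.tensorRUnit (D.tw F m)).symm ≪≫ M2.tensorIso (Iso.refl (D.tw F m)) D.zero.symm
    rw [← show φ.hom.app ⊤ (φ.inv.app ⊤ y) = y from congrArg (fun f => f.app ⊤ y) φ.inv_hom_id]
    generalize φ.inv.app ⊤ y = a
    simp only [φ, Iso.trans_hom, Iso.symm_hom, Scheme.Modules.Hom.comp_app, CategoryTheory.comp_apply,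
      rUnit_inv_app]
    rw [tensorIso_hom_tsec]
    exact tsec_mem_prods _ _
  | e + 1, y => by
    let A := D.tw F m
    let B := CohB1.tensorMod A (D.O (e : ℤ))
    let φ := M2.tensorAssoc A (D.O (e : ℤ)) (D.O 1) ≪≫
      M2.tensorIso (Iso.refl A) (D.add (e : ℤ) 1 ≪≫ eqToIso (by push_cast; rfl) : _ ≅ D.O ((e + 1 : ℕ) : ℤ))
    rw [← show φ.hom.app ⊤ (φ.inv.app ⊤ y) = y from congrArg (fun f => f.app ⊤ y) φ.inv_hom_id]
    have hvan : ∀ l, Subsingleton (Coh.HH X (tpow D.down (CohB1.tensorMod B (D.O 1)) (2 + l)) (1 + l)) :=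
      fun l => van_iso k (tpowMap D.down ((M2.tensorR (D.O 1)).mapIso (D.twTwist F m (e : ℤ))).symm (2 + l))
        ((h.of_le k (show m ≤ m + (e : ℤ) by omega)).van_tpow k l)
    have hy := D.mem_prods_one k B (fun l _ => hvan l) (φ.inv.app ⊤ y)
    revert hy
    generalize φ.inv.app ⊤ y = z
    intro hy
    induction hy using AddSubgroup.closure_induction with
    | mem z hz =>
      obtain ⟨⟨b, t⟩, rfl⟩ := hz
      have hb := IsReg.mem_prods h e b
      induction hb using AddSubgroup.closure_induction with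
      | mem b hb =>
        obtain ⟨⟨a, s⟩, rfl⟩ := hb
        simp only [φ, Iso.trans_hom, Scheme.Modules.Hom.comp_app, CategoryTheory.comp_apply, B]
        rw [VA11.tensorAssoc_tsec, tensorIso_hom_tsec]
        exact tsec_mem_prods _ _
      | zero => dsimp only; rw [Amp.tsec_zero_left, map_zero]; exact zero_mem _
      | add b b' _ _ h1 h2 => dsimp only at h1 h2 ⊢; rw [M2.tsec_add_left, map_add]; exact add_mem h1 h2
      | neg b _ h1 =>
        dsimp only at h1 ⊢
        rw [show M2.tsec B (D.O 1) (-b) t = -M2.tsec B (D.O 1) b t by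
          rw [← neg_one_smul Γ(X, ⊤) b, M2.tsec_smul_left, neg_one_smul], map_neg]
        exact neg_mem h1
    | zero => rw [map_zero]; exact zero_mem _
    | add z w _ _ hz hw => rw [map_add]; exact add_mem hz hw
    | neg z _ hz => rw [map_neg]; exact neg_mem hz

end TwistData

end Groth.Agent.CMReg18
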