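import Groth.Agent.Lib.CMReg18.Avoid
import Groth.Agent.Lib.WeakAss18.Basic
import Groth.Agent.Lib.EulerAdd18.Basic

/-!
# The uniform regularity bound
-/

set_option autoImplicit false
set_option linter.style.haveILetI false
set_option backward.isDefEq.respectTransparency false

universe u

open CategoryTheory CategoryTheory.Limits AlgebraicGeometry TopologicalSpace Opposite

namespace Groth.Agent.CMReg18

open Groth.Agent

theorem int_le_sq (a : ℤ) : |a| ≤ a ^ 2 := by
  rcases eq_or_ne a 0 with rfl | h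
  · simp
  · calc |a| = |a| * 1 := (mul_one _).symm
      _ ≤ |a| * |a| := mul_le_mul_of_nonneg_left (Int.one_le_abs h) (abs_nonneg _)
      _ = a ^ 2 := by rw [abs_mul_abs_self, sq]

theorem choose_le_pow' {N j d : ℕ} (hj : j ≤ d) (hN : 1 ≤ N) : N.choose j ≤ N ^ d :=
  (Nat.choose_le_pow N j).trans (Nat.pow_le_pow_right hN hj)

/-- The bound for the binomial expansion. -/
theorem sum_choose_ge {d : ℕ} (a : Fin (d + 1) → ℤ) {x : ℤ} {B : ℤ} (hx : 0 < x) (hB : x ≤ B) :
    -((∑ j, a j ^ 2) * B ^ d) ≤ ∑ j : Fin (d + 1), a j * Ring.choose x (j : ℕ) := by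
  obtain ⟨N, rfl⟩ : ∃ N : ℕ, x = N := ⟨x.toNat, by omega⟩
  rw [Finset.sum_mul, ← Finset.sum_neg_distrib]
  refine Finset.sum_le_sum fun j _ => ?_
  rw [Ring.choose_natCast]
  have h1 : ((N.choose j : ℕ) : ℤ) ≤ B ^ d :=
    (show ((N.choose j : ℕ) : ℤ) ≤ ((N ^ d : ℕ) : ℤ) by exact_mod_cast choose_le_pow' (by omega) (by omega)).trans
      (by push_cast; exact pow_le_pow_left₀ (by omega) hB d)
  have h2 : (0 : ℤ) ≤ (N.choose j : ℕ) := by positivity
  have h3 : |a j| * (N.choose j : ℕ) ≤ a j ^ 2 * B ^ d :=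
    mul_le_mul (int_le_sq _) h1 h2 (sq_nonneg _)
  have h4 := neg_abs_le (a j * (N.choose j : ℕ))
  rw [abs_mul, abs_of_nonneg h2] at h4
  linarith

variable {k : Type u} [Field k] {n : ℕ}

local notation "D" => projData k n
local notation "PP" => CohB1.ProjSpace n k

theorem euler_congr {M N : (CohB1.ProjSpace n k).Modules} (e : M ≅ N) :
    Curv2.euler k PP M = Curv2.euler k PP N := by
  rw [Curv2.euler, Curv2.euler]
  exact finsum_congr fun i => by rw [(CurveCoh17.hequiv k e i).finrank_eq]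

/-- One step of the induction. -/
theorem bound_step [Infinite k] {p d : ℕ} (c : ℤ) (P' : (Fin (d + 1) → ℤ) → ℤ) (B : ℤ)
    (hP' : ∀ (A F : (CohB1.ProjSpace n k).Modules), Coh.IsCoh A → Coh.IsCoh F → ∀ ι : F ⟶ A, Mono ι →
      (projData k n).IsReg A 0 →
      (∀ m : ℤ, 0 ≤ m →
        (Module.finrank k (Coh.HH (CohB1.ProjSpace n k) ((projData k n).tw A m) 0) : ℤ) ≤ p * (m + n) ^ n) →
      topologicalKrullDim ↥(CohB1.support A) ≤ (d : WithBot ℕ∞) →
      ∀ a : Fin (d + 1) → ℤ, (∀ r : ℤ, Curv2.euler k (CohB1.ProjSpace n k) ((projData k n).tw F r) =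
        ∑ j : Fin (d + 1), a j * Ring.choose (r + (c - 1)) (j : ℕ)) → (projData k n).IsReg F (P' a))
    {A F : (CohB1.ProjSpace n k).Modules} (hA : Coh.IsCoh A) (hF : Coh.IsCoh F) (ι : F ⟶ A) [Mono ι]
    (hreg : (projData k n).IsReg A 0)
    (hh0 : ∀ m : ℤ, 0 ≤ m →
      (Module.finrank k (Coh.HH (CohB1.ProjSpace n k) ((projData k n).tw A m) 0) : ℤ) ≤ p * (m + n) ^ n)
    (hd : topologicalKrullDim ↥(CohB1.support A) ≤ ((d + 1 : ℕ) : WithBot ℕ∞))
    (a : Fin (d + 2) → ℤ) (ha : ∀ r : ℤ, Curv2.euler k (CohB1.ProjSpace n k) ((projData k n).tw F r) =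
      ∑ j : Fin (d + 2), a j * Ring.choose (r + c) (j : ℕ))
    (hB : P' (fun j => a j.succ) ≤ B) (hB0 : 1 ≤ B) (hBc : 2 ≤ B + c) :
    (projData k n).IsReg F (B + p * (B + n) ^ n + (∑ j, a j ^ 2) * (B + |c|) ^ (d + 1)) := by
  haveI := isProper_projSpace k (n := n)
  haveI : IsNoetherian PP := CohFound.isNoetherian_of_isProper (PP ↘ Spec (CommRingCat.of k))
  -- the quotient and the points to avoid
  let Q := cokernel ι
  have hQ : Coh.IsCoh Q := M1.isCoh_cokernel hF.1 hA ι
  have hT : IsClosed (CohB1.support A) := M1.isClosed_support hA.2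
  haveI : NoetherianSpace ↥(CohB1.support A) :=
    Topology.IsInducing.noetherianSpace ⟨rfl⟩
  choose g hg using fun K : irreducibleComponents ↥(CohB1.support A) => K.2.1.nonempty
  have hfinA : {x : CohB1.ProjSpace n k | Curv2.IsWeakAssPoint A x}.Finite :=
    (WA.finite_weakAss hA.1 hA.2 (U := ⊤) isCompact_univ).subset fun x hx => ⟨trivial, hx⟩
  have hfinQ : {x : CohB1.ProjSpace n k | Curv2.IsWeakAssPoint Q x}.Finite :=
    (WA.finite_weakAss hQ.1 hQ.2 (U := ⊤) isCompact_univ).subset fun x hx => ⟨trivial, hx⟩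
  haveI := (NoetherianSpace.finite_irreducibleComponents (α := ↥(CohB1.support A))).to_subtype
  obtain ⟨s, hs⟩ := exists_section_avoid (k := k) (n := n)
    ((hfinA.union hfinQ).union (Set.finite_range fun K => (g K).1))
  haveI : Mono ((D).mulSec s A) := (D).mono_mulSec s hA.1 fun y hy => hs y (Or.inl (Or.inl hy))
  haveI : Mono ((D).mulSec s Q) := (D).mono_mulSec s hQ.1 fun y hy => hs y (Or.inl (Or.inr hy))
  -- the restrictions
  let πA := cokernel.π ((D).mulSec s A)
  let G := Abelian.image (ι ≫ πA)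
  have hsQ : ((ShortComplex.mk ι (cokernel.π ι) (cokernel.condition ι)).map (M2.tensorR ((D).O (-1)))).ShortExact :=
    (D).shortExact_tw { exact := ShortComplex.exact_cokernel ι } (-1)
  haveI : Mono ((M2.tensorR ((D).O (-1))).map ι) := hsQ.mono_f
  have hnat := (D).mulSec_natural s ι
  haveI : Mono ((D).mulSec s F) := by
    haveI : Mono ((D).mulSec s F ≫ ι) := by rw [← hnat]; exact mono_comp _ _
    exact mono_of_mono ((D).mulSec s F) ι
  have hfac0 : Abelian.factorThruImage (ι ≫ πA) ≫ Abelian.image.ι (ι ≫ πA) = ι ≫ πA := Abelian.image.fac _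
  have hzero : (D).mulSec s F ≫ Abelian.factorThruImage (ι ≫ πA) = 0 := by
    rw [← cancel_mono (Abelian.image.ι (ι ≫ πA)), zero_comp, Category.assoc, hfac0, ← Category.assoc, ← hnat,
      Category.assoc, cokernel.condition, comp_zero]
  let S := ShortComplex.mk ((D).mulSec s F) (Abelian.factorThruImage (ι ≫ πA)) hzero
  have hlim : IsLimit (KernelFork.ofι ((D).mulSec s F) hzero) := by
    refine KernelFork.IsLimit.ofι' _ _ fun {Z} w hw => ?_
    have h1 : (w ≫ ι) ≫ πA = 0 := by
      rw [Category.assoc, ← hfac0, ← Category.assoc w, hw, zero_comp]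
    obtain ⟨l₀, hl₀⟩ := KernelFork.IsLimit.lift' (Abelian.monoIsKernelOfCokernel _ (cokernelIsCokernel ((D).mulSec s A)))
      (w ≫ ι) h1
    let l : Z ⟶ (D).tw A (-1) := l₀
    have hl : l ≫ (D).mulSec s A = w ≫ ι := hl₀
    have h2 : l ≫ (M2.tensorR ((D).O (-1))).map (cokernel.π ι) = 0 := by
      refine (cancel_mono ((D).mulSec s Q)).1 ?_
      refine (Category.assoc _ _ _).trans ((congrArg (fun f => l ≫ f) ((D).mulSec_natural s (cokernel.π ι))).trans ?_)
      refine (Category.assoc _ _ _).symm.trans ((congrArg (fun f => f ≫ cokernel.π ι) hl).trans ?_)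
      rw [Category.assoc, cokernel.condition, comp_zero]
      exact zero_comp.symm
    obtain ⟨b, hb⟩ := KernelFork.IsLimit.lift' hsQ.fIsKernel l h2
    change b ≫ (M2.tensorR ((D).O (-1))).map ι = l at hb
    refine ⟨b, ?_⟩
    rw [← cancel_mono ι, Category.assoc, ← hnat, ← Category.assoc, hb, hl]
  haveI : Epi S.g := inferInstanceAs (Epi (Abelian.factorThruImage (ι ≫ πA)))
  haveI : Mono S.f := inferInstanceAs (Mono ((D).mulSec s F))
  have hS : S.ShortExact := { exact := ShortComplex.exact_of_f_is_kernel S hlim }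
  have hSA : (ShortComplex.mk ((D).mulSec s A) πA (cokernel.condition _)).ShortExact :=
    { exact := ShortComplex.exact_cokernel _ }
  let AH := cokernel ((D).mulSec s A)
  have hAH : Coh.IsCoh AH :=
    M1.isCoh_cokernel (CurveCoh17.isCoh_tensor hA (Snapper.isCoh_of_isInvertible ((D).inv _))).1 hA _
  have hF1 : Coh.IsCoh ((D).tw F (-1)) := CurveCoh17.isCoh_tensor hF (Snapper.isCoh_of_isInvertible ((D).inv _))
  have hG : Coh.IsCoh G := CohFound.isCoh_of_iso
    ((cokernelIsCokernel ((D).mulSec s F)).coconePointUniqueUpToIso hS.gIsCokernel : cokernel ((D).mulSec s F) ≅ G)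
    (M1.isCoh_cokernel hF1.1 hF _)
  haveI : Mono (Abelian.image.ι (ι ≫ πA)) := inferInstance
  have hregAH : (D).IsReg AH 0 := TwistData.IsReg.coker (D) k hSA (Iso.refl _) hreg
  have hh0AH : ∀ m : ℤ, 0 ≤ m →
      (Module.finrank k (Coh.HH PP ((D).tw AH m) 0) : ℤ) ≤ p * (m + n) ^ n := fun m hm => by
    refine le_trans (Int.ofNat_le.2 ?_) (hh0 m hm)
    haveI := (D).finite_HH k hA m 0
    exact LinearMap.finrank_le_finrank_of_surjective (surjective_g k ((D).shortExact_tw hSA m)
      (van_iso k (((D).twTwist A (-1) m) ≪≫ (D).twIso A (show -1 + m = m - 1 by ring)).symm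
        (hreg.van k le_rfl (by push_cast; omega))))
  have hdAH : topologicalKrullDim ↥(CohB1.support AH) ≤ (d : WithBot ℕ∞) := by
    refine krullDim_le_of_components (M1.isClosed_support hAH.2)
      (fun x hx => ((D).support_coker_mulSec_subset s hx).1) (fun K hK hsub => ?_) hd
    exact ((D).support_coker_mulSec_subset s (hsub ⟨g ⟨K, hK⟩, hg ⟨K, hK⟩, rfl⟩)).2
      (hs _ (Or.inr ⟨⟨K, hK⟩, rfl⟩))
  -- Euler characteristics
  have hbdd : ∀ (M : (CohB1.ProjSpace n k).Modules), Coh.IsCoh M → EulerAdd18.Bdd k (n + 1) M := fun M hM =>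
    ⟨fun i => CohFound.finite_HH_of_isProper (A := k) _ hM i, fun i hi => subsingleton_HH_of_lt k hM.1 (by omega)⟩
  have hcoh : ∀ {M : (CohB1.ProjSpace n k).Modules}, Coh.IsCoh M → ∀ r, Coh.IsCoh ((D).tw M r) := fun hM r =>
    CurveCoh17.isCoh_tensor hM (Snapper.isCoh_of_isInvertible ((D).inv r))
  have hG' : ∀ r : ℤ, Curv2.euler k PP ((D).tw G r) =
      ∑ j : Fin (d + 1), a j.succ * Ring.choose (r + (c - 1)) (j : ℕ) := fun r => by
    have hadd := EulerAdd18.euler_add (k := k) ((D).shortExact_tw hS r) (N := n)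
      (hbdd _ (hcoh hF1 r)) (hbdd _ (hcoh hF r)) (hbdd _ (hcoh hG r))
    have e1 : Curv2.euler k PP ((D).tw ((D).tw F (-1)) r) = Curv2.euler k PP ((D).tw F (r - 1)) :=
      euler_congr ((D).twTwist F (-1) r ≪≫ (D).twIso F (by ring))
    change Curv2.euler k PP ((D).tw F r) =
      Curv2.euler k PP ((D).tw ((D).tw F (-1)) r) + Curv2.euler k PP ((D).tw G r) at hadd
    rw [e1, ha, ha, Fin.sum_univ_succ, Fin.sum_univ_succ (f := fun j => a j * Ring.choose (r - 1 + c) (j : ℕ))]
      at hadd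
    simp only [Fin.val_zero, Ring.choose_zero_right, Fin.val_succ] at hadd
    have hp : ∀ j : ℕ, Ring.choose (r + c) (j + 1) = Ring.choose (r + (c - 1)) j + Ring.choose (r - 1 + c) (j + 1) :=
      fun j => by
        rw [show r + c = r + (c - 1) + 1 by ring, Ring.choose_succ_succ, show r - 1 + c = r + (c - 1) by ring]
    simp only [hp, mul_add, Finset.sum_add_distrib] at hadd
    linarith
  have hGreg : (D).IsReg G B := (hP' AH G hAH hG (Abelian.image.ι (ι ≫ πA)) inferInstance hregAH hh0AH hdAH _ hG').of_le k hB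
  -- the bound on the first cohomology
  have hlarge := (D).exists_van_large k (isAmple_twistOne k) hF
  obtain ⟨-, -, h3⟩ := (D).h1_bounds k hS (Iso.refl _) hGreg hlarge fun r => (D).finite_HH k hF r 1
  have hb2 : EulerAdd18.Bdd k 2 ((D).tw F (B - 1)) :=
    ⟨fun i => (D).finite_HH k hF _ i, fun i hi => (D).van_high k hS (Iso.refl _) hGreg hlarge hi (by omega)⟩
  have he := hb2.euler_eq
  rw [ha (B - 1)] at he
  simp only [Finset.sum_range_succ, Finset.sum_range_zero, pow_zero, pow_one, one_mul, zero_add, neg_mul] at he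
  have hlb := sum_choose_ge a (x := B - 1 + c) (B := B + |c|) (by omega) (by linarith [le_abs_self c])
  have hsh0 : (Module.finrank k (Coh.HH PP ((D).tw F (B - 1)) 0) : ℤ) ≤
      Module.finrank k (Coh.HH PP ((D).tw A (B - 1)) 0) := Int.ofNat_le.2 <| by
    haveI := (D).finite_HH k hA (B - 1) 0
    exact LinearMap.finrank_le_finrank_of_injective (CurveCoh17.hmap_f_injective k
      ((D).shortExact_tw ({ exact := ShortComplex.exact_cokernel ι } :
        (ShortComplex.mk ι (cokernel.π ι) (cokernel.condition ι)).ShortExact) (B - 1)))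
  have hmono : (B - 1 + n) ^ n ≤ (B + n) ^ n := pow_le_pow_left₀ (by omega) (by omega) n
  refine h3.of_le k ?_
  change B + ((D).h1 k F (B - 1) : ℤ) ≤ _
  have hh := hh0 (B - 1) (by omega)
  have := mul_le_mul_of_nonneg_left hmono (Int.natCast_nonneg p)
  linarith

open MvPolynomial in
/-- The uniform bound. -/
theorem exists_bound_poly (p n : ℕ) : ∀ (d : ℕ) (c : ℤ), ∃ P : MvPolynomial (Fin (d + 1)) ℤ,
    ∀ (k : Type u) [Field k] [Infinite k] (A F : (CohB1.ProjSpace n k).Modules), Coh.IsCoh A → Coh.IsCoh F →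
      ∀ ι : F ⟶ A, Mono ι → (projData k n).IsReg A 0 →
      (∀ m : ℤ, 0 ≤ m →
        (Module.finrank k (Coh.HH (CohB1.ProjSpace n k) ((projData k n).tw A m) 0) : ℤ) ≤ p * (m + n) ^ n) →
      topologicalKrullDim ↥(CohB1.support A) ≤ (d : WithBot ℕ∞) →
      ∀ a : Fin (d + 1) → ℤ, (∀ r : ℤ, Curv2.euler k (CohB1.ProjSpace n k) ((projData k n).tw F r) =
        ∑ j : Fin (d + 1), a j * Ring.choose (r + c) (j : ℕ)) → (projData k n).IsReg F (eval a P) := by
  intro d
  induction d with
  | zero =>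
    refine fun c => ⟨0, fun k _ _ A F hA hF ι _ _ _ hd a _ i hi => ?_⟩
    haveI := isProper_projSpace k (n := n)
    haveI : IsNoetherian (CohB1.ProjSpace n k) :=
      CohFound.isNoetherian_of_isProper (CohB1.ProjSpace n k ↘ Spec (CommRingCat.of k))
    refine NumPoly18.subsingleton_HH_of_support (k := k)
      (CurveCoh17.isCoh_tensor hF (Snapper.isCoh_of_isInvertible ((projData k n).inv _)))
      (d := 0) ((Snapper.dim_le_of_subset ?_ hd)) (by omega)
    exact (Snapper.support_tensor_subset _ _).trans (CohFound.support_subset_of_mono ι)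
  | succ d ih =>
    intro c
    obtain ⟨P', hP'⟩ := ih (c - 1)
    let M : MvPolynomial (Fin (d + 2)) ℤ := rename Fin.succ P' ^ 2 + C (|c| + 2)
    refine ⟨M + C (p : ℤ) * (M + C (n : ℤ)) ^ n + (∑ j, X j ^ 2) * (M + C |c|) ^ (d + 1),
      fun k _ _ A F hA hF ι _ hreg hh0 hd a ha => ?_⟩
    have hM : eval a M = (eval (fun j => a j.succ) P') ^ 2 + (|c| + 2) := by
      simp only [M, map_add, map_pow, eval_rename, eval_C]
      rfl
    have hnn : 0 ≤ (eval (fun j => a j.succ) P') ^ 2 := sq_nonneg _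
    have h1 := int_le_sq (eval (fun j => a j.succ) P')
    have h2 := le_abs_self (eval (fun j => a j.succ) P')
    have h3 := neg_abs_le c
    have := bound_step (k := k) (n := n) c (fun b => eval b P') (eval a M) (hP' k) hA hF ι hreg hh0 hd a ha
      (by rw [hM]; linarith [abs_nonneg c]) (by rw [hM]; linarith [abs_nonneg c]) (by rw [hM]; linarith)
    simp only [map_add, map_mul, map_pow, map_sum, eval_X, eval_C]
    exact this

end Groth.Agent.CMReg18
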