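import Groth.Agent.Lib.CMReg18.ProjTw
import Groth.Agent.Lib.CMReg18.PointBC
import Groth.Agent.Lib.GenFlatStrat4.Limit

/-!
# Noetherian models of finitely presented modules on projective space
-/

set_option autoImplicit false
set_option linter.style.haveILetI false
set_option backward.isDefEq.respectTransparency false
set_option backward.isDefEq.respectTransparency.types false
set_option maxHeartbeats 1600000

universe u

open CategoryTheory CategoryTheory.Limits AlgebraicGeometry Scheme.Modules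

namespace Groth.Agent.CMReg18

open Groth.Agent

/-- A finitely presented module on projective space over a qcqs base comes from a Noetherian base. -/
theorem exists_proj_model (m : ℕ) {V : Scheme.{u}} [CompactSpace V] [QuasiSeparatedSpace V]
    {G : (CohB1.ProjSpaceOver m V).Modules} (hG : CohB1.IsFP G) :
    ∃ (V₀ P₀ : Scheme.{u}) (π₀ : P₀ ⟶ V₀) (ψ : V ⟶ V₀) (q : CohB1.ProjSpaceOver m V ⟶ P₀)
      (L₀ G₀ : P₀.Modules), IsNoetherian V₀ ∧ IsProper π₀ ∧ Flat π₀ ∧ RelAmple.IsRelAmple π₀ L₀ ∧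
      Coh.IsCoh G₀ ∧ IsPullback q (CohB1.ProjSpaceOver.toBase m V) π₀ ψ ∧
      Nonempty ((Scheme.Modules.pullback q).obj L₀ ≅ O1 m V) ∧
      Nonempty ((Scheme.Modules.pullback q).obj G₀ ≅ G) := by
  let Z₀ : Scheme.{u} := Spec (CommRingCat.of (ULift.{u} ℤ))
  haveI : IsNoetherianRing (CommRingCat.of (ULift.{u} ℤ)) :=
    isNoetherianRing_of_ringEquiv ℤ ULift.ringEquiv.symm
  obtain ⟨I, _, _, hne, D, c, hc, hD, haff, ⟨e₀⟩⟩ :=
    S7383.result (specULiftZIsTerminal.from V : V ⟶ Z₀)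
  haveI : IsConnected (Iᵒᵖ) := IsCofiltered.isConnected _
  let D₁ := D ⋙ Over.forget _
  let c₁ := (Over.forget _).mapCone c
  have hc₁ : IsLimit c₁ := isLimitOfPreserves (Over.forget _) hc
  haveI : ∀ {i j : Iᵒᵖ} (a : i ⟶ j), IsAffineHom (D₁.map a) := fun a => haff _ _ a
  haveI : ∀ i, CompactSpace (D₁.obj i) := fun i => by
    let p : D₁.obj i ⟶ Z₀ := (D.obj i).hom
    haveI : QuasiCompact p := (hD i).2.1
    exact QuasiCompact.compactSpace_of_compactSpace p
  haveI : ∀ i, QuasiSeparatedSpace (D₁.obj i) := fun i => by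
    let p : D₁.obj i ⟶ Z₀ := (D.obj i).hom
    haveI : QuasiSeparated p := (hD i).2.2
    exact quasiSeparatedSpace_of_quasiSeparated p
  haveI hnoe : ∀ i, IsLocallyNoetherian (D₁.obj i) := fun i => by
    let p : D₁.obj i ⟶ Z₀ := (D.obj i).hom
    haveI : LocallyOfFinitePresentation p := (hD i).1
    exact LocallyOfFiniteType.isLocallyNoetherian p
  let e : c₁.pt ≅ V := (Over.forget _).mapIso e₀
  obtain ⟨i₀⟩ := hne
  let i : Iᵒᵖ := Opposite.op i₀
  let fi := CohB1.ProjSpaceOver.toBase m (D₁.obj i)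
  let σ : V ⟶ D₁.obj i := e.inv ≫ c₁.π.app i
  let fc : CohB1.ProjSpaceOver m V ⟶ c₁.pt := CohB1.ProjSpaceOver.toBase m V ≫ e.inv
  have hg : IsPullback (FGA.projMap m σ) fc fi (c₁.π.app i) :=
    (isPullback_projMap m σ).of_iso (Iso.refl _) (Iso.refl _) e.symm (Iso.refl _)
      ((Category.comp_id _).trans (Category.id_comp _).symm) (Category.id_comp _).symm
      ((Category.comp_id _).trans (Category.id_comp _).symm) (Category.comp_id _)
  let G' := Over.forget i
  let t := Descend.overT D₁ i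
  have hc' : IsLimit (c₁.whisker G') := (Functor.Initial.isLimitWhiskerEquiv G' c₁).symm hc₁
  have hq₀ : ∀ k, (c₁.whisker G').π.app k ≫ t.app k = c₁.π.app i := fun k => c₁.w k.hom
  let cX := Descend.pbCone (G' ⋙ D₁) t fi (c₁.whisker G') hq₀ hg
  have hcX : IsLimit cX := Descend.pbIsLimit (G' ⋙ D₁) t fi (c₁.whisker G') hq₀ hg hc'
  haveI : CompactSpace (CohB1.ProjSpaceOver m (D₁.obj i)) := QuasiCompact.compactSpace_of_compactSpace fi
  haveI : QuasiSeparatedSpace (CohB1.ProjSpaceOver m (D₁.obj i)) := quasiSeparatedSpace_of_quasiSeparated fi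
  haveI : ∀ (k l : Over i) (a : k ⟶ l), IsAffineHom ((Descend.pbDiagram (G' ⋙ D₁) t fi).map a) :=
    fun k l a => inferInstance
  haveI : Coh.IsQCoh (X := cX.pt) G := M1.isFP_isQCoh hG
  obtain ⟨k, -, Gk, hGk, hGkfp, ⟨eG⟩⟩ :=
    S4788.result (Descend.pbDiagram (G' ⋙ D₁) t fi) cX hcX (Over.mk (𝟙 i)) (G : cX.pt.Modules) hG
  have hsq := Descend.pbCone_isPullback (G' ⋙ D₁) t fi (c₁.whisker G') hq₀ hg k
  have hsq' : IsPullback (cX.π.app k) (CohB1.ProjSpaceOver.toBase m V) (pullback.snd fi (t.app k))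
      (e.inv ≫ c₁.π.app k.left) :=
    hsq.of_iso (Iso.refl _) (Iso.refl _) e (Iso.refl _) (by simp [cX])
      (by show (CohB1.ProjSpaceOver.toBase m V ≫ e.inv) ≫ e.hom = 𝟙 _ ≫ CohB1.ProjSpaceOver.toBase m V
          erw [Category.assoc, Iso.inv_hom_id, Category.comp_id])
      ((Category.comp_id _).trans (Category.id_comp _).symm)
      (by show c₁.π.app k.left ≫ 𝟙 _ = e.hom ≫ e.inv ≫ c₁.π.app k.left
          erw [Category.comp_id, Iso.hom_inv_id_assoc])
  haveI : IsNoetherian (D₁.obj k.left) := ⟨⟩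
  let φ : (Descend.pbDiagram (G' ⋙ D₁) t fi).obj k ⟶ D₁.obj k.left := pullback.snd fi (t.app k)
  haveI hφ : IsProper φ := MorphismProperty.pullback_snd (P := @IsProper) fi (t.app k) inferInstance
  haveI : IsLocallyNoetherian ((Descend.pbDiagram (G' ⋙ D₁) t fi).obj k) :=
    LocallyOfFiniteType.isLocallyNoetherian φ
  let b := pullback.fst fi (t.app k)
  have hb : IsPullback b φ fi (t.app k) := IsPullback.of_hasPullback _ _
  have hqb : cX.π.app k ≫ b = FGA.projMap m σ := Descend.pbCone_fst (G' ⋙ D₁) t fi (c₁.whisker G') hq₀ hg k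
  obtain ⟨eO⟩ := nonempty_pullback_twistOver m σ 1
  refine ⟨D₁.obj k.left, _, φ, e.inv ≫ c₁.π.app k.left, cX.π.app k,
    (Scheme.Modules.pullback b).obj (O1 m (D₁.obj i)), Gk, inferInstance, hφ, ?_, ?_,
    (M1.isCoh_iff_isFP Gk).mpr hGkfp, hsq', ⟨?_⟩, ⟨eG⟩⟩
  · exact MorphismProperty.pullback_snd (P := @Flat) fi (t.app k) inferInstance
  · exact RA.isRelAmple_of_isPullback hb (isRelAmple_O1 m _)
  · exact (pullbackComp (cX.π.app k) b).app _ ≪≫ (pullbackCongr hqb).app _ ≪≫ eO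

/-- The Euler characteristics of the fibres of a base change. -/
theorem euler_fiber_isPullback {X S X' T : Scheme.{u}} {f : X ⟶ S} [IsProper f] {φ : T ⟶ S} {f' : X' ⟶ T}
    {g' : X' ⟶ X} (h : IsPullback g' f' f φ) {G : X.Modules} (hG : CohB1.IsFP G) (t : T) :
    @Curv2.euler (T.residueField t) _ (f'.fiber t) ⟨f'.fiberToSpecResidueField t⟩
        ((Scheme.Modules.pullback (f'.fiberι t)).obj ((Scheme.Modules.pullback g').obj G)) =
      @Curv2.euler (S.residueField (φ t)) _ (f.fiber (φ t)) ⟨f.fiberToSpecResidueField (φ t)⟩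
        ((Scheme.Modules.pullback (f.fiberι (φ t))).obj G) := by
  letI : (f.fiber (φ t)).Over (Spec (CommRingCat.of (S.residueField (φ t)))) := ⟨f.fiberToSpecResidueField (φ t)⟩
  letI : (f'.fiber t).Over (Spec (CommRingCat.of (T.residueField t))) := ⟨f'.fiberToSpecResidueField t⟩
  exact finsum_congr fun p => congrArg (fun x : ℕ => (-1 : ℤ) ^ p * (x : ℤ)) (finrank_fiberH_baseChange h hG t p)

end Groth.Agent.CMReg18
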