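import Groth.Agent.Lib.CMReg18.Twist
import Groth.Agent.Lib.CMReg18.Hyperplane
import Groth.Agent.Lib.CMReg18.Vanish
import Groth.Agent.Lib.CohFound.ModQuot
import Groth.Agent.Lib.RelAmple18.Generation
import Groth.Agent.Lib.RelAmple18.Ops
import Groth.Agent.Lib.ModLimH13.Flat
import Groth.Agent.S0010
import Groth.Agent.Lib.CBC10.Complex
import Groth.Agent.Lib.KFlat.FinLocFree

/-!
# Vanishing for twists of modules pulled back from a noetherian affine base
-/

set_option autoImplicit false
set_option linter.style.haveILetI false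
set_option backward.isDefEq.respectTransparency false
set_option maxHeartbeats 1200000

universe u

open CategoryTheory CategoryTheory.Limits AlgebraicGeometry Scheme.Modules

namespace Groth.Agent.CMReg18

open Groth.Agent

variable {Z V : Scheme.{u}}

noncomputable def tensorPowUnit (X : Scheme.{u}) :
    ∀ m : ℕ, CohB1.tensorPow (Coh.structureModule X) m ≅ Coh.structureModule X
  | 0 => Iso.refl _
  | m + 1 => M2.tensorRUnit (CohB1.tensorPow (Coh.structureModule X) m) ≪≫ tensorPowUnit X m

/-- Coherent modules on affine noetherian schemes are quotients of free ones. -/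
theorem exists_epi_free_affine [IsAffine V] [IsNoetherian V] {N : V.Modules} (hN : Coh.IsCoh N) :
    ∃ (k : ℕ) (p : FlatMod.freeMod V k ⟶ N), Epi p := by
  have hO : CohB1.IsAmple (Coh.structureModule V) := RA.isQuasiAffine_iff_isAmple.1 inferInstance
  obtain ⟨m, hm⟩ := RA.exists_globallyGenerated hO N hN.1 hN.2
  let e : CohB1.tensorMod N (CohB1.tensorPow (Coh.structureModule V) m) ≅ N :=
    M2.tensorIso (Iso.refl N) (tensorPowUnit V m) ≪≫ M2.tensorRUnit N
  obtain ⟨k, p, hp⟩ := CohFound.exists_epi_freeMod (CohFound.isCoh_of_iso e.symm hN) (hm m le_rfl)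
  exact ⟨k, p ≫ e.hom, epi_comp p e.hom⟩

/-- The cohomology of a finite free twist. -/
theorem subsingleton_HH_freeMod_tw (D : TwistData Z) {d : ℤ} {j : ℕ}
    (h : Subsingleton (Coh.HH Z (D.O d) j)) (k : ℕ) (A : Type u) [CommRing A]
    [Z.Over (Spec (CommRingCat.of A))] :
    Subsingleton (Coh.HH Z (D.tw (FlatMod.freeMod Z k) d) j) := by
  classical
  let R := M2.tensorR (D.O d)
  let ι₀ : ∀ i : Fin k, Coh.structureModule Z ⟶ FlatMod.freeMod Z k :=
    Sigma.ι (fun _ : Fin k => Coh.structureModule Z)
  let π₀ : ∀ i : Fin k, FlatMod.freeMod Z k ⟶ Coh.structureModule Z := fun i =>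
    Sigma.desc fun i' => if i' = i then 𝟙 _ else 0
  have hsum : ∑ i, π₀ i ≫ ι₀ i = 𝟙 (FlatMod.freeMod Z k) := Sigma.hom_ext _ _ fun i => by
    rw [Preadditive.comp_sum, Finset.sum_eq_single i]
    · simp [ι₀, π₀]
    · intro b _ hb
      simp [π₀, Ne.symm hb]
    · simp
  have h' : Subsingleton (Coh.HH Z (R.obj (Coh.structureModule Z)) j) :=
    van_iso A (M2.tensorLUnit (D.O d)).symm h
  refine subsingleton_of_forall_eq 0 fun x => ?_
  have key : ∀ (J : Finset (Fin k)), CurveCoh17.hmap A (R.map (∑ i ∈ J, π₀ i ≫ ι₀ i)) j x = 0 := fun J => by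
    induction J using Finset.induction_on with
    | empty => rw [Finset.sum_empty, Functor.map_zero, CurveCoh17.hmap_zero]
    | insert a J ha ih =>
      rw [Finset.sum_insert ha, Functor.map_add, hmap_add, ih, add_zero, Functor.map_comp, CurveCoh17.hmap_comp,
        Subsingleton.elim (α := Coh.HH Z (R.obj (Coh.structureModule Z)) j)
          (CurveCoh17.hmap A (R.map (π₀ a)) j x) 0, map_zero]
  have := key Finset.univ
  rwa [hsum, R.map_id, CurveCoh17.hmap_id] at this

/-- Twists of pulled back modules have no cohomology where the twists of the unit have none. -/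
theorem subsingleton_HH_pullback_tw [IsAffine V] [IsNoetherian V] (g : Z ⟶ V) [Flat g]
    [CompactSpace Z] [IsSeparated g] (D : TwistData Z) (A : Type u) [CommRing A]
    [Z.Over (Spec (CommRingCat.of A))] {d : ℤ} {i : ℕ}
    (hd : ∀ j, i ≤ j → Subsingleton (Coh.HH Z (D.O d) j)) {N : V.Modules} (hN : Coh.IsCoh N)
    (j : ℕ) (hj : i ≤ j) : Subsingleton (Coh.HH Z (D.tw ((Scheme.Modules.pullback g).obj N) d) j) := by
  haveI : Z.IsSeparated := ⟨by rw [← terminal.comp_from g]; infer_instance⟩
  obtain ⟨ι, hfin, W, hW, hWa⟩ := CBC10.exists_finite_affine_cover Z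
  haveI := Fintype.ofFinite ι
  let t := Fintype.card ι
  let e := Fintype.equivFin ι
  suffices H : ∀ (m : ℕ) (j : ℕ), i ≤ j → t ≤ j + m → ∀ {N : V.Modules}, Coh.IsCoh N →
      Subsingleton (Coh.HH Z (D.tw ((Scheme.Modules.pullback g).obj N) d) j) from H t j hj (by omega) hN
  intro m
  induction m with
  | zero =>
    intro j _ hjt N hN
    haveI : Coh.IsQCoh (D.tw ((Scheme.Modules.pullback g).obj N) d) :=
      M2.isQCoh_tensor (M1.isQCoh_pullback g hN.1) (Twist.isQCoh_of_isInvertible (D.inv d))
    exact S0010.result Z t (fun a => W (e.symm a)) (fun a => hWa _)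
      (eq_top_iff.2 (hW.trans (iSup_le fun a => le_iSup_of_le (e a) (by simp))))
      (fun _ _ h1 h2 => h1.inf h2) _ j (by omega)
  | succ m ih =>
    intro j hij hjt N hN
    obtain ⟨k, p, hp⟩ := exists_epi_free_affine hN
    haveI := hp
    haveI : (Scheme.Modules.pullback g).Additive := (pullbackPushforwardAdjunction g).left_adjoint_additive
    haveI : PreservesColimitsOfSize.{0, 0} (Scheme.Modules.pullback g) :=
      (pullbackPushforwardAdjunction g).leftAdjoint_preservesColimits
    let S₀ := ShortComplex.mk (kernel.ι p) p (kernel.condition p)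
    have hS₀ : S₀.ShortExact := { exact := ShortComplex.exact_of_f_is_kernel _ (kernelIsKernel p) }
    let S₁ := S₀.map (Scheme.Modules.pullback g)
    have hS₁ : S₁.ShortExact := ShortComplex.ShortExact.mk' (hS₀.exact.map_of_epi_of_preservesCokernel _ hp inferInstance)
      (ModLimH13.mono_pullback_map_of_flat g _) (inferInstanceAs (Epi ((Scheme.Modules.pullback g).map p)))
    have hK : Coh.IsCoh (kernel p) :=
      M1.isCoh_kernel (CohFound.isCoh_of_isFinLocFree (KFlat.Sch.isFinLocFree_freeMod V k)) hN.1 p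
    have h2 : Subsingleton (Coh.HH Z (D.tw S₁.X₂ d) j) :=
      van_iso A (M2.tensorIso (M2.freeModPullbackIso g k) (Iso.refl _)).symm
        (subsingleton_HH_freeMod_tw D (hd j hij) k A)
    exact van₃ A (D.shortExact_tw hS₁ d) h2 (ih (j + 1) (by omega) (by omega) hK)

end Groth.Agent.CMReg18
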