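import Groth.Agent.Lib.K0Cat.Basic
import Groth.Agent.Lib.KFlat.Pullback
import Groth.Agent.Lib.KFlat.LpullPC
import Groth.Agent.Lib.TensorMod.Invertible
import Groth.Prelude.Def_KRR

/-!
# Pull-back on the K-group of bundles
-/

set_option autoImplicit false
set_option linter.style.haveILetI false
set_option backward.isDefEq.respectTransparency false

universe v u

open CategoryTheory CategoryTheory.Limits AlgebraicGeometry

namespace Groth.Agent.CMReg18

open Groth.Agent

variable {X Y : Scheme.{u}} (f : X ⟶ Y)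

theorem shortExact_pullback (S : ShortComplex Y.Modules) (hS : S.ShortExact)
    (h₃ : FlatMod.IsFlat S.X₃) : (S.map (Scheme.Modules.pullback f)).ShortExact := by
  haveI := (Scheme.Modules.pullbackPushforwardAdjunction f).leftAdjoint_preservesColimits.{0, 0}
  haveI : Mono ((Scheme.Modules.pullback f).map S.f) :=
    KFlat.Sch.mono_pullback_map f S hS ((KFlat.Sch.isFlat_iff _).2 h₃)
  haveI := hS.epi_g
  exact ShortComplex.ShortExact.mk' (hS.exact.map_of_epi_of_preservesCokernel _ inferInstance inferInstance)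
    (by assumption) ((Scheme.Modules.pullback f).map_epi S.g)

/-- The pull-back of classes of bundles. -/
noncomputable def kPull : SGA6.Kvb Y →+ SGA6.Kvb X :=
  K0Cat.liftSub (fun E : Subtype (KRR.vbP Y) => KRR.cl X ((Scheme.Modules.pullback f).obj E.1))
    fun S h₁ h₂ h₃ hS => K0Cat.clSub_ses _ (shortExact_pullback f S hS (KFlat.Sch.isFlat_of_isFinLocFree h₃))
      (M2.isFinLocFree_pullback f h₁) (M2.isFinLocFree_pullback f h₂) (M2.isFinLocFree_pullback f h₃)

theorem kPull_cl {E : Y.Modules} (hE : FlatMod.IsFinLocFree E) :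
    kPull f (KRR.cl Y E) = KRR.cl X ((Scheme.Modules.pullback f).obj E) :=
  K0Cat.liftSub_clSub _ _ (show KRR.vbP Y E from hE)

theorem existsUnique_isPull {KX KY : Type v} [CommRing KX] [CommRing KY] {φY : SGA6.Kvb Y →+ KY}
    (φX : SGA6.Kvb X →+ KX) (hb : Function.Bijective φY) : ∃! g : KY →+ KX, KRR.IsPull f φY φX g := by
  let ψ := AddEquiv.ofBijective φY hb
  have hψ : ∀ a, ψ.symm (φY a) = a := ψ.symm_apply_apply
  refine ⟨φX.comp ((kPull f).comp ψ.symm.toAddMonoidHom), fun E hE => ?_, fun g hg => ?_⟩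
  · show φX (kPull f (ψ.symm (φY _))) = _
    rw [hψ, kPull_cl f hE]
  · refine AddMonoidHom.ext fun x => ?_
    obtain ⟨a, rfl⟩ := hb.2 x
    show g (φY a) = φX (kPull f (ψ.symm (φY a)))
    rw [hψ]
    induction a using K0Cat.clSub_induction with
    | h0 => simp only [map_zero]
    | hneg a ha => simp only [map_neg, ha]
    | hadd a b ha hb => simp only [map_add, ha, hb]
    | hcl E hE => exact (hg E hE).trans (congrArg φX (kPull_cl f hE).symm)

end Groth.Agent.CMReg18
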