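import Groth.Agent.Lib.CMReg18.Bounded
import Groth.Agent.Lib.ThetaGrp19.Scalar
import Groth.Agent.Lib.HilbRS3.H0Hom
import Groth.Agent.Lib.NumPoly18.SecImage

/-!
# The universal presentation: regular sheaves with a fixed Hilbert polynomial form a bounded family
-/

set_option autoImplicit false
set_option linter.style.haveILetI false
set_option backward.isDefEq.respectTransparency false
set_option maxHeartbeats 1600000

universe u

open CategoryTheory CategoryTheory.Limits AlgebraicGeometry TopologicalSpace Opposite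

namespace Groth.Agent.CMReg18

open Groth.Agent

variable {k : Type u} [Field k] {X : Scheme.{u}} [X.Over (Spec (CommRingCat.of k))]

theorem secHom_eq_smulHom (r : Γ(X, ⊤)) :
    HilbRS3.scal r = ThetaGrp19.smulHom (Coh.structureModule X) r :=
  M1.unit_hom_ext (by
    refine (M1.secHom_app_one _).trans ?_
    show (show Γ(X, ⊤) from r) = M1.ores (le_top : (⊤ : X.Opens) ≤ ⊤) r * (1 : Γ(X, ⊤))
    rw [M1.ores_id, mul_one])

theorem secHom_zero {M : X.Modules} : M1.secHom (0 : Γ(M, ⊤)) = 0 :=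
  M1.unit_hom_ext (by rw [M1.secHom_app_one]; rfl)

variable [IsProper (X ↘ Spec (CommRingCat.of k))]

/-- Morphisms from the structure module to a coherent one are spanned over `k` by finitely many. -/
theorem exists_span_hom {B : X.Modules} (hB : Coh.IsCoh B) :
    ∃ s : Fin (Module.finrank k (Coh.HH X B 0)) → (Coh.structureModule X ⟶ B),
      ∀ θ : Coh.structureModule X ⟶ B, ∃ c : Fin (Module.finrank k (Coh.HH X B 0)) → k,
        θ = ∑ l, ThetaGrp19.smulHom (Coh.structureModule X)
          (show Γ(X, ⊤) from Coh.toGlobal (X ↘ Spec (CommRingCat.of k)) (c l)) ≫ s l := by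
  haveI : IsNoetherian X := CohFound.isNoetherian_of_isProper (X ↘ Spec (CommRingCat.of k))
  haveI : Module.Finite k (Coh.HH X B 0) := CohFound.finite_HH_of_isProper (A := k) _ hB 0
  let b := Module.finBasis k (Coh.HH X B 0)
  refine ⟨fun l => M1.secHom (CurveCoh17.hh0 B (b l)), fun θ => ?_⟩
  let z := (CurveCoh17.hh0 B).symm (θ.app ⊤ (M1.one ⊤))
  refine ⟨fun l => b.repr z l, ?_⟩
  have hθ : θ = M1.secHom (θ.app ⊤ (M1.one ⊤)) := M1.unit_hom_ext (M1.secHom_app_one _).symm
  have hsum : θ.app ⊤ (M1.one ⊤) = ∑ l, (show Γ(X, ⊤) from Coh.toGlobal (X ↘ Spec (CommRingCat.of k))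
      (b.repr z l)) • CurveCoh17.hh0 B (b l) := by
    conv_lhs => rw [← (CurveCoh17.hh0 B).apply_symm_apply (θ.app ⊤ (M1.one ⊤)),
      ← b.sum_repr ((CurveCoh17.hh0 B).symm (θ.app ⊤ (M1.one ⊤))), map_sum]
    exact Finset.sum_congr rfl fun l _ => CurveCoh17.hh0_smul _ _
  have hadd : ∀ (S : Finset (Fin (Module.finrank k (Coh.HH X B 0))))
      (f : Fin (Module.finrank k (Coh.HH X B 0)) → Γ(B, ⊤)),
      M1.secHom (∑ l ∈ S, f l) = ∑ l ∈ S, M1.secHom (f l) := fun S f => by
    induction S using Finset.induction with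
    | empty => simp [secHom_zero]
    | insert a S ha ih => rw [Finset.sum_insert ha, Finset.sum_insert ha, HilbRS3.secHom_add, ih]
  rw [hθ, hsum, hadd]
  exact Finset.sum_congr rfl fun l _ => by rw [HilbRS3.secHom_smul, secHom_eq_smulHom]

/-- A globally generated coherent module is a quotient of the free module on a basis of sections. -/
theorem exists_epi_basis {G : X.Modules} (hG : Coh.IsCoh G) (hgg : Curv2.IsGloballyGenerated G) {R : ℕ}
    (hR : Module.finrank k (Coh.HH X G 0) ≤ R) : ∃ p : FlatMod.freeMod X R ⟶ G, Epi p := by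
  haveI : IsNoetherian X := CohFound.isNoetherian_of_isProper (X ↘ Spec (CommRingCat.of k))
  obtain ⟨c, p, hp⟩ := CohFound.exists_epi_freeMod hG hgg
  obtain ⟨s, hs⟩ := exists_span_hom (k := k) hG
  choose a ha using fun j : Fin c => hs (Sigma.ι (fun _ : Fin c => Coh.structureModule X) j ≫ p)
  let ψ : FlatMod.freeMod X (Module.finrank k (Coh.HH X G 0)) ⟶ G := Sigma.desc s
  let q : FlatMod.freeMod X c ⟶ FlatMod.freeMod X (Module.finrank k (Coh.HH X G 0)) :=
    Sigma.desc fun j => ∑ l, ThetaGrp19.smulHom (Coh.structureModule X)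
      (show Γ(X, ⊤) from Coh.toGlobal (X ↘ Spec (CommRingCat.of k)) (a j l)) ≫
        Sigma.ι (fun _ : Fin (Module.finrank k (Coh.HH X G 0)) => Coh.structureModule X) l
  have h : q ≫ ψ = p := Sigma.hom_ext _ _ fun j => by
    rw [Sigma.ι_desc_assoc, Preadditive.sum_comp, ha j]
    exact Finset.sum_congr rfl fun l _ => by rw [Category.assoc, Sigma.ι_desc]
  haveI : Epi ψ := by
    haveI := hp
    exact epi_of_epi_fac h
  obtain ⟨e, he⟩ := exists_epi_freeMod_le (X := X) hR
  exact ⟨e ≫ ψ, epi_comp _ _⟩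

/-- A regular module has as many sections as its Euler characteristic. -/
theorem IsReg.euler_eq_h0 (D : TwistData X) {F : X.Modules} {m : ℤ} (h : D.IsReg F m) {r : ℤ} (hr : m ≤ r) :
    Curv2.euler k X (D.tw F r) = Module.finrank k (Coh.HH X (D.tw F r) 0) := by
  rw [Curv2.euler, finsum_eq_single _ 0 fun i hi => ?_]
  · simp
  · haveI := h.van k (i := i) (by omega) (show m - i ≤ r by omega)
    simp [Module.finrank_zero_of_subsingleton]

/-- The projection of a product composed with a slice. -/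
noncomputable def retractIso {T : Scheme.{u}} (q : T ⟶ Spec (CommRingCat.of k))
    (t : Spec (CommRingCat.of k) ⟶ T) (ht : t ≫ q = 𝟙 _) :
    Scheme.Modules.pullback (pullback.fst (X ↘ Spec (CommRingCat.of k)) q) ⋙
      Scheme.Modules.pullback (Pic13.sliceAt k X q t ht) ≅ 𝟭 X.Modules :=
  Scheme.Modules.pullbackComp (Pic13.sliceAt k X q t ht) (pullback.fst (X ↘ Spec (CommRingCat.of k)) q) ≪≫
    Scheme.Modules.pullbackCongr (show Pic13.sliceAt k X q t ht ≫
      pullback.fst (X ↘ Spec (CommRingCat.of k)) q = 𝟙 X from pullback.lift_fst _ _ _) ≪≫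
    Scheme.Modules.pullbackId X

theorem appTop_toGlobal {T : Scheme.{u}} (q : T ⟶ Spec (CommRingCat.of k))
    (t : Spec (CommRingCat.of k) ⟶ T) (ht : t ≫ q = 𝟙 _) (x : Γ(T, ⊤)) (c : k)
    (hx : t.appTop x = (Scheme.ΓSpecIso (CommRingCat.of k)).inv c) :
    (Pic13.sliceAt k X q t ht).appTop ((pullback.snd (X ↘ Spec (CommRingCat.of k)) q).appTop x) =
      (show Γ(X, ⊤) from Coh.toGlobal (X ↘ Spec (CommRingCat.of k)) c) := by
  have h1 : (Pic13.sliceAt k X q t ht).appTop ((pullback.snd (X ↘ Spec (CommRingCat.of k)) q).appTop x) =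
      (Pic13.sliceAt k X q t ht ≫ pullback.snd (X ↘ Spec (CommRingCat.of k)) q).appTop x := rfl
  rw [h1, show Pic13.sliceAt k X q t ht ≫ pullback.snd (X ↘ Spec (CommRingCat.of k)) q =
    (X ↘ Spec (CommRingCat.of k)) ≫ t from pullback.lift_snd _ _ _]
  show (X ↘ Spec (CommRingCat.of k)).appTop (t.appTop x) = _
  rw [hx]
  rfl

/-- The cokernels of the maps from a free module to a fixed coherent module form a bounded family. -/
theorem isBounded_cokernels {B : X.Modules} (hB : Coh.IsCoh B) (R : ℕ) (P : X.Modules) (hPi : PicF.IsInvertible P) :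
    Pic13.IsBounded k X fun G => ∃ ψ : FlatMod.freeMod X R ⟶ B,
      Nonempty (G ≅ CohB1.tensorMod (cokernel ψ) P) := by
  obtain ⟨s, hs⟩ := exists_span_hom (k := k) hB
  let σ := ULift.{u} (Fin R × Fin (Module.finrank k (Coh.HH X B 0)))
  let A := MvPolynomial σ k
  let T : Scheme.{u} := Spec (CommRingCat.of A)
  let q : T ⟶ Spec (CommRingCat.of k) := Spec.map (CommRingCat.ofHom (algebraMap k A))
  haveI : LocallyOfFiniteType q :=
    (HasRingHomProperty.Spec_iff (P := @LocallyOfFiniteType)).2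
      (RingHom.finiteType_algebraMap.2 inferInstance)
  haveI : IsLocallyNoetherian T := LocallyOfFiniteType.isLocallyNoetherian q
  haveI : IsLocallyNoetherian (Pic13.prodK k X q) :=
    LocallyOfFiniteType.isLocallyNoetherian (pullback.snd (X ↘ Spec (CommRingCat.of k)) q)
  let π := pullback.fst (X ↘ Spec (CommRingCat.of k)) q
  let x : Fin R × Fin (Module.finrank k (Coh.HH X B 0)) → Γ(Pic13.prodK k X q, ⊤) := fun jl =>
    (pullback.snd (X ↘ Spec (CommRingCat.of k)) q).appTop
      ((Scheme.ΓSpecIso (CommRingCat.of A)).inv (MvPolynomial.X (ULift.up jl)))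
  haveI : PreservesColimitsOfShape (Discrete (Fin R)) (Scheme.Modules.pullback π) := inferInstance
  let hc := isColimitOfHasCoproductOfPreservesColimit (Scheme.Modules.pullback π)
    (fun _ : Fin R => Coh.structureModule X)
  let u : Fin R → ((Scheme.Modules.pullback π).obj (Coh.structureModule X) ⟶ (Scheme.Modules.pullback π).obj B) :=
    fun j => ∑ l, ThetaGrp19.smulHom _ (x (j, l)) ≫ (Scheme.Modules.pullback π).map (s l)
  let U : (Scheme.Modules.pullback π).obj (FlatMod.freeMod X R) ⟶ (Scheme.Modules.pullback π).obj B :=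
    hc.desc (Cofan.mk _ u)
  have hU : ∀ j, (Scheme.Modules.pullback π).map (Sigma.ι (fun _ : Fin R => Coh.structureModule X) j) ≫ U = u j :=
    fun j => hc.fac (Cofan.mk _ u) ⟨j⟩
  haveI : IsNoetherian X := CohFound.isNoetherian_of_isProper (X ↘ Spec (CommRingCat.of k))
  have hfree := CurveCoh17.isCoh_of_ofRank (M2.isFinLocFreeOfRank_freeMod X R)
  have hC : Coh.IsCoh (cokernel U) :=
    M1.isCoh_cokernel (M1.isCoh_pullback π hfree).1 (M1.isCoh_pullback π hB) U
  have hPπ : PicF.IsInvertible ((Scheme.Modules.pullback π).obj P) := Twist.isInvertible_pullback π hPi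
  refine ⟨T, q, inferInstance, inferInstance, CohB1.tensorMod (cokernel U) ((Scheme.Modules.pullback π).obj P),
    CurveCoh17.isCoh_tensor hC (Snapper.isCoh_of_isInvertible hPπ), fun G => ?_⟩
  rintro ⟨ψ, ⟨eG⟩⟩
  choose c hc' using fun j : Fin R => hs (Sigma.ι (fun _ : Fin R => Coh.structureModule X) j ≫ ψ)
  let ev : A →+* k := MvPolynomial.eval fun jl : σ => c jl.down.1 jl.down.2
  let t : Spec (CommRingCat.of k) ⟶ T := Spec.map (CommRingCat.ofHom ev)
  have ht : t ≫ q = 𝟙 _ := by
    rw [← Spec.map_comp, ← Spec.map_id]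
    congr 1
    ext a
    simp [ev, A]
  have hx : ∀ jl, (Pic13.sliceAt k X q t ht).appTop (x jl) =
      (show Γ(X, ⊤) from Coh.toGlobal (X ↘ Spec (CommRingCat.of k)) (c jl.1 jl.2)) := fun jl => by
    refine appTop_toGlobal q t ht _ _ ?_
    have hn := ConcreteCategory.congr_hom (Scheme.ΓSpecIso_inv_naturality (CommRingCat.ofHom ev))
      (MvPolynomial.X (ULift.up jl) : A)
    refine hn.symm.trans ?_
    show (Scheme.ΓSpecIso (CommRingCat.of k)).inv (ev (MvPolynomial.X (ULift.up jl))) = _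
    exact congrArg _ (MvPolynomial.eval_X _)
  let S := Scheme.Modules.pullback (Pic13.sliceAt k X q t ht)
  let E := retractIso (X := X) q t ht
  haveI : S.IsLeftAdjoint := (Scheme.Modules.pullbackPushforwardAdjunction _).isLeftAdjoint
  have hcomp : S.map U ≫ E.hom.app B = E.hom.app (FlatMod.freeMod X R) ≫ ψ := by
    rw [← cancel_epi (E.inv.app (FlatMod.freeMod X R)), E.inv_hom_id_app_assoc]
    refine Sigma.hom_ext _ _ fun j => ?_
    rw [hc' j]
    have hn : Sigma.ι (fun _ : Fin R => Coh.structureModule X) j ≫ E.inv.app (FlatMod.freeMod X R) =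
        E.inv.app (Coh.structureModule X) ≫
          S.map ((Scheme.Modules.pullback π).map (Sigma.ι (fun _ : Fin R => Coh.structureModule X) j)) :=
      E.inv.naturality _
    rw [reassoc_of% hn, ← S.map_comp_assoc, hU]
    simp only [u, S.map_sum, Preadditive.sum_comp, Preadditive.comp_sum]
    refine Finset.sum_congr rfl fun l _ => ?_
    have hn' : S.map ((Scheme.Modules.pullback π).map (s l)) ≫ E.hom.app B =
        E.hom.app (Coh.structureModule X) ≫ s l := E.hom.naturality (s l)
    rw [S.map_comp, ThetaGrp19.pullback_map_smulHom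
      (Twist.isInvertible_pullback π (PicLoc.isInvertible_structureModule X)), hx, Category.assoc, hn',
      reassoc_of% (ThetaGrp19.smulHom_naturality (E.hom.app (Coh.structureModule X))), E.inv_hom_id_app_assoc]
  refine ⟨t, ht, ⟨?_⟩⟩
  refine M2.pullTensorIso (Pic13.sliceAt k X q t ht) (cokernel U) ((Scheme.Modules.pullback π).obj P) ≪≫
    M2.tensorIso ?_ (E.app P) ≪≫ eG.symm
  exact PreservesCokernel.iso S U ≪≫ cokernel.mapIso _ _ (E.app (FlatMod.freeMod X R)) (E.app B) hcomp

variable {n : ℕ} (ι : X ⟶ CohB1.ProjSpace n k) [IsClosedImmersion ι]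

/-- Regular modules with finitely many Hilbert functions form a bounded family. -/
theorem isBounded_regular (hι : ι ≫ CohB1.ProjSpace.toSpec n k = X ↘ Spec (CommRingCat.of k)) (m : ℤ)
    {S : Set (ℤ → ℤ)} (hfin : S.Finite) :
    Pic13.IsBounded k X fun F => Coh.IsCoh F ∧ ((projData k n).pullback ι).IsReg F m ∧
      (fun d : ℤ => Curv2.euler k X (((projData k n).pullback ι).tw F d)) ∈ S := by
  classical
  let D := (projData k n).pullback ι
  haveI : IsNoetherian X := CohFound.isNoetherian_of_isProper (X ↘ Spec (CommRingCat.of k))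
  let N := hfin.toFinset.sup fun f => (f m).toNat
  choose M' hM' using fun f : ℤ → ℤ => exists_uniform_quotients ι hι N fun l : ℕ => (f (m + l) : ℚ)
  obtain ⟨M, hMle⟩ := (hfin.image M').bddAbove
  let B := D.tw (FlatMod.freeMod X N) M
  have hBcoh : Coh.IsCoh B := CurveCoh17.isCoh_tensor
    (CurveCoh17.isCoh_of_ofRank (M2.isFinLocFreeOfRank_freeMod X N)) (Snapper.isCoh_of_isInvertible (D.inv M))
  obtain ⟨T, q, h1, h2, 𝔉, h3, h4⟩ := isBounded_cokernels (k := k) hBcoh (Module.finrank k (Coh.HH X B 0))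
    (D.O (-(m + M))) (D.inv _)
  refine ⟨T, q, h1, h2, 𝔉, h3, fun F ⟨hF, hreg, hχ⟩ => h4 F ?_⟩
  have hFm : Coh.IsCoh (D.tw F m) := CurveCoh17.isCoh_tensor hF (Snapper.isCoh_of_isInvertible (D.inv m))
  have hN : Module.finrank k (Coh.HH X (D.tw F m) 0) ≤ N := by
    refine le_trans ?_ (Finset.le_sup (f := fun f : ℤ → ℤ => (f m).toNat) (hfin.mem_toFinset.2 hχ))
    show _ ≤ (Curv2.euler k X (D.tw F m)).toNat
    rw [IsReg.euler_eq_h0 D hreg le_rfl, Int.toNat_natCast]
  obtain ⟨p, hp⟩ := exists_epi_basis hFm (hreg.isGloballyGenerated D k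
    (D.exists_gg_large (NumPoly18.isAmple_pullback_twistProjSpace ι) hF)) hN
  haveI := hp
  obtain ⟨-, -, hgg⟩ := hM' (fun d => Curv2.euler k X (D.tw F d)) _ p hFm hp fun l => by
    rw [CurveCoh17.euler_iso (D.twTwist F m (l : ℤ))]
  have hS := D.shortExact_tw (S := ShortComplex.mk (kernel.ι p) p (kernel.condition p))
    { exact := ShortComplex.exact_kernel p } M
  haveI : Module.Finite k (Coh.HH X B 0) := CohFound.finite_HH_of_isProper (A := k) _ hBcoh 0
  haveI : Mono ((M2.tensorR (D.O M)).map (kernel.ι p)) := hS.mono_f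
  have hKN : Module.finrank k (Coh.HH X (D.tw (kernel p) M) 0) ≤ Module.finrank k (Coh.HH X B 0) :=
    LinearMap.finrank_le_finrank_of_injective
      (NumPoly18.hmap_injective_of_mono (k := k) ((M2.tensorR (D.O M)).map (kernel.ι p)))
  obtain ⟨r, hr⟩ := exists_epi_basis (CurveCoh17.isCoh_tensor
    (CurveCoh17.isCoh_kernel (CurveCoh17.isCoh_of_ofRank (M2.isFinLocFreeOfRank_freeMod X N)) hFm.1 p)
    (Snapper.isCoh_of_isInvertible (D.inv M))) (hgg M (hMle ⟨_, hχ, rfl⟩)) hKN
  haveI := hr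
  haveI : Epi ((M2.tensorR (D.O M)).map p) := hS.epi_g
  refine ⟨r ≫ (M2.tensorR (D.O M)).map (kernel.ι p), ⟨?_⟩⟩
  let e : cokernel (r ≫ (M2.tensorR (D.O M)).map (kernel.ι p)) ≅ D.tw (D.tw F m) M :=
    cokernelEpiComp r ((M2.tensorR (D.O M)).map (kernel.ι p)) ≪≫
      (cokernelIsCokernel _).coconePointUniqueUpToIso hS.gIsCokernel
  exact (M2.tensorIso e (Iso.refl (D.O (-(m + M)))) ≪≫
    D.twTwist (D.tw F m) M (-(m + M)) ≪≫ D.twTwist F m (M + -(m + M)) ≪≫
    D.twIso F (by ring) ≪≫ D.twZero F).symm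

end Groth.Agent.CMReg18
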