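import Groth.Agent.Lib.CMReg18.KRRPushO
import Groth.Agent.Lib.CMReg18.PointBC
import Groth.Agent.Lib.CMReg18.ProjTw

/-!
# Base change of regular bundles on a relative projective space
-/

set_option autoImplicit false
set_option linter.style.haveILetI false
set_option backward.isDefEq.respectTransparency false
set_option maxHeartbeats 1600000

universe u

open CategoryTheory CategoryTheory.Limits AlgebraicGeometry TopologicalSpace Opposite Scheme.Modules

namespace Groth.Agent.CMReg18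

open Groth.Agent Groth.Agent.CBC10

section Fibre

variable {X S : Scheme.{u}} {f : X ⟶ S} [IsProper f] [IsLocallyNoetherian S] {F : X.Modules} {V : S.Opens}

/-- If the cohomology in degrees at least `p` of a flat family vanishes over an affine open, it vanishes on the fibres there. -/
theorem subsingleton_fiberH_of_vanishing_ge (hF : Coh.IsCoh F) (hfl : FlatMod.IsFlatOver f F) (hV : IsAffineOpen V) {p : ℕ}
    (h : letI := overU f hV
      ∀ q : ℕ, p ≤ q → Subsingleton (Coh.HH (f ⁻¹ᵁ V : X.Opens).toScheme (resU f F V) q))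
    {s : S} (hs : s ∈ V) (hp : 0 < p) : Subsingleton (CohIII.fiberH f F s p) := by
  letI := overU f hV
  haveI := isProper_overU f hV
  haveI : CompactSpace (f ⁻¹ᵁ V : X.Opens).toScheme :=
    QuasiCompact.compactSpace_of_compactSpace ((f ⁻¹ᵁ V : X.Opens).toScheme ↘ Spec (CommRingCat.of Γ(S, V)))
  haveI : ((f ⁻¹ᵁ V : X.Opens).toScheme).IsSeparated := ⟨by
    rw [← terminal.comp_from ((f ⁻¹ᵁ V : X.Opens).toScheme ↘ Spec (CommRingCat.of Γ(S, V)))]
    infer_instance⟩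
  obtain ⟨P, hfin, hflat, ⟨i₀, hi₀⟩, -, hP⟩ := exists_complexOn (f := f) hF hfl hV
  haveI := hflat
  haveI := hfin
  haveI : IsNoetherianRing Γ(S, V) := IsLocallyNoetherian.component_noetherian ⟨V, hV⟩
  haveI : ∀ i, Module.Projective Γ(S, V) (P.X i) := fun i => by
    haveI : Module.FinitePresentation Γ(S, V) (P.X i) := Module.finitePresentation_of_finite _ _
    exact Module.Flat.projective_of_finitePresentation
  have hH : ∀ q : ℕ, p ≤ q → Subsingleton (FlatCxLib.H P (-(q : ℤ))) := fun q hq => by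
    obtain ⟨e⟩ := Computes.exists_unit (A := Γ(S, V)) hP (M1.isQCoh_restrict hF.1 _) q
    haveI := h q hq
    exact e.toEquiv.subsingleton
  have hcok : ∀ m : ℕ, i₀ - 1 + (m : ℤ) ≤ -(p : ℤ) - 1 → Module.Flat Γ(S, V) (FlatCxLib.Cok P (i₀ - 1 + (m : ℤ))) := fun m => by
    induction m with
    | zero =>
      intro _
      haveI : Subsingleton (P.X (i₀ - 1 + ((0 : ℕ) : ℤ))) :=
        ModuleCat.subsingleton_of_isZero (hi₀ _ (by omega))
      haveI : Subsingleton (FlatCxLib.Cok P (i₀ - 1 + ((0 : ℕ) : ℤ))) := inferInstance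
      infer_instance
    | succ m ih =>
      intro hm
      obtain ⟨q, hq⟩ : ∃ q : ℕ, i₀ - 1 + ((m + 1 : ℕ) : ℤ) = -(q : ℤ) :=
        ⟨(-(i₀ - 1 + ((m + 1 : ℕ) : ℤ))).toNat, by omega⟩
      haveI := hH q (by omega)
      haveI : Module.Flat Γ(S, V) (FlatCxLib.H P (i₀ - 1 + ((m + 1 : ℕ) : ℤ))) := by
        rw [hq]; infer_instance
      exact flat_cok_of_flat_H_step P (by push_cast; ring) inferInstance (ih (by omega))
  have hq : Module.Flat Γ(S, V) (FlatCxLib.Cok P (-(p : ℤ) - 1)) := by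
    by_cases hlow : -(p : ℤ) - 1 < i₀
    · haveI : Subsingleton (P.X (-(p : ℤ) - 1)) := ModuleCat.subsingleton_of_isZero (hi₀ _ hlow)
      haveI : Subsingleton (FlatCxLib.Cok P (-(p : ℤ) - 1)) := inferInstance
      infer_instance
    · obtain ⟨m, hm⟩ : ∃ m : ℕ, i₀ - 1 + (m : ℤ) = -(p : ℤ) - 1 := ⟨(-(p : ℤ) - i₀).toNat, by omega⟩
      rw [← hm]
      exact hcok m (by omega)
  letI := algEval (U := V) hs
  haveI := hH p le_rfl
  exact (hP.subsingleton_fiberH_iff hs hF.1 p).2 (FlatCxLib.theta_surjective P _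
    ((FlatCxLib.preservesEpi_iff P (sub_add_cancel (-(p : ℤ)) 1)).2 hq) (S.residueField s)).subsingleton

end Fibre

variable {n : ℕ} {Y Y₁ : Scheme.{u}}

/-- The higher direct images of the twists down of a regular sheaf. -/
theorem isZero_rpush_twF_of_reg {F : (KRR.PY n Y).Modules} (hq : Coh.IsQCoh F) (hreg : KRR.IsRegSheaf n Y F)
    {i q : ℕ} (hiq : i ≤ q) (hq1 : 1 ≤ q) :
    IsZero ((Coh.RpushAb (KRR.pr n Y) q).obj (Coh.toAb (KRR.twF n Y (-(i : ℤ)) F))) := by
  refine ((regSheaf_twist hq hreg).1 (q - i) q hq1).of_iso ((Coh.RpushAb (KRR.pr n Y) q).mapIso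
    ((SheafOfModules.toSheaf _).mapIso ?_))
  exact M2.tensorComm (Twist.twistOver n Y (-(i : ℤ))) F ≪≫ (overData n Y).twIso F (by omega) ≪≫
    ((overData n Y).twTwist F ((q - i : ℕ) : ℤ) (-(q : ℤ))).symm ≪≫
    M2.tensorIso (M2.tensorComm F _) (Iso.refl _) ≪≫
    (M2.tensorComm (Twist.twistOver n Y (-(q : ℤ))) (KRR.twF n Y ((q - i : ℕ) : ℤ) F)).symm

variable [IsNoetherian Y]

theorem subsingleton_fiberH_twF_of_reg {F : (KRR.PY n Y).Modules} (hF : FlatMod.IsFinLocFree F)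
    (hreg : KRR.IsRegSheaf n Y F) (i : ℕ) {q : ℕ} (hiq : i ≤ q) (hq1 : 1 ≤ q) (y : Y) :
    Subsingleton (CohIII.fiberH (CohB1.ProjSpaceOver.toBase n Y) (KRR.twF n Y (-(i : ℤ)) F) y q) := by
  haveI : IsLocallyNoetherian (CohB1.ProjSpaceOver n Y) :=
    LocallyOfFiniteType.isLocallyNoetherian (CohB1.ProjSpaceOver.toBase n Y)
  have hG : FlatMod.IsFinLocFree (KRR.twF n Y (-(i : ℤ)) F) :=
    M2.isFinLocFree_tensor (M2.isFinLocFree_of_isInvertible ((overData n Y).inv _)) hF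
  have hc : Coh.IsCoh (KRR.twF n Y (-(i : ℤ)) F) := CohFound.isCoh_of_isFinLocFree hG
  obtain ⟨W, hW, hyW, -⟩ := exists_isAffineOpen_mem_and_subset (X := Y) (x := y) (U := ⊤) trivial
  exact subsingleton_fiberH_of_vanishing_ge (f := CohB1.ProjSpaceOver.toBase n Y) hc
    (DPerf.isFlatOver_of_isFlat _ (KFlat.Sch.isFlat_of_isFinLocFree hG)) hW
    (fun p hp => (isZero_rpushAb_iff_affine _ hc.1 p).1
      (isZero_rpush_twF_of_reg (M1.isFP_isQCoh (M1.isFP_of_isFinLocFree hF)) hreg (hiq.trans hp) (hq1.trans hp)) W hW)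
    (show y ∈ W from hyW) hq1

theorem isRegSheaf_pullback (φ : Y₁ ⟶ Y) {F : (KRR.PY n Y).Modules} (hF : FlatMod.IsFinLocFree F)
    (hreg : KRR.IsRegSheaf n Y F) :
    KRR.IsRegSheaf n Y₁ ((Scheme.Modules.pullback (KRR.projSpaceMap n φ)).obj F) := fun i hi => by
  let G := KRR.twF n Y (-(i : ℤ)) F
  have hG : FlatMod.IsFinLocFree G :=
    M2.isFinLocFree_tensor (M2.isFinLocFree_of_isInvertible ((overData n Y).inv _)) hF
  obtain ⟨eO⟩ := nonempty_pullback_twistOver n φ (-(i : ℤ))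
  let e : (Scheme.Modules.pullback (KRR.projSpaceMap n φ)).obj G ≅
      KRR.twF n Y₁ (-(i : ℤ)) ((Scheme.Modules.pullback (KRR.projSpaceMap n φ)).obj F) :=
    M2.pullTensorIso (KRR.projSpaceMap n φ) (Twist.twistOver n Y (-(i : ℤ))) F ≪≫ M2.tensorIso eO (Iso.refl _)
  refine IsZero.of_iso ?_ ((Coh.RpushAb (KRR.pr n Y₁) i).mapIso ((SheafOfModules.toSheaf _).mapIso e.symm))
  have hP := M2.isFinLocFree_pullback (KRR.projSpaceMap n φ) hG
  exact isZero_rpushAb_of_fibres (f := CohB1.ProjSpaceOver.toBase n Y₁) (M1.isFP_of_isFinLocFree hP)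
    (DPerf.isFlatOver_of_isFlat _ (KFlat.Sch.isFlat_of_isFinLocFree hP)) i fun t =>
      subsingleton_fiberH_baseChange (isPullback_projMap n φ) (M1.isFP_of_isFinLocFree hG) t i
        (subsingleton_fiberH_twF_of_reg hF hreg i le_rfl hi (φ t))

theorem isIso_bcMap_of_reg (φ : Y₁ ⟶ Y)
    (hsq : KRR.projSpaceMap n φ ≫ KRR.pr n Y = KRR.pr n Y₁ ≫ φ) {F : (KRR.PY n Y).Modules}
    (hF : FlatMod.IsFinLocFree F) (hreg : KRR.IsRegSheaf n Y F) : IsIso (KRR.bcMap n φ hsq F) := by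
  haveI := CohFound.hasInjectiveResolutions_modules (CohB1.ProjSpaceOver n Y)
  haveI : Coh.IsQCoh F := M1.isFP_isQCoh (M1.isFP_of_isFinLocFree hF)
  rw [bcMap_eq_bc0]
  refine CBC10.isIso_bc0 (isPullback_projMap n φ) F fun z => ?_
  have e : KRR.twF n Y (-((0 : ℕ) : ℤ)) F ≅ F :=
    M2.tensorComm (Twist.twistOver n Y (-((0 : ℕ) : ℤ))) F ≪≫ (overData n Y).twIso F (by simp) ≪≫
      (overData n Y).twZero F
  obtain ⟨V, M, hV, hM, -⟩ := CBC10.exists_nhd_H1 (f := CohB1.ProjSpaceOver.toBase n Y) (M1.isFP_of_isFinLocFree hF)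
    (DPerf.isFlatOver_of_isFlat _ (KFlat.Sch.isFlat_of_isFinLocFree hF)) (φ z) (by
      letI : ((CohB1.ProjSpaceOver.toBase n Y).fiber (φ z)).Over (Spec (CommRingCat.of (Y.residueField (φ z)))) :=
        ⟨(CohB1.ProjSpaceOver.toBase n Y).fiberToSpecResidueField (φ z)⟩
      exact van_iso (Y.residueField (φ z))
        ((Scheme.Modules.pullback ((CohB1.ProjSpaceOver.toBase n Y).fiberι (φ z))).mapIso e)
        (subsingleton_fiberH_twF_of_reg hF hreg 0 (q := 1) (by omega) le_rfl (φ z)))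
  exact ⟨V, M, hV, hM⟩

end Groth.Agent.CMReg18
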