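import Groth.Agent.Lib.CMReg18.RegBC
import Groth.Prelude.Def_SGA6

/-!
# The K-group of regular bundles is the K-group of bundles
-/

set_option autoImplicit false
set_option linter.style.haveILetI false
set_option backward.isDefEq.respectTransparency false
set_option maxHeartbeats 400000

universe u

open CategoryTheory CategoryTheory.Limits AlgebraicGeometry TopologicalSpace Opposite Scheme.Modules

namespace Groth.Agent.CMReg18

open Groth.Agent

variable {n : ℕ} {Y : Scheme.{u}}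

variable (n Y) in
/-- Regular finite locally free modules. -/
abbrev RegP : ObjectProperty (KRR.PY n Y).Modules :=
  fun M : (KRR.PY n Y).Modules => FlatMod.IsFinLocFree M ∧ KRR.IsRegSheaf n Y M

variable (n Y) in
/-- The class of a regular bundle. -/
noncomputable abbrev clR (M : (KRR.PY n Y).Modules) : KZero.K0sub (RegP n Y) := KZero.clSub (RegP n Y) M

theorem isRegSheaf_iff_tw {M : (KRR.PY n Y).Modules} :
    KRR.IsRegSheaf n Y M ↔
      ∀ i : ℕ, 1 ≤ i → IsZero ((Coh.RpushAb (KRR.pr n Y) i).obj (Coh.toAb ((overData n Y).tw M (-(i : ℤ))))) :=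
  ⟨fun h i hi => (h i hi).of_iso ((Coh.RpushAb (KRR.pr n Y) i).mapIso ((SheafOfModules.toSheaf _).mapIso
      (M2.tensorComm (Twist.twistOver n Y (-(i : ℤ))) M : KRR.twF n Y (-(i : ℤ)) M ≅ (overData n Y).tw M (-(i : ℤ))).symm)),
    fun h i hi => (h i hi).of_iso ((Coh.RpushAb (KRR.pr n Y) i).mapIso ((SheafOfModules.toSheaf _).mapIso
      (M2.tensorComm (Twist.twistOver n Y (-(i : ℤ))) M : KRR.twF n Y (-(i : ℤ)) M ≅ (overData n Y).tw M (-(i : ℤ)))))⟩

theorem regP_of_iso {M M' : (KRR.PY n Y).Modules} (e : M ≅ M') (h : RegP n Y M) : RegP n Y M' :=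
  ⟨M2.isFinLocFree_of_iso e h.1, isRegSheaf_iff_tw.2 fun i hi =>
    (isRegSheaf_iff_tw.1 h.2 i hi).of_iso ((Coh.RpushAb (KRR.pr n Y) i).mapIso ((SheafOfModules.toSheaf _).mapIso
      (M2.tensorIso e.symm (Iso.refl _))))⟩

theorem regP_of_isZero {M : (KRR.PY n Y).Modules} (h : IsZero M) : RegP n Y M :=
  ⟨KFlat.Sch.isFinLocFree_of_isZero h, isRegSheaf_iff_tw.2 fun i _ =>
    isZero_rpushAb_of_isZero ((M2.tensorR ((overData n Y).O (-(i : ℤ)))).map_isZero h) i⟩

theorem qcoh_tw_reg {M : (KRR.PY n Y).Modules} (hM : FlatMod.IsFinLocFree M) (e : ℤ) :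
    Coh.IsQCoh ((overData n Y).tw M e) :=
  M1.isFP_isQCoh (M1.isFP_of_isFinLocFree (isFinLocFree_tw hM e))

theorem regSheaf_mid {S : ShortComplex (KRR.PY n Y).Modules} (hS : S.ShortExact) (h₂ : FlatMod.IsFinLocFree S.X₂)
    (h1 : RegP n Y S.X₁) (h3 : RegP n Y S.X₃) : KRR.IsRegSheaf n Y S.X₂ :=
  isRegSheaf_iff_tw.2 fun i hi => by
    refine (isZero_rpushAb_iff_affine _ (qcoh_tw_reg h₂ _) i).2 fun W hW => ?_
    letI := CBC10.overU (KRR.pr n Y) hW
    exact van₂ Γ(Y, W) (((overData n Y).shortExact_tw hS _).map_of_exact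
        (Scheme.Modules.restrictFunctor (KRR.pr n Y ⁻¹ᵁ W).ι))
      ((isZero_rpushAb_iff_affine _ (qcoh_tw_reg h1.1 _) i).1 (isRegSheaf_iff_tw.1 h1.2 i hi) W hW)
      ((isZero_rpushAb_iff_affine _ (qcoh_tw_reg h3.1 _) i).1 (isRegSheaf_iff_tw.1 h3.2 i hi) W hW)

variable [IsNoetherian Y]

theorem regSheaf_third {S : ShortComplex (KRR.PY n Y).Modules} (hS : S.ShortExact) (h₃ : FlatMod.IsFinLocFree S.X₃)
    (h1 : RegP n Y S.X₁) (h2 : RegP n Y S.X₂) : KRR.IsRegSheaf n Y S.X₃ :=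
  isRegSheaf_iff_tw.2 fun i hi =>
    van_third ((overData n Y).shortExact_tw hS (-(i : ℤ))) (qcoh_tw_reg h1.1 _) (qcoh_tw_reg h2.1 _)
      (qcoh_tw_reg h₃ _) (isRegSheaf_iff_tw.1 h2.2 i hi)
      ((isZero_rpush_twF_of_reg (M1.isFP_isQCoh (M1.isFP_of_isFinLocFree h1.1)) h1.2 (Nat.le_succ i) (by omega)).of_iso
        ((Coh.RpushAb (KRR.pr n Y) (i + 1)).mapIso ((SheafOfModules.toSheaf _).mapIso
          (M2.tensorComm (Twist.twistOver n Y (-(i : ℤ))) S.X₁ :
            KRR.twF n Y (-(i : ℤ)) S.X₁ ≅ (overData n Y).tw S.X₁ (-(i : ℤ))).symm)))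

theorem regP_biprod {A B : (KRR.PY n Y).Modules} (hA : RegP n Y A) (hB : RegP n Y B) : RegP n Y (A ⊞ B) := by
  have hf : FlatMod.IsFinLocFree (A ⊞ B) := KFlat.Sch.isFinLocFree_biprod hA.1 hB.1
  let S : ShortComplex (KRR.PY n Y).Modules := ShortComplex.mk (biprod.inl : A ⟶ A ⊞ B) biprod.snd biprod.inl_snd
  have hS : S.ShortExact := (ShortComplex.Splitting.ofHasBinaryBiproduct A B).shortExact
  exact ⟨hf, regSheaf_mid (S := S) hS hf hA hB⟩

theorem bAdd_clR : BAdd (RegP n Y) (clR n Y) :=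
  BAdd.of_ses (P := RegP n Y) (fun e h => regP_of_iso e h) (fun h => regP_of_isZero h)
    (fun hA hB => regP_biprod hA hB)
    fun S hS h1 h2 h3 => K0Cat.clSub_ses (P := RegP n Y) S hS h1 h2 h3

theorem clR_iso {M M' : (KRR.PY n Y).Modules} (e : M ≅ M') : clR n Y M = clR n Y M' := by
  classical
  by_cases h : RegP n Y M
  · exact bAdd_clR.map_iso e h
  · simp only [clR, KZero.clSub]
    rw [dif_neg h, dif_neg fun h' => h (regP_of_iso e.symm h')]

theorem regP_bd (C : ChainComplex (KRR.PY n Y).Modules ℕ) (hC : ∀ x, ExactVia (M1.stalkAb x) C) {t : ℕ}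
    (hb : ∀ s, t < s → IsZero (C.X s)) (hX : ∀ s, RegP n Y (C.X s)) (j : ℕ) : RegP n Y (Bd C j) := by
  obtain ⟨-, hex⟩ := exact_of_exactVia C hC
  have hf := isFinLocFree_bd C hC fun s => (hX s).1
  suffices H : ∀ r j, t + 1 - j ≤ r → RegP n Y (Bd C j) from H _ j le_rfl
  intro r
  induction r with
  | zero =>
    intro j hj
    exact regP_of_isZero (IsZero.of_epi (Abelian.factorThruImage (C.d (j + 1) j)) (hb _ (by omega)))
  | succ r ih =>
    intro j hj
    haveI : Epi (bdInCycles C j) := by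
      haveI := (ShortComplex.exact_iff_epi_kernel_lift _).1 (hex j)
      refine epi_of_epi_fac (f := Abelian.factorThruImage (C.d (j + 2) (j + 1)))
        (h := kernel.lift (C.d (j + 1) j) (C.d (j + 2) (j + 1)) (C.d_comp_d _ _ _)) ?_
      simp [← cancel_mono (kernel.ι (C.d (j + 1) j))]
    haveI : IsIso (bdInCycles C j) := isIso_of_mono_of_epi _
    have h1 := regP_of_iso (asIso (bdInCycles C j)) (ih (j + 1) (by omega))
    have h2 := regSheaf_third (shortExact_cycles C j) (hf j) h1 (hX (j + 1))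
    exact ⟨hf j, h2⟩

theorem bd_clR_eq_zero (M : (KRR.PY n Y).Modules) (e : ℤ)
    (hP : ∀ x, e - (n + 1) ≤ x → x ≤ e → RegP n Y ((overData n Y).tw M x)) :
    bd (n + 1) (fun x => clR n Y ((overData n Y).tw M x)) e = 0 :=
  bd_eq_zero bAdd_clR (fun S hS h1 h2 h3 => K0Cat.clSub_ses S hS h1 h2 h3) (fun e => clR_iso e)
    (fun C hC _ hz hX j => regP_bd C hC hz hX j) M e hP

variable (n Y) in
/-- The extrapolated regular class on generators. -/
noncomputable def approxR (d : ℕ) : FreeAbelianGroup (Subtype (KRR.vbP (KRR.PY n Y))) →+ KZero.K0sub (RegP n Y) :=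
  evalZero n (fun x => FreeAbelianGroup.lift fun M : Subtype (KRR.vbP (KRR.PY n Y)) =>
    clR n Y ((overData n Y).tw M.1 x)) d

theorem approxR_apply (d : ℕ) (z : FreeAbelianGroup (Subtype (KRR.vbP (KRR.PY n Y)))) :
    approxR n Y d z = evalZero n (fun x => (FreeAbelianGroup.lift fun M : Subtype (KRR.vbP (KRR.PY n Y)) =>
      clR n Y ((overData n Y).tw M.1 x)) z) d :=
  map_evalZero (AddMonoidHom.eval z) n (fun x => FreeAbelianGroup.lift fun M : Subtype (KRR.vbP (KRR.PY n Y)) =>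
    clR n Y ((overData n Y).tw M.1 x)) d

theorem exists_constR (z : FreeAbelianGroup (Subtype (KRR.vbP (KRR.PY n Y)))) :
    ∃ (c : KZero.K0sub (RegP n Y)) (N : ℕ), ∀ d, N ≤ d → approxR n Y d z = c := by
  induction z using FreeAbelianGroup.induction_on with
  | zero => exact ⟨0, 0, fun d _ => map_zero _⟩
  | of M =>
    obtain ⟨N, hN⟩ := exists_acyc (show FlatMod.IsFinLocFree M.1 from M.2)
    refine ⟨approxR n Y (N + n) (FreeAbelianGroup.of M), N + n, fun d hd => ?_⟩
    induction d, hd using Nat.le_induction with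
    | base => rfl
    | succ d hd ih =>
      rw [← ih, approxR_apply, approxR_apply]
      simp only [FreeAbelianGroup.lift_apply_of]
      rw [evalZero_succ, bd_clR_eq_zero _ _ fun x h1 _ =>
        ⟨isFinLocFree_tw M.2 x, (hN x (by omega)).2⟩, smul_zero, add_zero]
  | neg M h =>
    obtain ⟨c, N, hN⟩ := h
    exact ⟨-c, N, fun d hd => by rw [map_neg, hN d hd]⟩
  | add a b ha hb =>
    obtain ⟨ca, Na, ha⟩ := ha
    obtain ⟨cb, Nb, hb⟩ := hb
    exact ⟨ca + cb, Na + Nb, fun d hd => by rw [map_add, ha d (by omega), hb d (by omega)]⟩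

theorem exists_rel_vanish {x : FreeAbelianGroup (Subtype (KRR.vbP (KRR.PY n Y)))}
    (hx : x ∈ KZero.relSub (KRR.vbP (KRR.PY n Y))) :
    ∃ n₀ : ℕ, ∀ e : ℤ, (n₀ : ℤ) ≤ e → (FreeAbelianGroup.lift fun M : Subtype (KRR.vbP (KRR.PY n Y)) =>
      clR n Y ((overData n Y).tw M.1 e)) x = 0 := by
  induction hx using AddSubgroup.closure_induction with
  | zero => exact ⟨0, fun e _ => map_zero _⟩
  | add a b _ _ ha hb =>
    obtain ⟨A, hA⟩ := ha
    obtain ⟨B, hB⟩ := hb
    exact ⟨A + B, fun e he => by rw [map_add, hA e (by omega), hB e (by omega), add_zero]⟩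
  | neg a _ ha =>
    obtain ⟨A, hA⟩ := ha
    exact ⟨A, fun e he => by rw [map_neg, hA e he, neg_zero]⟩
  | mem x hmem =>
    obtain ⟨T, h₁, h₂, h₃, hT, rfl⟩ := hmem
    obtain ⟨a₁, ha₁⟩ := exists_acyc (show FlatMod.IsFinLocFree T.X₁ from h₁)
    obtain ⟨a₂, ha₂⟩ := exists_acyc (show FlatMod.IsFinLocFree T.X₂ from h₂)
    obtain ⟨a₃, ha₃⟩ := exists_acyc (show FlatMod.IsFinLocFree T.X₃ from h₃)
    refine ⟨a₁ + a₂ + a₃, fun e he => ?_⟩
    rw [map_sub, map_sub]
    simp only [FreeAbelianGroup.lift_apply_of]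
    have := K0Cat.clSub_ses (P := RegP n Y) _ ((overData n Y).shortExact_tw hT e)
      ⟨isFinLocFree_tw h₁ e, (ha₁ e (by omega)).2⟩ ⟨isFinLocFree_tw h₂ e, (ha₂ e (by omega)).2⟩
      ⟨isFinLocFree_tw h₃ e, (ha₃ e (by omega)).2⟩
    show clR n Y ((overData n Y).tw T.X₂ e) - clR n Y ((overData n Y).tw T.X₁ e)
      - clR n Y ((overData n Y).tw T.X₃ e) = 0
    rw [sub_sub, sub_eq_zero]
    exact this

variable (n Y) in
/-- The limit of the extrapolations. -/
noncomputable def freeReg : FreeAbelianGroup (Subtype (KRR.vbP (KRR.PY n Y))) →+ KZero.K0sub (RegP n Y) where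
  toFun z := (exists_constR z).choose
  map_zero' := by
    obtain ⟨N, hN⟩ := (exists_constR (n := n) (Y := Y) 0).choose_spec
    exact (hN N le_rfl).symm.trans (map_zero _)
  map_add' a b := by
    obtain ⟨N, hN⟩ := (exists_constR (a + b)).choose_spec
    obtain ⟨Na, ha⟩ := (exists_constR a).choose_spec
    obtain ⟨Nb, hb⟩ := (exists_constR b).choose_spec
    rw [← hN (N + Na + Nb) (by omega), map_add, ha _ (by omega), hb _ (by omega)]

theorem exists_freeReg (z : FreeAbelianGroup (Subtype (KRR.vbP (KRR.PY n Y)))) :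
    ∃ N : ℕ, ∀ d, N ≤ d → approxR n Y d z = freeReg n Y z :=
  (exists_constR z).choose_spec

theorem freeReg_rel : KZero.relSub (KRR.vbP (KRR.PY n Y)) ≤ (freeReg n Y).ker := fun z hz => by
  obtain ⟨N, hN⟩ := exists_freeReg z
  obtain ⟨N', hN'⟩ := exists_rel_vanish hz
  rw [AddMonoidHom.mem_ker, ← hN (N + N' + n) (by omega), approxR_apply]
  exact (evalZero_congr (h' := fun _ => 0) n _ fun x h1 _ => hN' x (by omega)).trans
    (map_evalZero (0 : SGA6.Kvb Y →+ KZero.K0sub (RegP n Y)) n (fun _ => 0) _).symm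

variable (n Y) in
/-- The inverse of the comparison map. -/
noncomputable def toReg : SGA6.Kvb (KRR.PY n Y) →+ KZero.K0sub (RegP n Y) :=
  QuotientAddGroup.lift _ (freeReg n Y) freeReg_rel

theorem exists_toReg_eq {M : (KRR.PY n Y).Modules} (hM : FlatMod.IsFinLocFree M) :
    ∃ N : ℕ, ∀ d, N ≤ d →
      toReg n Y (KRR.cl _ M) = evalZero n (fun x => clR n Y ((overData n Y).tw M x)) d := by
  obtain ⟨N, hN⟩ := exists_freeReg (FreeAbelianGroup.of (⟨M, hM⟩ : Subtype (KRR.vbP (KRR.PY n Y))))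
  refine ⟨N, fun d hd => ?_⟩
  have h := hN d hd
  rw [approxR_apply] at h
  simp only [FreeAbelianGroup.lift_apply_of] at h
  rw [h]
  simp only [KRR.cl, KZero.clSub]
  rw [dif_pos (show KRR.vbP _ M from hM)]
  rfl

theorem bijective_mapSub
    (h : ∀ M : (KRR.PY n Y).Modules, FlatMod.IsFinLocFree M ∧ KRR.IsRegSheaf n Y M → FlatMod.IsFinLocFree M) :
    Function.Bijective (SGA6.mapSub (𝟭 (KRR.PY n Y).Modules) (RegP n Y) (KRR.vbP (KRR.PY n Y)) h) := by
  let g := SGA6.mapSub (𝟭 (KRR.PY n Y).Modules) (RegP n Y) (KRR.vbP (KRR.PY n Y)) h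
  have hg : ∀ M, RegP n Y M → g (clR n Y M) = KRR.cl _ M := fun M hM => by
    simp only [g, clR, KRR.cl, KZero.clSub]
    rw [dif_pos hM, dif_pos (show KRR.vbP _ M from hM.1)]
    rfl
  refine ⟨Function.LeftInverse.injective (g := toReg n Y) fun x => ?_, fun x => ⟨toReg n Y x, ?_⟩⟩
  · induction x using K0Cat.clSub_induction with
    | h0 => rw [map_zero, map_zero]
    | hneg a ha => rw [map_neg, map_neg, ha]
    | hadd a b ha hb => rw [map_add, map_add, ha, hb]
    | hcl M hM =>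
      show toReg n Y (g (clR n Y M)) = clR n Y M
      have hM' : RegP n Y M := hM
      obtain ⟨N, hN⟩ := exists_toReg_eq hM'.1
      rw [hg M hM', hN N le_rfl, evalZero_eq _ n N fun e he _ => bd_clR_eq_zero M e fun x h1 _ => ?_]
      · exact clR_iso ((overData n Y).twZero M)
      · obtain ⟨m, rfl⟩ : ∃ m : ℕ, x = m := ⟨x.toNat, by omega⟩
        exact regP_of_iso (M2.tensorComm (Twist.twistOver n Y (m : ℤ)) M)
          ⟨M2.isFinLocFree_tensor (M2.isFinLocFree_of_isInvertible ((overData n Y).inv _)) hM'.1,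
            (regSheaf_twist (M1.isFP_isQCoh (M1.isFP_of_isFinLocFree hM'.1)) hM'.2).1 m⟩
  · show g (toReg n Y x) = x
    induction x using K0Cat.clSub_induction with
    | h0 => rw [map_zero, map_zero]
    | hneg a ha => rw [map_neg, map_neg, ha]
    | hadd a b ha hb => rw [map_add, map_add, ha, hb]
    | hcl M hM =>
      have hM' : FlatMod.IsFinLocFree M := hM
      obtain ⟨N, hN⟩ := exists_toReg_eq hM'
      obtain ⟨N', hN'⟩ := exists_acyc hM'
      show g (toReg n Y (KRR.cl _ M)) = KRR.cl _ M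
      rw [hN (N + N' + n) (by omega), map_evalZero,
        evalZero_congr (h' := fun x => KRR.cl _ ((overData n Y).tw M x)) n _ fun x h1 _ =>
          hg _ ⟨isFinLocFree_tw hM' x, (hN' x (by omega)).2⟩,
        evalZero_eq _ n _ fun e _ _ => bd_clP_eq_zero M hM' e]
      exact clVb_iso ((overData n Y).twZero M)

end Groth.Agent.CMReg18
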