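import Groth.Agent.Lib.CMReg18.Linear
import Groth.Agent.Lib.CMReg18.Proj
import Groth.Agent.Lib.CohFound.ProjQuot
import Groth.Agent.S0843

/-!
# Resolutions by sums of twists on projective space
-/

set_option autoImplicit false
set_option linter.style.haveILetI false
set_option backward.isDefEq.respectTransparency false

universe u

open CategoryTheory CategoryTheory.Limits AlgebraicGeometry TopologicalSpace Opposite

namespace Groth.Agent.CMReg18

open Groth.Agent

section sums

variable (k : Type u) [CommRing k] {X : Scheme.{u}} [X.Over (Spec (CommRingCat.of k))]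

theorem biproduct_tot {b : ℕ} (f : Fin b → X.Modules) (n : ℕ) (x : Coh.HH X (⨁ f) n) :
    ∑ j, CurveCoh17.hmap k (biproduct.ι f j) n (CurveCoh17.hmap k (biproduct.π f j) n x) = x := by
  classical
  have h : ∀ j, CurveCoh17.hmap k (biproduct.ι f j) n (CurveCoh17.hmap k (biproduct.π f j) n x) =
      CurveCoh17.hmap k (biproduct.π f j ≫ biproduct.ι f j) n x := fun j => (CurveCoh17.hmap_comp k _ _ n x).symm
  rw [Finset.sum_congr rfl fun j _ => h j, ← hmap_sum, biproduct.total, CurveCoh17.hmap_id]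
theorem biproduct_pi_iota {b : ℕ} (f : Fin b → X.Modules) (n : ℕ) (v : (j : Fin b) → Coh.HH X (f j) n) (i : Fin b) :
    CurveCoh17.hmap k (biproduct.π f i) n (∑ j, CurveCoh17.hmap k (biproduct.ι f j) n (v j)) = v i := by
  classical
  refine (map_sum (CurveCoh17.hmap k (biproduct.π f i) n) _ _).trans ((Finset.sum_eq_single i ?_ ?_).trans ?_)
  · exact fun j _ hj => (CurveCoh17.hmap_comp k _ _ n (v j)).symm.trans
      ((congrArg (fun φ => CurveCoh17.hmap k φ n (v j)) (biproduct.ι_π_ne f hj)).trans (CurveCoh17.hmap_zero k n (v j)))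
  · exact fun h => absurd (Finset.mem_univ i) h
  · exact (CurveCoh17.hmap_comp k _ _ n (v i)).symm.trans
      ((congrArg (fun φ => CurveCoh17.hmap k φ n (v i)) (biproduct.ι_π_self f i)).trans (CurveCoh17.hmap_id k _ n (v i)))
theorem bijective_pi {b : ℕ} (f : Fin b → X.Modules) (n : ℕ) :
    Function.Bijective fun (x : Coh.HH X (⨁ f) n) (j : Fin b) => CurveCoh17.hmap k (biproduct.π f j) n x :=
  ⟨fun x y h => ((biproduct_tot k f n x).symm.trans (Finset.sum_congr rfl fun j _ => congrArg _ (congrFun h j))).trans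
    (biproduct_tot k f n y), fun v => ⟨_, funext (biproduct_pi_iota k f n v)⟩⟩

theorem biproduct_finrank {b : ℕ} (f : Fin b → X.Modules) (n : ℕ) :
    Module.finrank k (Coh.HH X (⨁ f) n) = Module.finrank k ((j : Fin b) → Coh.HH X (f j) n) :=
  (LinearEquiv.ofBijective (LinearMap.pi fun j => CurveCoh17.hmap k (biproduct.π f j) n)
    (bijective_pi k f n)).finrank_eq

end sums

variable (k : Type u) [Field k] (n : ℕ)

theorem finrank_h0_structure :
    Module.finrank k (Coh.HH (CohB1.ProjSpace n k) (Coh.structureModule (CohB1.ProjSpace n k)) 0) = 1 := by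
  obtain ⟨e⟩ := S0843.result k n 0
  rw [← (CurveCoh17.hequiv k (projData k n).zero 0).finrank_eq, show (projData k n).O 0 =
    _root_.Twist.twistProjSpace n k ((0 : ℕ) : ℤ) from rfl, e.finrank_eq, MvPolynomial.homogeneousSubmodule_zero,
    Submodule.one_eq_span]
  exact finrank_span_singleton one_ne_zero

variable {k n}

theorem projData_finrank_h0_sum (b : ℕ) (a : ℤ) :
    Module.finrank k (Coh.HH (CohB1.ProjSpace n k)
      ((projData k n).tw (∐ fun _ : Fin b => (projData k n).O (-a)) a) 0) = b := by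
  let D := projData k n
  let e : CohB1.tensorMod (D.O (-a)) (D.O a) ≅ Coh.structureModule (CohB1.ProjSpace n k) :=
    D.add (-a) a ≪≫ eqToIso (by rw [neg_add_cancel]) ≪≫ D.zero
  let i : D.tw (∐ fun _ : Fin b => D.O (-a)) a ≅ ⨁ fun _ : Fin b => Coh.structureModule (CohB1.ProjSpace n k) :=
    (M2.tensorR (D.O a)).mapIso (M2.freeModTensorIso _ b (D.O (-a))).symm ≪≫ M2.untwist e _ ≪≫
      (biproduct.isoCoproduct _).symm
  rw [(CurveCoh17.hequiv k i 0).finrank_eq, biproduct_finrank k]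
  haveI : Module.Finite k (Coh.HH (CohB1.ProjSpace n k) (Coh.structureModule (CohB1.ProjSpace n k)) 0) :=
    Module.finite_of_finrank_eq_succ (finrank_h0_structure k n)
  rw [Module.finrank_pi_fintype]
  simp [finrank_h0_structure k n]

/-- The state of the resolution at the `j`-th step. -/
structure Stage (m : ℤ) (j : ℕ) (K : (CohB1.ProjSpace n k).Modules) : Prop where
  coh : Coh.IsCoh K
  reg : (projData k n).IsReg K (m + j)
  h0 : 1 ≤ j → Subsingleton (Coh.HH (CohB1.ProjSpace n k) ((projData k n).tw K (m + j - 1)) 0)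
  van : ∀ i : ℕ, 1 ≤ i → i ≠ j →
    Subsingleton (Coh.HH (CohB1.ProjSpace n k) ((projData k n).tw K (m + j - 1 - i)) i)

theorem Stage.exists_next {m : ℤ} {j : ℕ} {K : (CohB1.ProjSpace n k).Modules} (h : Stage m j K) :
    ∃ (b : ℕ) (φ : (∐ fun _ : Fin b => (projData k n).O (-(m + j))) ⟶ K),
      b = Module.finrank k (Coh.HH (CohB1.ProjSpace n k) ((projData k n).tw K (m + j)) 0) ∧ Epi φ ∧
        Stage m (j + 1) (kernel φ) := by
  haveI := isProper_projSpace k (n := n)
  haveI : IsNoetherian (CohB1.ProjSpace n k) :=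
    CohFound.isNoetherian_of_isProper (CohB1.ProjSpace n k ↘ Spec (CommRingCat.of k))
  let D := projData k n
  let P := CohB1.ProjSpace n k
  obtain ⟨b, φ, hb, hφ, hsurj⟩ :=
    D.exists_presentation_finrank (k := k) h.coh (m + j) (isGloballyGenerated_of_isReg h.coh h.reg)
  haveI := hφ
  let C := ∐ fun _ : Fin b => D.O (-(m + j))
  have hC : Coh.IsCoh C := CohFound.isCoh_of_iso (M2.freeModTensorIso _ b _) (CurveCoh17.isCoh_tensor
    (CurveCoh17.isCoh_of_ofRank (M2.isFinLocFreeOfRank_freeMod _ b)) (Snapper.isCoh_of_isInvertible (D.inv _)))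
  have hS : (ShortComplex.mk (kernel.ι φ) φ (kernel.condition φ)).ShortExact :=
    { exact := ShortComplex.exact_kernel φ }
  have hreg : D.IsReg C (m + j) := projData_isReg_twist k n b (m + j)
  have hinj : Function.Injective (CurveCoh17.hmap k ((M2.tensorR (D.O (m + j))).map φ) 0) := by
    haveI : FiniteDimensional k (Coh.HH P ((M2.tensorR (D.O (m + j))).obj C) 0) := D.finite_HH k hC (m + j) 0
    haveI : FiniteDimensional k (Coh.HH P ((M2.tensorR (D.O (m + j))).obj K) 0) := D.finite_HH k h.coh (m + j) 0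
    exact (LinearMap.injective_iff_surjective_of_finrank_eq_finrank
      ((projData_finrank_h0_sum b (m + j)).trans hb)).2 hsurj
  refine ⟨b, φ, hb, hφ, ⟨CurveCoh17.isCoh_kernel hC h.coh.1 φ, fun i hi => ?_, fun _ => ?_, fun i hi hij => ?_⟩⟩
  · obtain ⟨p, rfl⟩ : ∃ p, i = p + 1 := ⟨i - 1, by omega⟩
    refine van_iso k (D.twIso _ (by push_cast; ring) : D.tw _ (m + j - p) ≅ _) ?_
    rcases Nat.eq_zero_or_pos p with rfl | hp
    · rw [Nat.cast_zero, sub_zero]
      refine subsingleton_of_forall_eq 0 fun w => ?_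
      obtain ⟨z, rfl⟩ := (CurveCoh17.exact_hdelta_hmap k (D.shortExact_tw hS (m + j)) 0 w).1
        ((hreg.van k le_rfl (by omega) : Subsingleton (Coh.HH _ (D.tw _ (m + j)) 1)).elim _ _)
      exact (CurveCoh17.exact_hmap_hdelta k (D.shortExact_tw hS (m + j)) 0 z).2 (hsurj z)
    · exact van₁ k (D.shortExact_tw hS _) (h.reg p hp) (hreg.van k (by omega) (by push_cast; omega))
  · refine van_iso k (D.twIso _ (by push_cast; ring) : D.tw _ (m + j) ≅ _) ?_
    refine subsingleton_of_forall_eq 0 fun w => ?_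
    refine CurveCoh17.hmap_f_injective k (D.shortExact_tw hS (m + j)) (hinj ?_)
    rw [map_zero, map_zero]
    exact (CurveCoh17.exact_hmap_hmap k (D.shortExact_tw hS (m + j)) 0 _).2 ⟨w, rfl⟩
  · obtain ⟨p, rfl⟩ : ∃ p, i = p + 1 := ⟨i - 1, by omega⟩
    refine van_iso k (D.twIso _ (by push_cast; ring) : D.tw _ (m + j - 1 - p) ≅ _) ?_
    refine van₁ k (D.shortExact_tw hS _) ?_ (hreg.van k (by omega) (by push_cast; omega))
    rcases Nat.eq_zero_or_pos p with rfl | hp
    · exact van_iso k (D.twIso _ (by push_cast; ring)) (h.h0 (by omega))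
    · exact h.van p hp (by omega)

theorem Stage.isZero {m : ℤ} {j : ℕ} {K : (CohB1.ProjSpace n k).Modules} (h : Stage m j K) (hj : n < j) :
    IsZero K := by
  let D := projData k n
  have hreg : D.IsReg K (m + j - 1) := fun i hi => by
    by_cases hij : i = j
    · subst hij
      exact subsingleton_HH_of_lt k (M2.isQCoh_tensor h.coh.1 (Twist.isQCoh_twistProjSpace n k _)) hj
    · exact h.van i hi hij
  haveI : Subsingleton (Coh.HH (CohB1.ProjSpace n k)
    (CohB1.tensorMod K (_root_.Twist.twistProjSpace n k (m + j - 1))) 0) := h.h0 (by omega)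
  have hz : IsZero (D.tw K (m + j - 1)) := (IsZero.iff_id_eq_zero _).2
    (eq_zero_of_kills (isGloballyGenerated_of_isReg h.coh hreg) fun t => by
      have h0 := congrArg (CurveCoh17.hh0 _) (Subsingleton.elim ((CurveCoh17.hh0 _).symm t) 0)
      rw [AddEquiv.apply_symm_apply, map_zero] at h0
      rw [h0, map_zero])
  let e : CohB1.tensorMod (D.O (m + j - 1)) (D.O (-(m + j - 1))) ≅ Coh.structureModule (CohB1.ProjSpace n k) :=
    D.add _ _ ≪≫ eqToIso (by rw [add_neg_cancel]) ≪≫ D.zero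
  exact (Functor.map_isZero (M2.tensorR (D.O (-(m + j - 1)))) hz).of_iso (M2.untwist e K).symm

/-- Every coherent module is regular for large `m`. -/
theorem exists_isReg {F : (CohB1.ProjSpace n k).Modules} (hF : Coh.IsCoh F) :
    ∃ m, (projData k n).IsReg F m := by
  haveI := isProper_projSpace k (n := n)
  obtain ⟨a₀, ha⟩ := (projData k n).exists_van_large k (isAmple_twistOne k) hF
  refine ⟨a₀ + n, fun i hi => ?_⟩
  by_cases hin : i ≤ n
  · exact ha i _ hi (by omega)
  · exact subsingleton_HH_of_lt k (M2.isQCoh_tensor hF.1 (Twist.isQCoh_twistProjSpace n k _)) (by omega)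

theorem exists_resolution {F : (CohB1.ProjSpace n k).Modules} (hF : Coh.IsCoh F) :
    ∃ (C : ChainComplex (CohB1.ProjSpace n k).Modules ℕ) (π : C.X 0 ⟶ F) (w : C.d 1 0 ≫ π = 0),
      (∀ i : ℕ, n < i → IsZero (C.X i)) ∧
      (∀ i : ℕ, ∃ (m : ℕ) (d : Fin m → ℤ),
        Nonempty (C.X i ≅ ∐ fun j : Fin m => _root_.Twist.twistProjSpace n k (d j))) ∧
      (∀ i : ℕ, 1 ≤ i → IsZero (C.homology i)) ∧ Epi π ∧ (ShortComplex.mk (C.d 1 0) π w).Exact := by
  haveI := isProper_projSpace k (n := n)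
  haveI : IsNoetherian (CohB1.ProjSpace n k) :=
    CohFound.isNoetherian_of_isProper (CohB1.ProjSpace n k ↘ Spec (CommRingCat.of k))
  let D := projData k n
  obtain ⟨m₁, hm₁⟩ : ∃ m₁, D.IsReg F m₁ := exists_isReg hF
  let m := m₁ + 1
  have h0 : Stage m 0 F := ⟨hF, by simpa [m] using hm₁.succ k, fun h => absurd h (by omega), fun i hi _ =>
    van_iso k (D.twIso _ (by simp only [m]; push_cast; ring)) (hm₁ i hi)⟩
  choose b φ hb hφ hnext using fun (j : ℕ) (s : {K // Stage (k := k) (n := n) m j K}) => s.2.exists_next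
  let S : (j : ℕ) → {K // Stage (k := k) (n := n) m j K} :=
    fun j => Nat.rec ⟨F, h0⟩ (fun i s => ⟨kernel (φ i s), hnext i s⟩) j
  let Z : ℕ → (CohB1.ProjSpace n k).Modules := fun j => ∐ fun _ : Fin (b j (S j)) => D.O (-(m + j))
  let f : ∀ j, Z j ⟶ (S j).1 := fun j => φ j (S j)
  let ι : ∀ j, (S (j + 1)).1 ⟶ Z j := fun j => kernel.ι (f j)
  have hι : ∀ j, ι j ≫ f j = 0 := fun j => kernel.condition _
  have hexact : ∀ j, (ShortComplex.mk (f (j + 1) ≫ ι j) (f j)
      (by rw [Category.assoc, hι, comp_zero])).Exact := fun j => by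
    haveI : Epi (f (j + 1)) := hφ _ _
    let τ : ShortComplex.mk (f (j + 1) ≫ ι j) (f j) (by rw [Category.assoc, hι, comp_zero]) ⟶
        ShortComplex.mk (ι j) (f j) (hι j) := { τ₁ := f (j + 1), τ₂ := 𝟙 _, τ₃ := 𝟙 _ }
    haveI : Epi τ.τ₁ := hφ _ _
    haveI : IsIso τ.τ₂ := inferInstanceAs (IsIso (𝟙 _))
    haveI : Mono τ.τ₃ := inferInstanceAs (Mono (𝟙 _))
    exact (ShortComplex.exact_iff_of_epi_of_isIso_of_mono τ).2 (ShortComplex.exact_kernel (f j))
  let d : ∀ j, Z (j + 1) ⟶ Z j := fun j => f (j + 1) ≫ ι j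
  have hsq : ∀ j, d (j + 1) ≫ d j = 0 := fun j => by
    simp only [d, Category.assoc]
    rw [← Category.assoc (ι (j + 1)), hι, zero_comp, comp_zero]
  have hexact' : ∀ j, (ShortComplex.mk (d (j + 1)) (d j) (hsq j)).Exact := fun j => by
    let τ : ShortComplex.mk (f (j + 2) ≫ ι (j + 1)) (f (j + 1)) (by rw [Category.assoc, hι, comp_zero]) ⟶
        ShortComplex.mk (d (j + 1)) (d j) (hsq j) :=
      { τ₁ := 𝟙 _, τ₂ := 𝟙 _, τ₃ := ι j, comm₁₂ := by simp [d], comm₂₃ := by simp [d] }
    haveI : Epi τ.τ₁ := inferInstanceAs (Epi (𝟙 _))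
    haveI : IsIso τ.τ₂ := inferInstanceAs (IsIso (𝟙 _))
    haveI : Mono τ.τ₃ := inferInstanceAs (Mono (ι j))
    exact (ShortComplex.exact_iff_of_epi_of_isIso_of_mono τ).1 (hexact (j + 1))
  let C := ChainComplex.of Z d hsq
  have hd : ∀ j, C.d (j + 1) j = d j := fun j => ChainComplex.of_d Z d j
  refine ⟨C, f 0, by rw [hd 0]; simp only [d, Category.assoc, hι, comp_zero], fun i hi => ?_,
    fun i => ⟨b i (S i), fun _ => -(m + i), ⟨Iso.refl _⟩⟩, fun i hi => ?_, hφ 0 (S 0), ?_⟩
  · have hz : IsZero (D.tw (S i).1 (m + i)) := Functor.map_isZero (M2.tensorR (D.O (m + i))) ((S i).2.isZero hi)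
    have hb0 : b i (S i) = 0 := by
      haveI := van_isZero k hz 0
      rw [hb i (S i)]
      exact Module.finrank_zero_of_subsingleton
    haveI : IsEmpty (Fin (b i (S i))) := by rw [hb0]; infer_instance
    exact (IsZero.iff_id_eq_zero _).2 (Sigma.hom_ext _ _ fun j => isEmptyElim j)
  · obtain ⟨p, rfl⟩ : ∃ p, i = p + 1 := ⟨i - 1, by omega⟩
    rw [← HomologicalComplex.exactAt_iff_isZero_homology,
      HomologicalComplex.exactAt_iff' _ (p + 2) (p + 1) p (by simp only [ChainComplex.prev]; rfl) (by simp)]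
    exact (ShortComplex.exact_iff_of_iso (ShortComplex.isoMk (Iso.refl _) (Iso.refl _) (Iso.refl _)
      (by simp [hd]) (by simp [hd]) : C.sc' (p + 2) (p + 1) p ≅ ShortComplex.mk _ _ (hsq p))).2 (hexact' p)
  · exact ShortComplex.exact_of_iso (ShortComplex.isoMk (Iso.refl _) (Iso.refl _) (Iso.refl _)
      (by simp [hd]) (by simp)) (hexact 0)

end Groth.Agent.CMReg18
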