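import Groth.Agent.Lib.CMReg18.BcTwist
import Groth.Agent.Lib.CMReg18.FlatVanish
import Groth.Agent.S4465
import Groth.Agent.S16761
import Groth.Agent.Lib.KFlat.LpullTensor
import Groth.Agent.Lib.CohFound.ModQuot
import Groth.Agent.Lib.ParaFDesc27.QcqsBC
import Groth.Agent.Lib.DPerf.RelAmp

/-!
# Base change of direct images of sufficiently high twists
-/

set_option autoImplicit false
set_option linter.style.haveILetI false
set_option backward.isDefEq.respectTransparency false
set_option maxHeartbeats 1200000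

universe u

open CategoryTheory CategoryTheory.Limits AlgebraicGeometry Scheme.Modules

namespace Groth.Agent.CMReg18

open Groth.Agent

variable {X S X' T : Scheme.{u}}

theorem isCoh_twist {F L : X.Modules} (hF : Coh.IsCoh F) (hL : PicF.IsInvertible L) (n : ℕ) :
    Coh.IsCoh (CohB1.tensorMod F (CohB1.tensorPow L n)) :=
  CohFound.isCoh_tensor hF (CohFound.isCoh_of_isFinLocFree
    (M2.isFinLocFree_of_isInvertible (Amp.isInvertible_tensorPow hL n)))

theorem isProperOver_support (f : X ⟶ S) [IsProper f] {M : X.Modules} (hM : Coh.IsCoh M) :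
    ClSub.IsProperOver f (CohB1.support M) :=
  ⟨M1.isClosed_support hM.2, inferInstance⟩

/-- A flat family has base change for all large twists. -/
theorem exists_forall_isIso_bc0_of_flat (f : X ⟶ S) [IsProper f] [IsNoetherian S] {F L : X.Modules}
    (hF : Coh.IsCoh F) (hfl : FlatMod.IsFlatOver f F) (hL : RelAmple.IsRelAmple f L) :
    ∃ N : ℕ, ∀ n, N ≤ n → ∀ ⦃X' T : Scheme.{u}⦄ (φ : T ⟶ S) (f' : X' ⟶ T) (g' : X' ⟶ X)
      (h : IsPullback g' f' f φ), IsIso (CohBC.bc0 f φ f' g' h.w (CohB1.tensorMod F (CohB1.tensorPow L n))) := by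
  obtain ⟨N, hN⟩ := exists_forall_subsingleton_fiberH hF hfl hL
  refine ⟨N, fun n hn X' T φ f' g' h => ?_⟩
  have hLi := RA.isInvertible_of_isRelAmple f hL
  have hG := isCoh_twist hF hLi n
  haveI : IsLocallyNoetherian X := LocallyOfFiniteType.isLocallyNoetherian f
  haveI : Coh.IsQCoh (CohB1.tensorMod F (CohB1.tensorPow L n)) := hG.1
  refine CBC10.isIso_bc0 h _ fun z => ?_
  obtain ⟨V, M, hzV, h1, -⟩ := CBC10.exists_nhd_H1 (M1.isFP_of_isCoh hG)
    (FlatTwist13.isFlatOver_tensor f hfl (Amp.isInvertible_tensorPow hLi n)) (φ z) (hN n hn (φ z) 1 le_rfl)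
  exact ⟨V, M, hzV, h1⟩

/-- Presentations by finite locally free modules over an affine base. -/
theorem exists_presentation (f : X ⟶ S) [QuasiCompact f] [IsNoetherian X] [IsAffine S] {F L : X.Modules}
    (hL : RelAmple.IsRelAmple f L) (hF : Coh.IsCoh F) :
    ∃ C : ShortComplex X.Modules, C.Exact ∧ Epi C.g ∧ FlatMod.IsFinLocFree C.X₁ ∧
      FlatMod.IsFinLocFree C.X₂ ∧ C.X₃ = F := by
  have hamp : CohB1.IsAmple L := (RA.isRelAmple_iff_isAmple f).1 hL
  have hLi := hamp.1
  have hepi : ∀ G : X.Modules, Coh.IsCoh G → ∃ (E : X.Modules) (p : E ⟶ G),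
      FlatMod.IsFinLocFree E ∧ Epi p := fun G hG => by
    obtain ⟨m, hm⟩ := RA.exists_globallyGenerated hamp G hG.1 hG.2
    obtain ⟨k, p, hp⟩ := CohFound.exists_epi_freeMod (isCoh_twist hG hLi m) (hm m le_rfl)
    obtain ⟨D, hD, ⟨e⟩⟩ := M2.exists_inverse (Amp.isInvertible_tensorPow hLi m)
    haveI := CohFound.epi_tensorMap p D
    exact ⟨CohB1.tensorMod (FlatMod.freeMod X k) D,
      M2.tensorMap p (𝟙 D) ≫ (M2.tensorAssoc _ _ _ ≪≫ M2.tensorIso (Iso.refl G) e ≪≫ M2.tensorRUnit G).hom,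
      M2.isFinLocFree_tensor (KFlat.Sch.isFinLocFree_freeMod X k) (M2.isFinLocFree_of_isInvertible hD), inferInstance⟩
  obtain ⟨E₀, p, hE₀, hp⟩ := hepi F hF
  have hK : Coh.IsCoh (kernel p) := M1.isCoh_kernel (CohFound.isCoh_of_isFinLocFree hE₀) hF.1 p
  obtain ⟨E₁, q, hE₁, hq⟩ := hepi (kernel p) hK
  refine ⟨ShortComplex.mk (q ≫ kernel.ι p) p (by simp), ?_, hp, hE₁, hE₀, rfl⟩
  let φ : ShortComplex.mk (q ≫ kernel.ι p) p (by simp) ⟶ ShortComplex.mk (kernel.ι p) p (by simp) :=
    ShortComplex.homMk q (𝟙 _) (𝟙 _) (by simp) (by simp)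
  haveI : Epi φ.τ₁ := hq
  haveI : IsIso φ.τ₂ := inferInstanceAs (IsIso (𝟙 _))
  haveI : Mono φ.τ₃ := inferInstanceAs (Mono (𝟙 _))
  exact (ShortComplex.exact_iff_of_epi_of_isIso_of_mono φ).2
    (ShortComplex.exact_of_f_is_kernel _ (kernelIsKernel p))

/-- Pullback commutes with twisting. -/
noncomputable def pullTwistIso (g' : X' ⟶ X) (L : X.Modules) (n : ℕ) :
    DCoh.tensorRightMod (CohB1.tensorPow L n) ⋙ Scheme.Modules.pullback g' ≅
      Scheme.Modules.pullback g' ⋙
        DCoh.tensorRightMod (CohB1.tensorPow ((Scheme.Modules.pullback g').obj L) n) :=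
  NatIso.ofComponents
    (fun M => M2.pullTensorIso g' M (CohB1.tensorPow L n) ≪≫
      M2.tensorIso (Iso.refl _) (M2.pullTensorPowIso g' L n)) fun {M N} a => by
    have h := KFlat.Sch.pullCmp_natural g' a (𝟙 (CohB1.tensorPow L n))
    rw [CategoryTheory.Functor.map_id] at h
    show (Scheme.Modules.pullback g').map (M2.tensorMap a (𝟙 _)) ≫ M2.pullCmp g' N _ ≫
        M2.tensorMap (𝟙 _) (M2.pullTensorPowIso g' L n).hom =
      (M2.pullCmp g' M _ ≫ M2.tensorMap (𝟙 _) (M2.pullTensorPowIso g' L n).hom) ≫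
        M2.tensorMap ((Scheme.Modules.pullback g').map a) (𝟙 _)
    rw [reassoc_of% h, Category.assoc, ← M2.tensorMap_comp, ← M2.tensorMap_comp]
    simp

/-- Eventual surjectivity of direct images of twisted epimorphisms. -/
theorem exists_forall_epi_push (f : X ⟶ S) [IsProper f] [IsNoetherian S] {E F L : X.Modules} (p : E ⟶ F) [Epi p]
    (hE : Coh.IsCoh E) (hF : Coh.IsCoh F) (hL : RelAmple.IsRelAmple f L) :
    ∃ N : ℕ, ∀ n, N ≤ n →
      Epi ((Coh.push f).map ((DCoh.tensorRightMod (CohB1.tensorPow L n)).map p)) := by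
  have hC : (ShortComplex.mk p (0 : F ⟶ F) comp_zero).Exact :=
    (ShortComplex.exact_iff_epi _ rfl).2 inferInstance
  obtain ⟨N, hN⟩ := S4465.result f L (RA.isInvertible_of_isRelAmple f hL) hL _ hC hE hF hF
    (isProperOver_support f hE) (isProperOver_support f hF)
  refine ⟨N, fun n hn => ?_⟩
  haveI : (Coh.push f).Additive := (pullbackPushforwardAdjunction f).right_adjoint_additive
  exact (ShortComplex.exact_iff_epi _ (by
    show (Coh.push f).map ((DCoh.tensorRightMod (CohB1.tensorPow L n)).map 0) = 0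
    rw [Functor.map_zero, Functor.map_zero])).1 (hN n hn)

/-- Base change is an isomorphism for high twists over an affine base. -/
theorem exists_forall_isIso_bc0_affine (f : X ⟶ S) [IsProper f] [Flat f] [IsNoetherian S] [IsAffine S]
    [IsNoetherian T] {φ : T ⟶ S} {f' : X' ⟶ T} {g' : X' ⟶ X} (h : IsPullback g' f' f φ) {F L : X.Modules}
    (hF : Coh.IsCoh F) (hL : RelAmple.IsRelAmple f L) :
    ∃ N : ℕ, ∀ n, N ≤ n → IsIso (CohBC.bc0 f φ f' g' h.w (CohB1.tensorMod F (CohB1.tensorPow L n))) := by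
  haveI : IsNoetherian X := { toIsLocallyNoetherian := LocallyOfFiniteType.isLocallyNoetherian f,
                              toCompactSpace := QuasiCompact.compactSpace_of_compactSpace f }
  haveI : IsProper f' := MorphismProperty.of_isPullback (P := @IsProper) h inferInstance
  haveI : IsNoetherian X' := { toIsLocallyNoetherian := LocallyOfFiniteType.isLocallyNoetherian f',
                               toCompactSpace := QuasiCompact.compactSpace_of_compactSpace f' }
  obtain ⟨C, hC, hg, h1, h2, hC3⟩ := exists_presentation f hL hF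
  subst hC3
  haveI := hg
  have hL' := RA.isRelAmple_of_isPullback h hL
  have hfl : ∀ {E : X.Modules}, FlatMod.IsFinLocFree E → FlatMod.IsFlatOver f E := fun hE =>
    DPerf.isFlatOver_of_isFlat f (KFlat.Sch.isFlat_of_isFinLocFree hE)
  have hc : ∀ {E : X.Modules}, FlatMod.IsFinLocFree E → Coh.IsCoh E := fun hE => CohFound.isCoh_of_isFinLocFree hE
  haveI : (Scheme.Modules.pullback g').Additive := (pullbackPushforwardAdjunction g').left_adjoint_additive
  haveI : PreservesColimitsOfSize.{0, 0} (Scheme.Modules.pullback g') :=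
    (pullbackPushforwardAdjunction g').leftAdjoint_preservesColimits
  haveI : (Scheme.Modules.pushforward f').Additive := (pullbackPushforwardAdjunction f').right_adjoint_additive
  haveI : (Scheme.Modules.pushforward f).Additive := (pullbackPushforwardAdjunction f).right_adjoint_additive
  let C' := C.map (Scheme.Modules.pullback g')
  have hC' : C'.Exact := hC.map_of_epi_of_preservesCokernel (Scheme.Modules.pullback g') hg inferInstance
  haveI : Epi C'.g := inferInstanceAs (Epi ((Scheme.Modules.pullback g').map C.g))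
  have hc' : ∀ {E : X.Modules}, Coh.IsCoh E → Coh.IsCoh ((Scheme.Modules.pullback g').obj E) := fun hE =>
    (M1.isCoh_iff_isFP _).2 (M1.isFP_pullback g' (M1.isFP_of_isCoh hE))
  obtain ⟨N₁, hN₁⟩ := exists_forall_isIso_bc0_of_flat f (hc h1) (hfl h1) hL
  obtain ⟨N₂, hN₂⟩ := exists_forall_isIso_bc0_of_flat f (hc h2) (hfl h2) hL
  obtain ⟨N₃, hN₃⟩ := exists_forall_epi_push f C.g (hc h2) hF hL
  obtain ⟨N₄, hN₄⟩ := exists_forall_epi_push f' C'.g (hc' (hc h2)) (hc' hF) hL'
  obtain ⟨N₅, hN₅⟩ := S4465.result f' _ (RA.isInvertible_of_isRelAmple f' hL') hL' C' hC' (hc' (hc h1))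
    (hc' (hc h2)) (hc' hF) (isProperOver_support f' (hc' (hc h1))) (isProperOver_support f' (hc' hF))
  refine ⟨N₁ + N₂ + N₃ + N₄ + N₅, fun n hn => ?_⟩
  let R := DCoh.tensorRightMod (CohB1.tensorPow L n)
  let R' := DCoh.tensorRightMod (CohB1.tensorPow ((Scheme.Modules.pullback g').obj L) n)
  let τ : R ⋙ Scheme.Modules.pullback g' ⋙ Scheme.Modules.pushforward f' ≅
      Scheme.Modules.pullback g' ⋙ R' ⋙ Scheme.Modules.pushforward f' :=
    (Functor.associator _ _ _).symm ≪≫ Functor.isoWhiskerRight (pullTwistIso g' L n) _ ≪≫ Functor.associator _ _ _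
  haveI i1 : IsIso (CohBC.bc0 f φ f' g' h.w (C.map R).X₁) := hN₁ n (by omega) φ f' g' h
  haveI i2 : IsIso (CohBC.bc0 f φ f' g' h.w (C.map R).X₂) := hN₂ n (by omega) φ f' g' h
  show IsIso (CohBC.bc0 f φ f' g' h.w (C.map R).X₃)
  refine isIso_bc0_of_presentation f φ f' g' h.w (C.map R) (hN₃ n (by omega)) ?_ ?_
  · haveI : Epi ((Scheme.Modules.pushforward f').map (R'.map C'.g)) := hN₄ n (by omega)
    show Epi ((R ⋙ Scheme.Modules.pullback g' ⋙ Scheme.Modules.pushforward f').map C.g)
    rw [← NatIso.naturality_2 τ C.g]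
    haveI : Epi ((Scheme.Modules.pullback g' ⋙ R' ⋙ Scheme.Modules.pushforward f').map C.g) := hN₄ n (by omega)
    exact epi_comp _ _
  · exact ShortComplex.exact_of_iso (ShortComplex.mapNatIso C τ).symm (hN₅ n (by omega))

end Groth.Agent.CMReg18
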