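import Groth.Agent.Lib.CMReg18.TwistBC
import Groth.Agent.Lib.FpqcFun14.Stalk

/-!
# Base change of high twists over any Noetherian base, uniformly on all fibres
-/

set_option autoImplicit false
set_option linter.style.haveILetI false
set_option backward.isDefEq.respectTransparency false
set_option maxHeartbeats 1200000

universe u

open CategoryTheory CategoryTheory.Limits AlgebraicGeometry Scheme.Modules

namespace Groth.Agent.CMReg18

open Groth.Agent

variable {X S X' T : Scheme.{u}}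

theorem isCoh_pullback_coh [IsLocallyNoetherian X'] (g' : X' ⟶ X) {F : X.Modules} [IsLocallyNoetherian X]
    (hF : Coh.IsCoh F) : Coh.IsCoh ((Scheme.Modules.pullback g').obj F) :=
  (M1.isCoh_iff_isFP _).2 (M1.isFP_pullback g' (M1.isFP_of_isCoh hF))

/-- The twist iso. -/
noncomputable def pullTwist (g' : X' ⟶ X) (F L : X.Modules) (n : ℕ) :
    (Scheme.Modules.pullback g').obj (CohB1.tensorMod F (CohB1.tensorPow L n)) ≅
      CohB1.tensorMod ((Scheme.Modules.pullback g').obj F)
        (CohB1.tensorPow ((Scheme.Modules.pullback g').obj L) n) :=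
  (pullTwistIso g' L n).app F

/-- Base change is an isomorphism for high twists. -/
theorem exists_forall_isIso_bc0 (f : X ⟶ S) [IsProper f] [Flat f] [IsNoetherian S]
    [IsNoetherian T] {φ : T ⟶ S} {f' : X' ⟶ T} {g' : X' ⟶ X} (h : IsPullback g' f' f φ) {F L : X.Modules}
    (hF : Coh.IsCoh F) (hL : RelAmple.IsRelAmple f L) :
    ∃ N : ℕ, ∀ n, N ≤ n → IsIso (CohBC.bc0 f φ f' g' h.w (CohB1.tensorMod F (CohB1.tensorPow L n))) := by
  classical
  haveI : IsLocallyNoetherian X := LocallyOfFiniteType.isLocallyNoetherian f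
  haveI : IsProper f' := MorphismProperty.of_isPullback (P := @IsProper) h inferInstance
  haveI : IsLocallyNoetherian X' := LocallyOfFiniteType.isLocallyNoetherian f'
  have hLi := RA.isInvertible_of_isRelAmple f hL
  obtain ⟨ι, hfin, W, hW, hWa⟩ := CBC10.exists_finite_affine_cover S
  have key : ∀ i, ∃ N : ℕ, ∀ n, N ≤ n → IsIso ((Scheme.Modules.pullback (φ ⁻¹ᵁ W i).ι).map
      (CohBC.bc0 f φ f' g' h.w (CohB1.tensorMod F (CohB1.tensorPow L n)))) := fun i => by
    let V := W i
    let U := φ ⁻¹ᵁ V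
    haveI : IsAffine (V : Scheme.{u}) := hWa i
    haveI : CompactSpace (V : Scheme.{u}) := inferInstance
    haveI : IsNoetherian (V : Scheme.{u}) := { }
    haveI : CompactSpace (U : Scheme.{u}) :=
      isCompact_iff_compactSpace.1 (TopologicalSpace.NoetherianSpace.isCompact (U : Set T))
    haveI : IsNoetherian (U : Scheme.{u}) := { }
    let fV := pullback.snd f V.ι
    let aV := pullback.fst f V.ι
    let fU := pullback.snd f' U.ι
    let aU := pullback.fst f' U.ι
    haveI : IsProper fV := inferInstanceAs (IsProper (pullback.snd f V.ι))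
    haveI : Flat fV := inferInstanceAs (Flat (pullback.snd f V.ι))
    haveI : IsLocallyNoetherian (pullback f V.ι) := LocallyOfFiniteType.isLocallyNoetherian fV
    haveI : IsProper fU := inferInstanceAs (IsProper (pullback.snd f' U.ι))
    have hV : IsPullback aV fV f V.ι := IsPullback.of_hasPullback _ _
    have hU : IsPullback aU fU f' U.ι := IsPullback.of_hasPullback _ _
    have e0 : φ ∣_ V ≫ V.ι = U.ι ≫ φ := morphismRestrict_ι φ V
    let b : pullback f' U.ι ⟶ pullback f V.ι :=
      pullback.lift (aU ≫ g') (fU ≫ φ ∣_ V) (by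
        rw [Category.assoc, h.w, ← Category.assoc, hU.w, Category.assoc, Category.assoc, e0])
    have hb1 : b ≫ aV = aU ≫ g' := pullback.lift_fst _ _ _
    have hb : IsPullback b fU fV (φ ∣_ V) := by
      refine IsPullback.of_right ?_ (pullback.lift_snd _ _ _) hV
      rw [hb1, e0]
      exact hU.paste_horiz h
    obtain ⟨N, hN⟩ := exists_forall_isIso_bc0_affine fV hb (isCoh_pullback_coh aV hF)
      (RA.isRelAmple_of_isPullback hV hL)
    refine ⟨N, fun n hn => ?_⟩
    let G := CohB1.tensorMod F (CohB1.tensorPow L n)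
    haveI hGq : Coh.IsQCoh G := (isCoh_twist hF hLi n).1
    haveI := hN n hn
    haveI i1 : IsIso (CohBC.bc0 fV (φ ∣_ V) fU b hb.w ((Scheme.Modules.pullback aV).obj G)) :=
      isIso_bc0_of_iso fV (φ ∣_ V) fU b hb.w (pullTwist aV F L n).symm
    haveI i2 : IsIso (CohBC.bc0 f V.ι fV aV hV.w G) := ParaFDesc27.isIso_bc0_of_flat hV G
    have w1 : (b ≫ aV) ≫ f = fU ≫ φ ∣_ V ≫ V.ι := (hb.paste_horiz hV).w
    have p1 := bc0_paste f V.ι fV aV hV.w (φ ∣_ V) fU b hb.w w1 G
    haveI i3 : IsIso (CohBC.bc0 f (φ ∣_ V ≫ V.ι) fU (b ≫ aV) w1 G) := by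
      haveI : IsIso ((pullbackComp (φ ∣_ V) V.ι).hom.app ((Scheme.Modules.pushforward f).obj G) ≫
          CohBC.bc0 f (φ ∣_ V ≫ V.ι) fU (b ≫ aV) w1 G) := by
        rw [p1]; infer_instance
      exact IsIso.of_isIso_comp_left ((pullbackComp (φ ∣_ V) V.ι).hom.app ((Scheme.Modules.pushforward f).obj G)) _
    have w2 : (aU ≫ g') ≫ f = fU ≫ U.ι ≫ φ := (hU.paste_horiz h).w
    haveI i4 : IsIso (CohBC.bc0 f (U.ι ≫ φ) fU (aU ≫ g') w2 G) := bc0_congr f _ fU _ w1 e0 hb1 w2 G
    have p2 := bc0_paste f φ f' g' h.w U.ι fU aU hU.w w2 G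
    haveI : Coh.IsQCoh ((Scheme.Modules.pullback g').obj G) := M1.isQCoh_pullback g' hGq
    haveI i5 : IsIso (CohBC.bc0 f' U.ι fU aU hU.w ((Scheme.Modules.pullback g').obj G)) :=
      ParaFDesc27.isIso_bc0_of_flat hU _
    haveI : IsIso ((Scheme.Modules.pullback U.ι).map (CohBC.bc0 f φ f' g' h.w G) ≫
        (CohBC.bc0 f' U.ι fU aU hU.w ((Scheme.Modules.pullback g').obj G) ≫
          (Scheme.Modules.pushforward fU).map ((pullbackComp aU g').hom.app G))) := by
      rw [← p2]; infer_instance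
    exact IsIso.of_isIso_comp_right _
      (CohBC.bc0 f' U.ι fU aU hU.w ((Scheme.Modules.pullback g').obj G) ≫
        (Scheme.Modules.pushforward fU).map ((pullbackComp aU g').hom.app G))
  choose N hN using key
  haveI := Fintype.ofFinite ι
  refine ⟨Finset.univ.sup N, fun n hn => FpqcFun14.isIso_of_cover _ fun t => ?_⟩
  obtain ⟨i, hi⟩ := TopologicalSpace.Opens.mem_iSup.1 (hW (show φ t ∈ (⊤ : S.Opens) from trivial))
  exact ⟨_, (φ ⁻¹ᵁ W i).ι, inferInstance, ⟨⟨t, hi⟩, rfl⟩, hN i n ((Finset.le_sup (Finset.mem_univ i)).trans hn)⟩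

end Groth.Agent.CMReg18
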