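import Groth.Agent.Lib.CMReg18.RegPn
import Groth.Agent.Lib.CMReg18.FibHilb
import Groth.Agent.Lib.CBC10.Rows0
import Groth.Agent.Lib.FlatTwist13.Main
import Groth.Agent.Lib.RelAmple18.Basic

/-!
# Uniform vanishing on the fibres of a flat family, over any base
-/

set_option autoImplicit false
set_option linter.style.haveILetI false
set_option backward.isDefEq.respectTransparency false
set_option maxHeartbeats 1600000

universe u

open CategoryTheory CategoryTheory.Limits AlgebraicGeometry TopologicalSpace Opposite Scheme.Modules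

namespace Groth.Agent.CMReg18

open Groth.Agent

variable {X S : Scheme.{u}} {f : X ⟶ S} [IsProper f] [LocallyOfFinitePresentation f] {F : X.Modules}

omit [IsProper f] [LocallyOfFinitePresentation f] in
theorem subsingleton_fiberH_tw_iff (D : TwistData X) (a : ℤ) (s : S) (p : ℕ) :
    Subsingleton (CohIII.fiberH f (D.tw F a) s p) ↔
      Subsingleton (Coh.HH (f.fiber s)
        ((D.pullback (f.fiberι s)).tw ((Scheme.Modules.pullback (f.fiberι s)).obj F) a) p) := by
  letI : (f.fiber s).Over (Spec (CommRingCat.of (S.residueField s))) := ⟨f.fiberToSpecResidueField s⟩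
  exact ⟨van_iso (S.residueField s) (M2.pullTensorIso (f.fiberι s) F (D.O a)),
    van_iso (S.residueField s) (M2.pullTensorIso (f.fiberι s) F (D.O a)).symm⟩

/-- Near every point the twists of a flat family have uniformly acyclic fibres. -/
theorem exists_nhd_vanishing (hF : CohB1.IsFP F) (hfl : FlatMod.IsFlatOver f F) (D : TwistData X)
    (hA : RelAmple.IsRelAmple f (D.O 1)) (s : S) :
    ∃ (U : S.Opens) (N : ℕ), s ∈ U ∧ ∀ s' ∈ U, ∀ a : ℤ, (N : ℤ) ≤ a → ∀ p : ℕ, 1 ≤ p →
      Subsingleton (CohIII.fiberH f (D.tw F a) s' p) := by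
  classical
  haveI : HasInjectiveResolutions X.Modules := CohFound.hasInjectiveResolutions_modules X
  obtain ⟨V, d, hsV, hV⟩ := exists_nhd_dim_fiber_le f s
  have hq : ∀ a, Coh.IsQCoh (D.tw F a) := fun a => M1.isFP_isQCoh (isFP_tensor_inv hF (D.inv a))
  have hfla : ∀ a, FlatMod.IsFlatOver f (D.tw F a) := fun a => FlatTwist13.isFlatOver_tensor f hfl (D.inv a)
  let κ : Type u := S.residueField s
  letI : (f.fiber s).Over (Spec (CommRingCat.of κ)) := ⟨f.fiberToSpecResidueField s⟩
  let Ds := D.pullback (f.fiberι s)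
  let Fs := (Scheme.Modules.pullback (f.fiberι s)).obj F
  haveI : IsProper (f.fiber s ↘ Spec (CommRingCat.of κ)) :=
    inferInstanceAs (IsProper (pullback.snd f (S.fromSpecResidueField s)))
  haveI : IsNoetherian (f.fiber s) := CohFound.isNoetherian_of_isProper (f.fiber s ↘ Spec (CommRingCat.of κ))
  have hFs : Coh.IsCoh Fs := (M1.isCoh_iff_isFP _).2 (M1.isFP_pullback _ hF)
  have hAs : CohB1.IsAmple (Ds.O 1) :=
    (RA.isRelAmple_iff_isAmple (f := f.fiber s ↘ Spec (CommRingCat.of κ))).1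
      (RA.isRelAmple_of_isPullback (IsPullback.of_hasPullback f (S.fromSpecResidueField s)) hA)
  obtain ⟨n₀, hn₀⟩ := CohFound.exists_vanishing_all (R := κ) (f.fiber s ↘ Spec (CommRingCat.of κ)) hAs hFs
  let m : ℤ := (n₀ + d : ℕ)
  have h0 : ∀ i : ℕ, 1 ≤ i → i ≤ d → Subsingleton (CohIII.fiberH f (D.tw F (m - i)) s i) := fun i hi hid => by
    refine (subsingleton_fiberH_tw_iff D _ s i).2 ?_
    exact van_iso κ (M2.tensorIso (Iso.refl Fs) (Ds.powIso (n₀ + d - i)) ≪≫ Ds.twIso Fs (by omega))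
      ((CohFound.subsingleton_HH_iff _ _).2 (hn₀ _ (by omega) i hi))
  have hU : ∀ i : ℕ, 1 ≤ i → i ≤ d → ∃ W : S.Opens, s ∈ W ∧ ∀ y ∈ W,
      Subsingleton (CohIII.fiberH f (D.tw F (m - i)) y i) := fun i hi hid => by
    haveI := hq (m - i)
    obtain ⟨W₀, -, M, hsW⟩ := CBC10.exists_model_at f _ (isFP_tensor_inv hF (D.inv (m - i))) (hfla _)
      (U := ⊤) (s := s) trivial
    obtain ⟨W, -, -, hs, -, -, -, h⟩ := M.exists_zero_nhd (hq _) hsW i (h0 i hi hid)
    exact ⟨W, hs, h⟩
  choose W hsW hW using hU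
  let U : S.Opens := V ⊓ Finset.univ.inf fun i : Fin d => W (i + 1) (by omega) i.2
  have hsU : s ∈ U := ⟨hsV, show s ∈ ((Finset.univ.inf fun i : Fin d => W (i + 1) (by omega) i.2 : S.Opens) : Set S) by
    rw [Opens.coe_finset_inf, Finset.inf_eq_iInf]
    exact Set.mem_iInter₂.2 fun i _ => hsW _ _ _⟩
  refine ⟨U, n₀ + d, hsU, fun y hy a ha p hp => ?_⟩
  letI : (f.fiber y).Over (Spec (CommRingCat.of (S.residueField y))) := ⟨f.fiberToSpecResidueField y⟩
  have hreg : (D.pullback (f.fiberι y)).IsReg ((Scheme.Modules.pullback (f.fiberι y)).obj F) m := fun i hi => by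
    refine (subsingleton_fiberH_tw_iff D _ y i).1 ?_
    by_cases hid : i ≤ d
    · obtain ⟨j, rfl⟩ : ∃ j, i = j + 1 := ⟨i - 1, by omega⟩
      exact hW (j + 1) hi hid y
        (Finset.inf_le (f := fun i : Fin d => W (i + 1) (by omega) i.2) (Finset.mem_univ ⟨j, by omega⟩) hy.2)
    · haveI := hq (m - i)
      exact CBC10.subsingleton_fiberH_of_dim y (hV y hy.1) (by omega)
  exact (subsingleton_fiberH_tw_iff D a y p).2 (hreg.van (S.residueField y) hp (by omega))

/-- Over a quasi-compact base the twists of a flat family have uniformly acyclic fibres. -/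
theorem exists_forall_vanishing [CompactSpace S] (hF : CohB1.IsFP F) (hfl : FlatMod.IsFlatOver f F)
    (D : TwistData X) (hA : RelAmple.IsRelAmple f (D.O 1)) :
    ∃ N : ℕ, ∀ (s : S) (a : ℤ), (N : ℤ) ≤ a → ∀ p : ℕ, 1 ≤ p →
      Subsingleton (CohIII.fiberH f (D.tw F a) s p) := by
  classical
  choose U N hsU hU using exists_nhd_vanishing hF hfl D hA
  obtain ⟨t, ht⟩ := isCompact_univ.elim_finite_subcover (fun s => (U s : Set S)) (fun s => (U s).isOpen)
    fun s _ => Set.mem_iUnion.2 ⟨s, hsU s⟩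
  refine ⟨t.sup N, fun y a ha p hp => ?_⟩
  obtain ⟨s, hst, hy⟩ := Set.mem_iUnion₂.1 (ht (Set.mem_univ y))
  exact hU s y hy a (le_trans (Int.ofNat_le.2 (Finset.le_sup hst)) ha) p hp

/-- Vanishing of a higher direct image from the fibres. -/
theorem isZero_rpushAb_of_fibres {G : X.Modules} (hG : CohB1.IsFP G) (hfl : FlatMod.IsFlatOver f G) (p : ℕ)
    (h : ∀ s : S, Subsingleton (CohIII.fiberH f G s p)) : IsZero ((Coh.RpushAb f p).obj (Coh.toAb G)) := by
  haveI : HasInjectiveResolutions X.Modules := CohFound.hasInjectiveResolutions_modules X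
  haveI hq : Coh.IsQCoh G := M1.isFP_isQCoh hG
  have hM : ∀ s : S, ∃ (V : S.Opens) (M : CBC10.Model f G V), s ∈ V ∧
      IsZero (((Coh.Rpush f p).obj G).restrict M.isAffine.fromSpec) := fun s => by
    obtain ⟨V, -, M, hs⟩ := CBC10.exists_model_at f G hG hfl (U := ⊤) (s := s) trivial
    obtain ⟨V', -, M', hs', -, -, hz, -⟩ := M.exists_zero_nhd hq hs p (h s)
    exact ⟨V', M', hs', hz⟩
  choose V M hs hz using hM
  refine CohFound.isZero_rpushAb_of_cover f G hq V (fun s => (M s).isAffine) (fun s => ⟨s, hs s⟩) p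
    fun s => (CohFound.subsingleton_HH_iff _ _).1 ?_
  obtain ⟨i⟩ := (M s).computes.nonempty_rpush_iso hq p
  have h0 : IsZero (CohIII.T (M s).P (-(p : ℤ)) (ModuleCat.of Γ(S, V s) Γ(S, V s))) := by
    rw [IsZero.iff_id_eq_zero]
    refine (tilde.functor (CommRingCat.of Γ(S, V s))).map_injective ?_
    rw [Functor.map_zero, CategoryTheory.Functor.map_id]
    exact ((hz s).of_iso i.symm).eq_of_src _ _
  haveI := ModuleCat.subsingleton_of_isZero h0
  letI := CBC10.overU f (M s).isAffine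
  haveI := CBC10.isProper_overU f (M s).isAffine
  haveI : CompactSpace (f ⁻¹ᵁ V s : X.Opens).toScheme :=
    QuasiCompact.compactSpace_of_compactSpace ((f ⁻¹ᵁ V s : X.Opens).toScheme ↘ Spec (CommRingCat.of Γ(S, V s)))
  haveI : ((f ⁻¹ᵁ V s : X.Opens).toScheme).IsSeparated := ⟨by
    rw [← terminal.comp_from ((f ⁻¹ᵁ V s : X.Opens).toScheme ↘ Spec (CommRingCat.of Γ(S, V s)))]
    infer_instance⟩
  obtain ⟨e⟩ := CBC10.Computes.exists_unit (A := Γ(S, V s)) (M s).computes (M1.isQCoh_restrict hq _) p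
  exact e.symm.toEquiv.subsingleton

/-- Acyclic fibres: a locally free direct image and no higher ones. -/
theorem isFinLocFree_push_of_vanishing {G : X.Modules} (hG : CohB1.IsFP G) (hfl : FlatMod.IsFlatOver f G)
    (h : ∀ (s : S) (p : ℕ), 1 ≤ p → Subsingleton (CohIII.fiberH f G s p)) :
    FlatMod.IsFinLocFree ((Scheme.Modules.pushforward f).obj G) ∧
      ∀ p : ℕ, 1 ≤ p → IsZero ((Coh.RpushAb f p).obj (Coh.toAb G)) := by
  haveI : HasInjectiveResolutions X.Modules := CohFound.hasInjectiveResolutions_modules X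
  haveI hq : Coh.IsQCoh G := M1.isFP_isQCoh hG
  refine ⟨CBC10.isFinLocFree_push fun s => ?_, fun p hp => ?_⟩
  · obtain ⟨V, M, hs, h1, -⟩ := CBC10.exists_nhd_H1 hG hfl s (h s 1 le_rfl)
    exact ⟨V, M, hs, h1⟩
  · exact isZero_rpushAb_of_fibres hG hfl p fun s => h s p hp

end Groth.Agent.CMReg18
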